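import Groth.Agent.Lib.RelPCS8.Push
import Groth.Agent.Lib.DPerf.Single

/-!
# The `(-1)`-test for the structure sheaf on a chart
-/

universe u

open CategoryTheory Limits AlgebraicGeometry Opposite TopologicalSpace

attribute [local instance] HasDerivedCategory.standard

set_option backward.isDefEq.respectTransparency false

namespace Groth.Agent.RelPCS8

variable {X : Scheme.{u}}

theorem isPC_negOne_iff (F : X.Modules) :
    DCoh.IsPseudoCoherentD (-1) (DCoh.inD X F) ↔ CohB1.IsFP F := by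
  refine ⟨fun h => ?_, fun h => DPerf.isPseudoCoherentD_of_approx (DPerf.approx_inD_of_isFP h)⟩
  exact M1.isFP_of_isIso (DPerf.hdInDIso F)
    (DPerf.finitePresentation_top h fun i hi => DPerf.isZero_HD_inD F (by omega))

theorem pc_of_iso {m : ℤ} {K L : DCoh.D X} (e : K ≅ L) (h : DCoh.IsPseudoCoherentD m K) :
    DCoh.IsPseudoCoherentD m L :=
  DPerf.isPseudoCoherentD_of_approx ((DPerf.approx_of_isPseudoCoherentD h).of_iso e)

/-- Direct image of the unit complex along a chart. -/
noncomputable def chartSingleIso {U : X.Opens} {Z : Scheme.{u}} (g : (U : Scheme.{u}) ⟶ Z) (F : X.Modules) :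
    (DerSch.pushCx g).obj ((DCoh.restrictCx U).obj
        ((HomologicalComplex.single X.Modules (ComplexShape.up ℤ) 0).obj F)) ≅
      (HomologicalComplex.single Z.Modules (ComplexShape.up ℤ) 0).obj
        ((Scheme.Modules.pushforward g).obj (F.restrict U.ι)) :=
  (DerSch.pushCx g).mapIso ((HomologicalComplex.singleMapHomologicalComplex (Scheme.Modules.restrictFunctor U.ι)
    (ComplexShape.up ℤ) 0).app F) ≪≫
    (HomologicalComplex.singleMapHomologicalComplex (Scheme.Modules.pushforward g) (ComplexShape.up ℤ) 0).app _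

/-- Transfer of a chart condition to an isomorphic complex. -/
theorem chartPC_iff_rep {Y : Scheme.{u}} {U : X.Opens} {V : Y.Opens} {n : ℕ} (hU : IsAffineOpen U)
    (φ : MvPolynomial (Fin n) Γ(Y, V) →+* Γ(X, U)) (hφ : Function.Surjective φ) (m : ℤ)
    (G : CochainComplex X.Modules ℤ) :
    DerSch.ChartPC m (DCoh.toD X G) U V φ ↔
      DCoh.IsPseudoCoherentD m (DCoh.toD _ ((DerSch.pushCx (DerSch.chartImm U φ)).obj ((DCoh.restrictCx U).obj G))) := by
  refine ⟨fun h => h G ⟨Iso.refl _⟩, fun h G' ⟨e⟩ => ?_⟩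
  haveI := isClosedImmersion_chartImm hU φ hφ
  haveI := preservesHomology_push (DerSch.chartImm U φ)
  haveI : PreservesFiniteLimits (Scheme.Modules.pushforward (DerSch.chartImm U φ)) :=
    (Functor.preservesFiniteLimits_iff_forall_exact_map_and_mono _).2 fun S hS =>
      haveI := hS.mono_f
      ⟨hS.exact.map _, inferInstanceAs (Mono ((Scheme.Modules.pushforward (DerSch.chartImm U φ)).map S.f))⟩
  haveI : PreservesFiniteColimits (Scheme.Modules.pushforward (DerSch.chartImm U φ)) :=
    (Functor.preservesFiniteColimits_iff_forall_exact_map_and_epi _).2 fun S hS =>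
      haveI := hS.epi_g
      ⟨hS.exact.map _, inferInstanceAs (Epi ((Scheme.Modules.pushforward (DerSch.chartImm U φ)).map S.g))⟩
  let Φ := Scheme.Modules.restrictFunctor U.ι ⋙ Scheme.Modules.pushforward (DerSch.chartImm U φ)
  let e' := ((Φ.mapDerivedCategoryFactors).app G').symm ≪≫ Φ.mapDerivedCategory.mapIso e ≪≫
    (Φ.mapDerivedCategoryFactors).app G
  exact pc_of_iso e'.symm h

/-- The kernel criterion on a chart. -/
theorem chartPC_unit_iff {Y : Scheme.{u}} {U : X.Opens} {V : Y.Opens} {n : ℕ} (hU : IsAffineOpen U)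
    (φ : MvPolynomial (Fin n) Γ(Y, V) →+* Γ(X, U)) (hφ : Function.Surjective φ) :
    DerSch.ChartPC (-1) (DCoh.toD X (DerSch.unitCx X)) U V φ ↔ (RingHom.ker φ).FG := by
  rw [chartPC_iff_rep hU φ hφ]
  haveI := isClosedImmersion_chartImm hU φ hφ
  let g := DerSch.chartImm U φ
  let F := (Scheme.Modules.pushforward g).obj ((Coh.structureModule X).restrict U.ι)
  have hq : Coh.IsQCoh F := M1.isQCoh_push g (M1.isQCoh_restrict (M1.isQCoh_structureModule X) _)
  have h1 : DCoh.IsPseudoCoherentD (-1) (DCoh.toD _ ((DerSch.pushCx g).obj ((DCoh.restrictCx U).obj (DerSch.unitCx X)))) ↔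
      DCoh.IsPseudoCoherentD (-1) (DCoh.inD _ F) := by
    let e := DerivedCategory.Q.mapIso (chartSingleIso g (Coh.structureModule X)) ≪≫
      ((DerivedCategory.singleFunctorIsoCompQ (Spec (CommRingCat.of (MvPolynomial (Fin n) Γ(Y, V)))).Modules 0).app F).symm
    exact ⟨pc_of_iso e, pc_of_iso e.symm⟩
  rw [h1, isPC_negOne_iff, M1.isFP_iff_finitePresentation_spec F hq]
  let M : ModuleCat (MvPolynomial (Fin n) Γ(Y, V)) :=
    (moduleSpecΓFunctor (R := CommRingCat.of (MvPolynomial (Fin n) Γ(Y, V)))).obj F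
  let one : M := (1 : Γ(X, U.ι ''ᵁ ⊤))
  let l : MvPolynomial (Fin n) Γ(Y, V) →ₗ[MvPolynomial (Fin n) Γ(Y, V)] M := LinearMap.toSpanSingleton _ M one
  let σ : MvPolynomial (Fin n) Γ(Y, V) →+* Γ(X, U.ι ''ᵁ ⊤) :=
    (U.ι.appIso ⊤).inv.hom.comp (g.appTop.hom.comp (Scheme.ΓSpecIso (CommRingCat.of (MvPolynomial (Fin n) Γ(Y, V)))).inv.hom)
  have hl : ∀ p, l p = σ p := fun p => by
    show σ p * (1 : Γ(X, U.ι ''ᵁ ⊤)) = σ p
    rw [mul_one]
  have hσ : σ = (X.presheaf.map (eqToHom (M1.image_ι_top U)).op).hom.comp φ := by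
    refine RingHom.ext fun p => ?_
    have h2 : g.appTop ((Scheme.ΓSpecIso (CommRingCat.of (MvPolynomial (Fin n) Γ(Y, V)))).inv p) =
        U.topIso.inv (φ p) := by
      show (U.toSpecΓ ≫ Spec.map (CommRingCat.ofHom φ)).appTop _ = _
      rw [Scheme.Hom.comp_appTop, ConcreteCategory.comp_apply,
        ← ConcreteCategory.comp_apply, ← ConcreteCategory.comp_apply, ← Scheme.ΓSpecIso_inv_naturality_assoc,
        Scheme.Opens.toSpecΓ_appTop, Iso.inv_hom_id_assoc]
      rfl
    show (U.ι.appIso ⊤).inv _ = _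
    rw [RingHom.comp_apply, h2]
    simp [Scheme.Opens.topIso]
    rfl
  have hker : LinearMap.ker l = RingHom.ker φ := by
    ext p
    rw [LinearMap.mem_ker, hl, hσ, RingHom.mem_ker, RingHom.comp_apply]
    exact map_eq_zero_iff _ ((ConcreteCategory.bijective_of_isIso (X.presheaf.map (eqToHom (M1.image_ι_top U)).op)).1)
  have hsur : Function.Surjective l := fun m => by
    obtain ⟨y, hy⟩ := ((ConcreteCategory.bijective_of_isIso (X.presheaf.map (eqToHom (M1.image_ι_top U)).op)).2 m)
    obtain ⟨p, rfl⟩ := hφ y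
    exact ⟨p, by rw [hl, hσ]; exact hy⟩
  constructor
  · intro h
    haveI := h
    rw [← hker]
    exact Module.FinitePresentation.fg_ker l hsur
  · intro h
    exact Module.finitePresentation_of_surjective l hsur (by rw [hker]; exact h)

end Groth.Agent.RelPCS8
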