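import Groth.Agent.Lib.RelPCS8.ClosedPush
import Groth.Agent.Lib.RelPCS8.Unit
import Groth.Agent.Lib.DPerf.Tilde
import Groth.Agent.Lib.PCMor4.Hom

/-!
# The pseudo-coherence test along a closed immersion of an affine open into the spectrum of a ring
-/

universe u

open CategoryTheory Limits CategoryTheory.Pretriangulated AlgebraicGeometry Opposite TopologicalSpace

attribute [local instance] HasDerivedCategory.standard

set_option backward.isDefEq.respectTransparency false

namespace Groth.Agent.RelPCS8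

section General

variable {X Y Z W : Scheme.{u}}

/-- Direct image of a composite. -/
noncomputable def pushDComp (i : W ⟶ Z) (j : Z ⟶ X) [IsClosedImmersion i] [IsClosedImmersion j] :
    pushD i ⋙ pushD j ≅ pushD (i ≫ j) :=
  letI : Localization.Lifting DerivedCategory.Q
      (HomologicalComplex.quasiIso W.Modules (ComplexShape.up ℤ))
      (pushX i ⋙ pushX j ⋙ DerivedCategory.Q) (pushD i ⋙ pushD j) :=
    ⟨(Functor.associator _ _ _).symm ≪≫ Functor.isoWhiskerRight (pushFac i) _ ≪≫ Functor.associator _ _ _ ≪≫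
      Functor.isoWhiskerLeft _ (pushFac j)⟩
  letI : Localization.Lifting DerivedCategory.Q
      (HomologicalComplex.quasiIso W.Modules (ComplexShape.up ℤ))
      (pushX (i ≫ j) ⋙ DerivedCategory.Q) (pushD (i ≫ j)) := ⟨pushFac (i ≫ j)⟩
  Localization.liftNatIso DerivedCategory.Q (HomologicalComplex.quasiIso W.Modules (ComplexShape.up ℤ))
    (pushX i ⋙ pushX j ⋙ DerivedCategory.Q) (pushX (i ≫ j) ⋙ DerivedCategory.Q) _ _
    ((Functor.associator _ _ _).symm ≪≫
      Functor.isoWhiskerRight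
        (NatIso.mapHomologicalComplex (Scheme.Modules.pushforwardComp i j) (ComplexShape.up ℤ)) _)

theorem pc_tilde_module {A : CommRingCat.{u}} (F : (Spec A).Modules) (hF : Coh.IsQCoh F) (m : ℤ)
    (h : DRing.IsPseudoCoherentModule A m ((moduleSpecΓFunctor (R := A)).obj F)) :
    DPerf.Approx (Set.Ici m) (DCoh.inD (Spec A) F) := by
  haveI : F.IsQuasicoherent := hF
  exact (DPerf.approx_tilde_of_pc h).of_iso
    (((tilde.functor A).mapDerivedCategorySingleFunctor 0).app _ ≪≫
      (DerivedCategory.singleFunctor (Spec A).Modules 0).mapIso (@asIso _ _ _ _ F.fromTildeΓ (Scheme.Modules.isIso_fromTildeΓ_of_isQuasicoherent (R := A) F)))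

/-- A surjective ring map with pseudo-coherent target gives a closed immersion with pseudo-coherent
structure sheaf. -/
theorem pushOPC_spec {A B : CommRingCat.{u}} (σ : A ⟶ B) [IsClosedImmersion (Spec.map σ)]
    (h : PCMor4.PCR σ.hom) : PushOPC (Spec.map σ) := fun m => by
  let F := (Scheme.Modules.pushforward (Spec.map σ)).obj (Coh.structureModule (Spec B))
  have hq : Coh.IsQCoh F := M1.isQCoh_push _ (M1.isQCoh_structureModule _)
  letI : Algebra A B := σ.hom.toAlgebra
  let M : ModuleCat.{u} A := (moduleSpecΓFunctor (R := A)).obj F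
  let T : ↑B → ↑M := fun b => (Scheme.ΓSpecIso B).inv b
  let e : (B : Type u) ≃ₗ[A] M :=
    LinearEquiv.ofBijective
      { toFun := T
        map_add' := fun a b => map_add (Scheme.ΓSpecIso B).inv.hom a b
        map_smul' := fun a b => by
          show T (a • b) = a • T b
          show (Scheme.ΓSpecIso B).inv (σ a * b) =
            (Spec.map σ).appTop ((Scheme.ΓSpecIso A).inv a) * (Scheme.ΓSpecIso B).inv b
          rw [map_mul, ← ConcreteCategory.comp_apply, ← ConcreteCategory.comp_apply,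
            Scheme.ΓSpecIso_inv_naturality] }
      (ConcreteCategory.bijective_of_isIso (Scheme.ΓSpecIso B).inv)
  exact pc_tilde_module F hq m
    (DMod.pc_mono (by omega) (PCMor4.pcn_equiv e (h (-m).toNat)))

/-- Restriction along equal morphisms. -/
noncomputable def resDCongr {j j' : Y ⟶ X} (h : j = j') [IsOpenImmersion j] [IsOpenImmersion j'] :
    DPerf.resD j ≅ DPerf.resD j' := by
  subst h
  exact Iso.refl _

theorem approx_of_cover {s : Set ℤ} {K : DCoh.D X}
    (h : ∀ x : X, ∃ (V : Scheme.{u}) (j : V ⟶ X) (_ : IsOpenImmersion j), x ∈ Set.range j ∧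
      DPerf.Approx s ((DPerf.resD j).obj K)) : DPerf.Approx s K := fun x => by
  obtain ⟨V, j, hj, ⟨y, hy⟩, hV⟩ := h x
  obtain ⟨Z, k, hk, hz, hZ⟩ := hV y
  exact ⟨Z, k ≫ j, inferInstance, DPerf.range_comp_mem j k hy hz, hZ.transport j k⟩

theorem approx_res {s : Set ℤ} {K : DCoh.D X} (h : DPerf.Approx s K) (j : Y ⟶ X) [IsOpenImmersion j] :
    DPerf.Approx s ((DPerf.resD j).obj K) := fun y => by
  obtain ⟨W, hyW, hW⟩ := h.exists_opens (j y)
  let V := W ⊓ j.opensRange
  have hV : Set.range V.ι ⊆ Set.range j := by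
    rw [Scheme.Opens.range_ι]; exact fun z hz => hz.2
  let k := IsOpenImmersion.lift j V.ι hV
  have hk : k ≫ j = V.ι := IsOpenImmersion.lift_fac _ _ _
  obtain ⟨E, hE, α, hα⟩ := (hW V inf_le_left).res (𝟙 _) (i := k ≫ j) (by rw [Category.id_comp, hk])
  refine ⟨_, k, inferInstance, ⟨⟨j y, hyW, y, rfl⟩, ?_⟩, E, hE, α ≫ (DPerf.resDComp j k).inv.app K,
    hα.comp (@DPerf.dcond_of_isIso _ _ _ _ _ _ _ _ ((DPerf.resDComp j k).app K).isIso_inv)⟩
  exact j.isOpenEmbedding.injective (by rw [← Scheme.Hom.comp_apply, hk]; rfl)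

end General

section Imm

variable {X : Scheme.{u}} {P : Type u} [CommRing P]

/-- The morphism of an open to the spectrum of a ring mapping to its sections. -/
noncomputable def imm (U : X.Opens) (φ : P →+* Γ(X, U)) : (U : Scheme.{u}) ⟶ Spec (CommRingCat.of P) :=
  U.toSpecΓ ≫ Spec.map (CommRingCat.ofHom φ)

theorem isClosedImmersion_imm {U : X.Opens} (hU : IsAffineOpen U) (φ : P →+* Γ(X, U))
    (hφ : Function.Surjective φ) : IsClosedImmersion (imm U φ) := by
  haveI : IsClosedImmersion (Spec.map (CommRingCat.ofHom φ)) :=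
    IsClosedImmersion.spec_of_surjective _ (by exact hφ)
  haveI : IsIso U.toSpecΓ := by rw [← hU.isoSpec_hom]; infer_instance
  exact inferInstanceAs (IsClosedImmersion (U.toSpecΓ ≫ Spec.map (CommRingCat.ofHom φ)))

theorem imm_comp (U : X.Opens) (φ : P →+* Γ(X, U)) {P' : Type u} [CommRing P'] (σ : P' →+* P) :
    imm U (φ.comp σ) = imm U φ ≫ Spec.map (CommRingCat.ofHom σ) := by
  rw [imm, imm, CommRingCat.ofHom_comp, Spec.map_comp]
  exact (Category.assoc _ _ _).symm

/-- The `m`-pseudo-coherence test along `φ`. -/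
def Test (m : ℤ) (K : DCoh.D X) (U : X.Opens) (φ : P →+* Γ(X, U)) : Prop :=
  ∀ _ : IsClosedImmersion (imm U φ), DPerf.Approx (Set.Ici m) ((pushD (imm U φ)).obj ((DPerf.resD U.ι).obj K))

theorem chartPC_iff_test {Y : Scheme.{u}} {U : X.Opens} {V : Y.Opens} {n : ℕ} (hU : IsAffineOpen U)
    (φ : MvPolynomial (Fin n) Γ(Y, V) →+* Γ(X, U)) (hφ : Function.Surjective φ) (m : ℤ) (K : DCoh.D X) :
    DerSch.ChartPC m K U V φ ↔ Test m K U φ := by
  obtain ⟨G, ⟨eG⟩⟩ := Functor.EssSurj.mem_essImage (F := (DerivedCategory.Q : CochainComplex X.Modules ℤ ⥤ _)) K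
  haveI := isClosedImmersion_chartImm hU φ hφ
  haveI : IsClosedImmersion (imm U φ) := isClosedImmersion_chartImm hU φ hφ
  let e : (pushD (imm U φ)).obj ((DPerf.resD U.ι).obj K) ≅
      DCoh.toD _ ((DerSch.pushCx (DerSch.chartImm U φ)).obj ((DCoh.restrictCx U).obj G)) :=
    (pushD (imm U φ)).mapIso ((DPerf.resD U.ι).mapIso eG.symm ≪≫ (DPerf.resFac U.ι).app G) ≪≫
      (pushFac (imm U φ)).app _
  have hc : DerSch.ChartPC m K U V φ ↔ DerSch.ChartPC m (DCoh.toD X G) U V φ :=
    forall_congr' fun G' => imp_congr_left ⟨fun ⟨x⟩ => ⟨x ≪≫ eG.symm⟩, fun ⟨x⟩ => ⟨x ≪≫ eG⟩⟩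
  rw [hc, chartPC_iff_rep hU φ hφ, DPerf.isPseudoCoherentD_iff_approx]
  exact ⟨fun h _ => h.of_iso e.symm, fun h => (h inferInstance).of_iso e⟩

/-- The test through a ring surjection with pseudo-coherent target. -/
theorem test_comp_iff {U : X.Opens} (hU : IsAffineOpen U) (φ : P →+* Γ(X, U)) (hφ : Function.Surjective φ)
    {P' : Type u} [CommRing P'] (σ : P' →+* P) (hσ : Function.Surjective σ) (hpc : PCMor4.PCR σ)
    (m : ℤ) (K : DCoh.D X) : Test m K U (φ.comp σ) ↔ Test m K U φ := by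
  haveI := isClosedImmersion_imm hU φ hφ
  haveI : IsClosedImmersion (Spec.map (CommRingCat.ofHom σ)) :=
    IsClosedImmersion.spec_of_surjective _ (by exact hσ)
  have hO : PushOPC (Spec.map (CommRingCat.ofHom σ)) := pushOPC_spec (CommRingCat.ofHom σ) hpc
  let L := (pushD (imm U φ)).obj ((DPerf.resD U.ι).obj K)
  have key : ∀ (g : (U : Scheme.{u}) ⟶ Spec (CommRingCat.of P')) [IsClosedImmersion g],
      g = imm U φ ≫ Spec.map (CommRingCat.ofHom σ) →
      (DPerf.Approx (Set.Ici m) ((pushD g).obj ((DPerf.resD U.ι).obj K)) ↔ DPerf.Approx (Set.Ici m) L) := by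
    rintro g _ rfl
    exact ⟨fun h => approx_of_push hO m (h.of_iso ((pushDComp _ _).app _).symm),
      fun h => (approx_push hO m h).of_iso ((pushDComp _ _).app _)⟩
  haveI := isClosedImmersion_imm hU (φ.comp σ) (hφ.comp hσ)
  exact ⟨fun h _ => (key _ (imm_comp U φ σ)).1 (h inferInstance),
    fun h _ => (key _ (imm_comp U φ σ)).2 (h inferInstance)⟩

theorem test_comp_bijective_iff {U : X.Opens} (hU : IsAffineOpen U) (φ : P →+* Γ(X, U))
    (hφ : Function.Surjective φ) {P' : Type u} [CommRing P'] (σ : P' →+* P) (hσ : Function.Bijective σ)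
    (m : ℤ) (K : DCoh.D X) : Test m K U (φ.comp σ) ↔ Test m K U φ :=
  test_comp_iff hU φ hφ σ hσ.2 (PCMor4.pcr_of_bijective σ hσ) m K

/-- The test on a smaller open, as a restriction along an open immersion of spectra. -/
theorem test_iff_res {U U' : X.Opens} (hU' : IsAffineOpen U') (hle : U' ≤ U)
    (φ : P →+* Γ(X, U)) [IsClosedImmersion (imm U φ)] {P' : Type u} [CommRing P'] (ψ : P' →+* Γ(X, U'))
    (hψ : Function.Surjective ψ) (j : Spec (CommRingCat.of P') ⟶ Spec (CommRingCat.of P)) [IsOpenImmersion j]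
    (hcomm : imm U' ψ ≫ j = X.homOfLE hle ≫ imm U φ)
    (hrange : ∀ z : (U : Scheme.{u}), imm U φ z ∈ Set.range j → z.1 ∈ U')
    (m : ℤ) (K : DCoh.D X) :
    Test m K U' ψ ↔
      DPerf.Approx (Set.Ici m) ((DPerf.resD j).obj ((pushD (imm U φ)).obj ((DPerf.resD U.ι).obj K))) := by
  haveI := isClosedImmersion_imm hU' ψ hψ
  have hpre : imm U φ ⁻¹ᵁ j.opensRange = (X.homOfLE hle).opensRange := by
    refine le_antisymm (fun z hz => ?_) ?_
    · exact ⟨⟨z.1, hrange z hz⟩, Subtype.ext (by simp)⟩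
    · rintro z ⟨w, rfl⟩
      exact ⟨imm U' ψ w, by rw [← Scheme.Hom.comp_apply, hcomm]; rfl⟩
  have H : IsPullback (imm U' ψ) (X.homOfLE hle) j (imm U φ) :=
    IsOpenImmersion.isPullback _ _ _ _ hcomm.symm hpre
  let e := (pushBC H).app ((DPerf.resD U.ι).obj K) ≪≫ (pushD (imm U' ψ)).mapIso
    ((DPerf.resDComp U.ι (X.homOfLE hle)).app K ≪≫
      (resDCongr (Scheme.homOfLE_ι X hle)).app K)
  exact ⟨fun h => (h inferInstance).of_iso e.symm, fun h _ => h.of_iso e⟩

theorem test_res {U U' : X.Opens} (hU : IsAffineOpen U) (hU' : IsAffineOpen U') (hle : U' ≤ U)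
    (φ : P →+* Γ(X, U)) (hφ : Function.Surjective φ) {P' : Type u} [CommRing P'] (ψ : P' →+* Γ(X, U'))
    (hψ : Function.Surjective ψ) (j : Spec (CommRingCat.of P') ⟶ Spec (CommRingCat.of P)) [IsOpenImmersion j]
    (hcomm : imm U' ψ ≫ j = X.homOfLE hle ≫ imm U φ)
    (hrange : ∀ z : (U : Scheme.{u}), imm U φ z ∈ Set.range j → z.1 ∈ U')
    {m : ℤ} {K : DCoh.D X} (h : Test m K U φ) : Test m K U' ψ := by
  haveI := isClosedImmersion_imm hU φ hφ
  exact (test_iff_res hU' hle φ ψ hψ j hcomm hrange m K).2 (approx_res (h inferInstance) j)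

theorem imm_comm {U U' : X.Opens} (hle : U' ≤ U) (φ : P →+* Γ(X, U)) {P' : Type u} [CommRing P']
    (ψ : P' →+* Γ(X, U')) (σ : P →+* P')
    (h : ψ.comp σ = (X.presheaf.map (homOfLE hle).op).hom.comp φ) :
    imm U' ψ ≫ Spec.map (CommRingCat.ofHom σ) = X.homOfLE hle ≫ imm U φ := by
  rw [← imm_comp, h, imm_comp]
  simp only [imm, CommRingCat.ofHom_hom, Category.assoc]
  rw [← Scheme.Opens.toSpecΓ_SpecMap_presheaf_map_assoc]

theorem imm_mem_basicOpen_iff (U : X.Opens) (φ : P →+* Γ(X, U)) (p : P) (z : (U : Scheme.{u})) :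
    imm U φ z ∈ PrimeSpectrum.basicOpen p ↔ z.1 ∈ X.basicOpen (φ p) := by
  show U.toSpecΓ z ∈ (Spec.map (CommRingCat.ofHom φ)) ⁻¹ᵁ PrimeSpectrum.basicOpen p ↔ _
  rw [show (Spec.map (CommRingCat.ofHom φ)) ⁻¹ᵁ PrimeSpectrum.basicOpen p = PrimeSpectrum.basicOpen (φ p) from rfl]
  exact SetLike.ext_iff.1 (Scheme.Opens.toSpecΓ_preimage_basicOpen U (φ p)) z

/-- The lift of `φ` to the localisation at `p`. -/
noncomputable def awayLift {U : X.Opens} (hU : IsAffineOpen U) (φ : P →+* Γ(X, U)) (p : P) :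
    Localization.Away p →+* Γ(X, X.basicOpen (φ p)) :=
  IsLocalization.Away.lift p (g := (X.presheaf.map (homOfLE (X.basicOpen_le (φ p))).op).hom.comp φ)
    (haveI := hU.isLocalization_basicOpen (φ p); IsLocalization.Away.algebraMap_isUnit (φ p))

theorem awayLift_comp {U : X.Opens} (hU : IsAffineOpen U) (φ : P →+* Γ(X, U)) (p : P) :
    (awayLift hU φ p).comp (algebraMap P (Localization.Away p)) =
      (X.presheaf.map (homOfLE (X.basicOpen_le (φ p))).op).hom.comp φ := IsLocalization.lift_comp _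

theorem awayLift_surjective {U : X.Opens} (hU : IsAffineOpen U) (φ : P →+* Γ(X, U))
    (hφ : Function.Surjective φ) (p : P) : Function.Surjective (awayLift hU φ p) := by
  haveI := hU.isLocalization_basicOpen (φ p)
  intro y
  obtain ⟨x, ⟨s, n, rfl⟩, rfl⟩ := IsLocalization.exists_mk'_eq (Submonoid.powers (φ p)) y
  obtain ⟨q, rfl⟩ := hφ x
  refine ⟨IsLocalization.mk' _ q (⟨p ^ n, n, rfl⟩ : Submonoid.powers p), ?_⟩
  rw [awayLift, IsLocalization.Away.lift, IsLocalization.lift_mk'_spec]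
  show (X.presheaf.map _).hom (φ q) = (X.presheaf.map _).hom (φ (p ^ n)) * _
  rw [map_pow φ]
  exact (IsLocalization.mk'_spec' _ (φ q) (⟨φ p ^ n, n, rfl⟩ : Submonoid.powers (φ p))).symm

/-- The test passes to basic opens. -/
theorem test_basicOpen {U : X.Opens} (hU : IsAffineOpen U) (φ : P →+* Γ(X, U)) (hφ : Function.Surjective φ)
    (p : P) {m : ℤ} {K : DCoh.D X} (h : Test m K U φ) : Test m K (X.basicOpen (φ p)) (awayLift hU φ p) := by
  refine test_res hU (hU.basicOpen _) (X.basicOpen_le _) φ hφ _ (awayLift_surjective hU φ hφ p)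
    (Spec.map (CommRingCat.ofHom (algebraMap P (Localization.Away p)))) (imm_comm _ φ _ _ (awayLift_comp hU φ p))
    (fun z hz => (imm_mem_basicOpen_iff U φ p z).1 ?_) h
  exact (PrimeSpectrum.localization_away_comap_range (Localization.Away p) p).le hz

/-- The test is local. -/
theorem test_of_cover {U : X.Opens} (hU : IsAffineOpen U) (φ : P →+* Γ(X, U)) (hφ : Function.Surjective φ)
    {m : ℤ} {K : DCoh.D X}
    (h : ∀ z : X, z ∈ U → ∃ p : P, z ∈ X.basicOpen (φ p) ∧ Test m K (X.basicOpen (φ p)) (awayLift hU φ p)) :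
    Test m K U φ := fun _ => by
  refine approx_of_cover fun x => ?_
  by_cases hx : x ∈ Set.range (imm U φ)
  · obtain ⟨z, rfl⟩ := hx
    obtain ⟨p, hzp, hp⟩ := h z.1 z.2
    refine ⟨_, Spec.map (CommRingCat.ofHom (algebraMap P (Localization.Away p))), inferInstance,
      (PrimeSpectrum.localization_away_comap_range (Localization.Away p) p).ge
        ((imm_mem_basicOpen_iff U φ p z).2 hzp), ?_⟩
    refine (test_iff_res (hU.basicOpen _) (X.basicOpen_le _) φ _ (awayLift_surjective hU φ hφ p) _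
      (imm_comm _ φ _ _ (awayLift_comp hU φ p)) (fun w hw => (imm_mem_basicOpen_iff U φ p w).1 ?_) m K).1 hp
    exact (PrimeSpectrum.localization_away_comap_range (Localization.Away p) p).le hw
  · let V : (Spec (CommRingCat.of P)).Opens :=
      ⟨(Set.range (imm U φ))ᶜ, (imm U φ).isClosedEmbedding.isClosed_range.isOpen_compl⟩
    haveI := isEmpty_compl (imm U φ)
    exact ⟨V, V.ι, inferInstance, ⟨⟨x, hx⟩, rfl⟩,
      (approx_pushD_of_isEmpty (imm U φ ∣_ V) m _).of_iso ((pushBC (isPullback_open (imm U φ) V)).app _).symm⟩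

end Imm

end Groth.Agent.RelPCS8
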