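import Mathlib
import Groth.Prelude.Def_KSix
import Groth.Agent.Lib.DPerf.Tilde
import Groth.Agent.Lib.DPerf.Amp
import Groth.Agent.Lib.DQC.TestMod

set_option autoImplicit false
set_option backward.isDefEq.respectTransparency false
set_option linter.style.haveILetI false
universe u
open CategoryTheory CategoryTheory.Limits AlgebraicGeometry
attribute [local instance] HasDerivedCategory.standard

namespace Groth.Agent.RelPCS8.PerfAmp

open DPerf

variable {X : Scheme.{u}}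

/-- A strictly perfect complex of flat amplitude in `[a, b]` has a finite locally free model in `[a, b]`. -/
theorem exists_model {E : CochainComplex X.Modules ℤ} (hE : DCoh.IsStrictlyPerfect E) {a b : ℤ}
    (hab : a ≤ b) (h : DCoh.HasFlatAmplitudeIn a b (DCoh.toD X E)) :
    ∃ E' : CochainComplex X.Modules ℤ, DCoh.VanishesOutside E' a b ∧
      (∀ i, FlatMod.IsFinLocFree (E'.X i)) ∧ Nonempty (DCoh.toD X E' ≅ DCoh.toD X E) := by
  have hex : ∀ i, (i < a ∨ b < i) → E.ExactAt i := fun i hi =>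
    (KFlat.Sch.isZero_HD_toD_iff E i).1 (isZero_HD_of_flatAmplitude h hi)
  let E₁ := E.truncLE b
  have hE₁ : ∀ i, FlatMod.IsFinLocFree (E₁.X i) := fun i => by
    rcases lt_trichotomy i b with hi | hi | hi
    · exact M2.isFinLocFree_of_iso (CochainComplex.truncLEXIso E b i hi).symm (hE.2 i)
    · subst hi
      exact M2.isFinLocFree_of_iso (CochainComplex.truncLEXIsoCycles E i).symm
        (isFinLocFree_cycles hE i fun j hj => hex j (Or.inr hj))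
    · exact KFlat.Sch.isFinLocFree_of_isZero (E₁.isZero_of_isStrictlyLE b i hi)
  haveI : E.IsLE b := (CochainComplex.isLE_iff E b).2 fun i hi => hex i (Or.inr hi)
  let e₁ : DCoh.toD X E₁ ≅ DCoh.toD X E := asIso (DerivedCategory.Q.map (E.ιTruncLE b))
  haveI : E₁.IsGE a := (CochainComplex.isGE_iff E₁ a).2 fun i hi =>
    (KFlat.Sch.isZero_HD_toD_iff E₁ i).1 ((KFlat.Sch.isZero_HD_iff_of_iso e₁ i).2
      ((KFlat.Sch.isZero_HD_toD_iff E i).2 (hex i (Or.inl hi))))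
  have hflat : FlatMod.IsFlat (cokernel (E₁.d (a - 1) a)) := by
    obtain ⟨F, h1, h2, ⟨e⟩⟩ := h
    exact isFlat_cokernel_of_amplitude E₁ b (fun i => KFlat.Sch.isFlat_of_isFinLocFree (hE₁ i)) le_rfl
      ⟨F, h1, h2, ⟨e ≪≫ e₁.symm⟩⟩
  have hFP : CohB1.IsFP (cokernel (E₁.d (a - 1) a)) :=
    isFP_cokernel (M1.isFP_isQCoh (M1.isFP_of_isFinLocFree (hE₁ (a - 1))))
      (M1.isFP_isFT (M1.isFP_of_isFinLocFree (hE₁ (a - 1)))) (M1.isFP_of_isFinLocFree (hE₁ a)) _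
  have hcok : FlatMod.IsFinLocFree (cokernel (E₁.d (a - 1) a)) :=
    (M1.isFinLocFree_iff _).2 ⟨hFP, fun x => M1.free_stalk_of_flat hFP x (hflat x)⟩
  refine ⟨E₁.truncGE a, fun i hi => ?_, fun i => ?_,
    ⟨(asIso (DerivedCategory.Q.map (E₁.πTruncGE a))).symm ≪≫ e₁⟩⟩
  · rcases hi with hi | hi
    · exact (E₁.truncGE a).isZero_of_isStrictlyGE a i hi
    · exact (E₁.isZero_of_isStrictlyLE b i hi).of_iso (CochainComplex.truncGEXIso E₁ a i (by omega))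
  · rcases lt_trichotomy i a with hi | hi | hi
    · exact KFlat.Sch.isFinLocFree_of_isZero ((E₁.truncGE a).isZero_of_isStrictlyGE a i hi)
    · subst hi
      exact M2.isFinLocFree_of_iso ((CochainComplex.truncGEXIsoOpcycles E₁ i ≪≫
        (E₁.opcyclesIsCokernel (i - 1) i (by simp)).coconePointUniqueUpToIso (colimit.isColimit _)).symm) hcok
    · exact M2.isFinLocFree_of_iso (CochainComplex.truncGEXIso E₁ a i hi).symm (hE₁ i)

theorem of_perfectAmplitude {E : DCoh.D X} {m n : ℤ} (h : KSix.HasPerfectAmplitudeIn m n E) :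
    Approx Set.univ E ∧ DCoh.HasFlatAmplitudeIn m n E := by
  obtain ⟨F, ⟨eF⟩⟩ := Functor.EssSurj.mem_essImage
    (F := (DerivedCategory.Q : CochainComplex X.Modules ℤ ⥤ _)) E
  choose V hxV hV using h
  have key : ∀ x, ∃ P : CochainComplex (V x : Scheme.{u}).Modules ℤ, DCoh.VanishesOutside P m n ∧
      (∀ i, FlatMod.IsFinLocFree (P.X i)) ∧ Nonempty (DCoh.toD _ P ≅ (resD (V x).ι).obj E) := fun x => by
    obtain ⟨P, h1, h2, ⟨e⟩⟩ := hV x F ⟨eF⟩
    exact ⟨P, h1, h2, ⟨e.symm ≪≫ ((resFac (V x).ι).app F).symm ≪≫ (resD (V x).ι).mapIso eF⟩⟩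
  refine ⟨fun x => ?_, DQC.flatAmplitude_of_locally fun x => ?_⟩
  · obtain ⟨P, h1, h2, ⟨e⟩⟩ := key x
    exact ⟨_, (V x).ι, inferInstance, ⟨⟨x, hxV x⟩, rfl⟩, P, ⟨⟨m, n, h1⟩, h2⟩, e.hom, dcond_of_isIso _⟩
  · obtain ⟨P, h1, h2, ⟨e⟩⟩ := key x
    exact ⟨V x, hxV x, P, h1, fun i => KFlat.Sch.isFlat_of_isFinLocFree (h2 i), ⟨e⟩⟩

theorem hasPerfectAmplitudeIn_iff (E : DCoh.D X) (m n : ℤ) (hmn : m ≤ n) :
    KSix.HasPerfectAmplitudeIn m n E ↔ DCoh.IsPseudoCoherentD (m - 1) E ∧ DCoh.HasFlatAmplitudeIn m n E := by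
  refine ⟨fun h => ⟨isPseudoCoherentD_of_approx ((of_perfectAmplitude h).1.mono_set (Set.subset_univ _)),
    (of_perfectAmplitude h).2⟩, fun ⟨h₁, h₂⟩ x => ?_⟩
  obtain ⟨V, hxV, hV⟩ := (approx_univ_of_flatAmplitude h₂ (approx_of_isPseudoCoherentD h₁)).exists_opens x
  obtain ⟨P, hP, α, hα⟩ := hV V le_rfl
  haveI := isIso_of_dcond_univ hα
  obtain ⟨F₀, hF, hflat, ⟨e₀⟩⟩ := flatAmplitude_res V.ι h₂
  obtain ⟨P', h1, h2, ⟨e'⟩⟩ := exists_model hP hmn ⟨F₀, hF, hflat, ⟨e₀ ≪≫ (asIso α).symm⟩⟩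
  exact ⟨V, hxV, fun F ⟨eF⟩ => ⟨P', h1, h2,
      ⟨((resFac V.ι).app F).symm ≪≫ (resD V.ι).mapIso eF ≪≫ (asIso α).symm ≪≫ e'.symm⟩⟩⟩

end Groth.Agent.RelPCS8.PerfAmp
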