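import Groth.Agent.Lib.PCMor4.PC
import Groth.Agent.Lib.PCMor4.Local
import Groth.Agent.Lib.FlatH4.FlatDescent
import Mathlib

/-!
# Flat finitely presented modules over a polynomial ring are pseudo-coherent
-/

set_option autoImplicit false

universe u

open TensorProduct MvPolynomial

attribute [local instance] MvPolynomial.algebraMvPolynomial HasDerivedCategory.standard

namespace Groth.Agent.RelPCS8

theorem pcn_of_isNoetherianRing {P : Type u} [CommRing P] [IsNoetherianRing P] (M : Type u) [AddCommGroup M]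
    [Module P M] [Module.Finite P M] : ∀ k, PCMor4.PCn P k M := by
  intro k
  induction k generalizing M with
  | zero => exact PCMor4.pcn_zero_iff.2 inferInstance
  | succ k ih =>
    obtain ⟨n, p, hp⟩ := Module.Finite.exists_fin' P M
    exact (PCMor4.pcn_succ_iff p hp fun m => PCMor4.pcn_finiteProjective m _).2 (ih _)

/-- A module with a presentation defined over a smaller ring is a base change. -/
theorem nonempty_model_equiv {P₀ P : Type u} [CommRing P₀] [CommRing P] [Algebra P₀ P] {M : Type u} [AddCommGroup M]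
    [Module P M] {m e : ℕ} (ρ : (Fin m → P) →ₗ[P] M) (hρ : Function.Surjective ρ) (w : Fin e → Fin m → P)
    (hw : Submodule.span P (Set.range w) = LinearMap.ker ρ) (w₀ : Fin e → Fin m → P₀)
    (hw₀ : ∀ j i, algebraMap P₀ P (w₀ j i) = w j i) :
    Nonempty (P ⊗[P₀] ((Fin m → P₀) ⧸ Submodule.span P₀ (Set.range w₀)) ≃ₗ[P] M) := by
  classical
  let K₀ := Submodule.span P₀ (Set.range w₀)
  let N₀ := (Fin m → P₀) ⧸ K₀
  letI : Module P₀ M := Module.compHom M (algebraMap P₀ P)
  haveI : IsScalarTower P₀ P M := IsScalarTower.of_algebraMap_smul fun _ _ => rfl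
  let l₀ : (Fin m → P₀) →ₗ[P₀] M := Fintype.linearCombination P₀ fun i => ρ (Pi.single i 1)
  have hρe : ∀ v : Fin m → P, ρ v = ∑ i, v i • ρ (Pi.single i 1) := fun v => by
    conv_lhs => rw [pi_eq_sum_univ' v]
    rw [map_sum]
    exact Finset.sum_congr rfl fun i _ => by rw [map_smul]
  have hwρ : ∀ j, ρ (w j) = 0 := fun j =>
    LinearMap.mem_ker.1 (hw ▸ Submodule.subset_span ⟨j, rfl⟩)
  have hK₀ : K₀ ≤ LinearMap.ker l₀ := by
    rw [Submodule.span_le]
    rintro _ ⟨j, rfl⟩
    show l₀ (w₀ j) = 0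
    rw [Fintype.linearCombination_apply, ← hwρ j, hρe]
    refine Finset.sum_congr rfl fun i _ => ?_
    rw [← hw₀ j i]
    rfl
  let l : P ⊗[P₀] N₀ →ₗ[P] M := (K₀.liftQ l₀ hK₀).liftBaseChange P
  let g : (Fin m → P) →ₗ[P] P ⊗[P₀] N₀ :=
    Fintype.linearCombination P fun i => (1 : P) ⊗ₜ[P₀] K₀.mkQ (Pi.single i 1)
  have hg : LinearMap.ker ρ ≤ LinearMap.ker g := by
    rw [← hw, Submodule.span_le]
    rintro _ ⟨j, rfl⟩
    show g (w j) = 0
    rw [Fintype.linearCombination_apply]
    have h0 : (1 : P) ⊗ₜ[P₀] K₀.mkQ (w₀ j) = 0 := by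
      rw [Submodule.mkQ_apply, (Submodule.Quotient.mk_eq_zero _).2 (Submodule.subset_span (Set.mem_range_self j)), tmul_zero]
    rw [pi_eq_sum_univ' (w₀ j), map_sum, tmul_sum] at h0
    refine Eq.trans (Finset.sum_congr rfl fun i _ => ?_) h0
    rw [← hw₀ j i, algebraMap_smul, map_smul, tmul_smul]
  let g' : M →ₗ[P] P ⊗[P₀] N₀ :=
    ((LinearMap.ker ρ).liftQ g hg).comp (ρ.quotKerEquivOfSurjective hρ).symm.toLinearMap
  have hg' : ∀ v, g' (ρ v) = g v := fun v => by
    have : (ρ.quotKerEquivOfSurjective hρ).symm (ρ v) = Submodule.Quotient.mk v := by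
      rw [LinearEquiv.symm_apply_eq]; rfl
    simp only [g', LinearMap.comp_apply, LinearEquiv.coe_coe, this, Submodule.liftQ_apply]
  have hl : ∀ (p : P) (v : Fin m → P₀), l (p ⊗ₜ[P₀] K₀.mkQ v) = p • ρ (algebraMap P₀ P ∘ v) := fun p v => by
    rw [hρe]
    simp only [l, LinearMap.liftBaseChange_tmul, Submodule.mkQ_apply, Submodule.liftQ_apply, l₀,
      Fintype.linearCombination_apply, Function.comp_apply]
    rfl
  have hgl : ∀ x, g' (l x) = x := fun x => by
    induction x using TensorProduct.induction_on with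
    | zero => rw [map_zero, map_zero]
    | add a b ha hb => rw [map_add, map_add, ha, hb]
    | tmul p q =>
      obtain ⟨v, rfl⟩ := Submodule.mkQ_surjective K₀ q
      rw [hl, map_smul, hg', Fintype.linearCombination_apply]
      conv_rhs => rw [pi_eq_sum_univ' v, map_sum, tmul_sum]
      rw [Finset.smul_sum]
      refine Finset.sum_congr rfl fun i _ => ?_
      rw [Function.comp_apply, algebraMap_smul, map_smul, tmul_smul, smul_comm,
        TensorProduct.smul_tmul', smul_eq_mul, mul_one]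
  have hlg : ∀ y, l (g' y) = y := fun y => by
    obtain ⟨v, rfl⟩ := hρ y
    rw [hg', Fintype.linearCombination_apply, map_sum, hρe v]
    refine Finset.sum_congr rfl fun i _ => ?_
    rw [map_smul, hl, one_smul]
    refine congrArg (fun z => v i • ρ z) (funext fun j => ?_)
    rw [Function.comp_apply]
    rcases eq_or_ne j i with rfl | h
    · rw [Pi.single_eq_same, Pi.single_eq_same, map_one]
    · rw [Pi.single_eq_of_ne h, Pi.single_eq_of_ne h, map_zero]
  exact ⟨LinearEquiv.ofLinear l g' (LinearMap.ext hlg) (LinearMap.ext hgl)⟩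

/-- Base change of the pseudo-coherence of a flat stage. -/
theorem pcn_of_stage {R₀ B R : Type u} [CommRing R₀] [CommRing B] [CommRing R] [Algebra R₀ B] [Algebra R₀ R] [Algebra B R]
    [IsScalarTower R₀ B R] [IsNoetherianRing B] {n : ℕ} (N₀ : Type u) [AddCommGroup N₀] [Module R₀ N₀]
    [Module (MvPolynomial (Fin n) R₀) N₀] [IsScalarTower R₀ (MvPolynomial (Fin n) R₀) N₀]
    [Module.Finite (MvPolynomial (Fin n) R₀) N₀] [Module.Flat B (B ⊗[R₀] N₀)] (k : ℕ) :
    PCMor4.PCn (MvPolynomial (Fin n) R) k (MvPolynomial (Fin n) R ⊗[MvPolynomial (Fin n) R₀] N₀) := by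
  let P₀ := MvPolynomial (Fin n) R₀
  let P₁ := MvPolynomial (Fin n) B
  let P := MvPolynomial (Fin n) R
  haveI : IsScalarTower P₀ P₁ P := IsScalarTower.of_algebraMap_eq fun p => by
    show MvPolynomial.map (algebraMap R₀ R) p =
      MvPolynomial.map (algebraMap B R) (MvPolynomial.map (algebraMap R₀ B) p)
    rw [MvPolynomial.map_map, ← IsScalarTower.algebraMap_eq R₀ B R]
  let N₁ := P₁ ⊗[P₀] N₀
  haveI : Module.Flat B N₁ :=
    Module.Flat.of_linearEquiv (Algebra.IsPushout.cancelBaseChange R₀ B P₀ P₁ N₀)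
  exact PCMor4.pcn_equiv (TensorProduct.AlgebraTensorModule.cancelBaseChange P₀ P₁ P P N₀)
    (PCMor4.pcn_baseChange_of_flat (A := B) (A' := R) (P := P₁) (P' := P) k N₁
      (pcn_of_isNoetherianRing N₁ k))

/-- Descent of flatness of a Noetherian model to a stage. -/
theorem pcn_of_model {R₀ R : Type u} [CommRing R₀] [CommRing R] [Algebra R₀ R] [IsNoetherianRing R₀] {n m e : ℕ}
    (M : Type u) [AddCommGroup M] [Module R M] [Module (MvPolynomial (Fin n) R) M]
    [IsScalarTower R (MvPolynomial (Fin n) R) M] [Module.Flat R M]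
    (ρ : (Fin m → MvPolynomial (Fin n) R) →ₗ[MvPolynomial (Fin n) R] M) (hρ : Function.Surjective ρ)
    (w : Fin e → Fin m → MvPolynomial (Fin n) R)
    (hw : Submodule.span (MvPolynomial (Fin n) R) (Set.range w) = LinearMap.ker ρ)
    (w₀ : Fin e → Fin m → MvPolynomial (Fin n) R₀) (hw₀ : ∀ j i, algebraMap _ _ (w₀ j i) = w j i) (k : ℕ) :
    PCMor4.PCn (MvPolynomial (Fin n) R) k M := by
  obtain ⟨eM⟩ := nonempty_model_equiv ρ hρ w hw w₀ hw₀
  let P₀ := MvPolynomial (Fin n) R₀
  let N₀ := (Fin m → P₀) ⧸ Submodule.span P₀ (Set.range w₀)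
  let e₁ : R ⊗[R₀] N₀ ≃ₗ[R] M :=
    (Algebra.IsPushout.cancelBaseChange R₀ R P₀ (MvPolynomial (Fin n) R) N₀).symm.trans (eM.restrictScalars R)
  haveI : Module.Flat R (R ⊗[R₀] N₀) := Module.Flat.of_linearEquiv e₁
  obtain ⟨B₀, hB₀, hB⟩ := FlatH4.exists_subalgebra_flat R₀ R P₀ N₀
  haveI : Module.Flat B₀ (B₀ ⊗[R₀] N₀) := hB B₀ le_rfl hB₀
  haveI : IsNoetherianRing B₀ := isNoetherianRing_of_fg hB₀
  exact PCMor4.pcn_equiv eM (pcn_of_stage (B := B₀) N₀ k)

/-- A finitely presented module over a polynomial ring which is flat over the base is pseudo-coherent. -/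
theorem pcn_of_flat_fp {R : Type u} [CommRing R] {n : ℕ} (M : Type u) [AddCommGroup M] [Module R M]
    [Module (MvPolynomial (Fin n) R) M] [IsScalarTower R (MvPolynomial (Fin n) R) M]
    [Module.FinitePresentation (MvPolynomial (Fin n) R) M] [Module.Flat R M] :
    ∀ k, PCMor4.PCn (MvPolynomial (Fin n) R) k M := by
  classical
  let P := MvPolynomial (Fin n) R
  obtain ⟨m, ρ, hρ⟩ := Module.Finite.exists_fin' P M
  obtain ⟨e, w, hw⟩ := Submodule.fg_iff_exists_fin_generating_family.1 (Module.FinitePresentation.fg_ker ρ hρ)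
  let C : Set R := ⋃ j : Fin e, ⋃ i : Fin m, ((w j i).coeffs : Set R)
  have hC : C.Finite := Set.finite_iUnion fun j => Set.finite_iUnion fun i => (w j i).coeffs.finite_toSet
  let R₀ : Subalgebra ℤ R := Algebra.adjoin ℤ C
  haveI : IsNoetherianRing R₀ := isNoetherianRing_of_fg (Subalgebra.fg_def.2 ⟨C, hC, rfl⟩)
  let P₀ := MvPolynomial (Fin n) R₀
  have hlift : ∀ j i, ∃ p₀ : P₀, algebraMap P₀ P p₀ = w j i := by
    intro j i
    have h' : w j i ∈ Set.range (MvPolynomial.map (σ := Fin n) (algebraMap R₀ R)) := by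
      rw [MvPolynomial.mem_range_map_iff_coeffs_subset]
      exact fun x hx => ⟨⟨x, Algebra.subset_adjoin (Set.mem_iUnion.2 ⟨j, Set.mem_iUnion.2 ⟨i, hx⟩⟩)⟩, rfl⟩
    exact h'
  choose w₀ hw₀ using hlift
  exact fun k => pcn_of_model M ρ hρ w hw w₀ hw₀ k

end Groth.Agent.RelPCS8
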