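import Groth.Agent.Lib.RelPCS8.FlatTerms
import Groth.Prelude.Def_Flatn

/-!
# Cohomology of relatively pseudo-coherent objects, dévissage, modules in degree zero
-/

universe u

open CategoryTheory Limits CategoryTheory.Pretriangulated AlgebraicGeometry Opposite TopologicalSpace

attribute [local instance] HasDerivedCategory.standard

set_option backward.isDefEq.respectTransparency false

namespace Groth.Agent.RelPCS8

variable {X Y : Scheme.{u}} {f : X ⟶ Y} {U : X.Opens} {V : Y.Opens}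

theorem isQCoh_HD_of_rel {m : ℤ} {E : DCoh.D X} (hE : DerSch.IsPseudoCoherentRel f m E) {i : ℤ} (hi : m < i) :
    Coh.IsQCoh (DCoh.HD E i) := by
  choose U V hxU hg using exists_good_of_rel hE
  refine M1.isQCoh_of_openImmersion_cover (fun x => (U x).ι) (fun x => ⟨x, ⟨x, hxU x⟩, rfl⟩) fun x => ?_
  obtain ⟨hU, -, hle, n, φ, hφ, -⟩ := id (hg x)
  exact isQCoh_of_chartPC hU φ hφ.1 ((hg x).chartPC hφ) hi

theorem good_of_terms [LocallyOfFiniteType f] (hU : IsAffineOpen U) (hV : IsAffineOpen V) (hle : U ≤ f ⁻¹ᵁ V)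
    (F : CochainComplex X.Modules ℤ) (m b : ℤ) (hb : ∀ i : ℤ, b < i → IsZero (F.X i))
    (h : ∀ i : ℤ, Good f (m - i) (DCoh.inD X (F.X i)) U V) : Good f m (DCoh.toD X F) U V := by
  refine Groth.Agent.PCoh.termwise_induction (fun K => Good f m K U V) F m b hb
    (fun T hT h₁ h₃ => good_obj₂ T hT h₁ h₃)
    (fun K hK _ => good_of_isZero_HD hU hV hle fun k hk => (KFlat.Sch.isZero_HD_toD_iff K k).2 (by
      rw [HomologicalComplex.exactAt_iff]
      exact ShortComplex.exact_of_isZero_X₂ _ (hK k hk)))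
    fun k M _ _ ⟨eM⟩ => ?_
  exact (((h k).of_iso ((DerivedCategory.singleFunctor X.Modules 0).mapIso eM.symm)).shift (-k) m (by omega)).of_iso
    (((DerivedCategory.singleFunctors X.Modules).shiftIso (-k) k 0 (by omega)).app M)

theorem isZero_HD_inD_of_isZero {M : X.Modules} (h : IsZero M) (k : ℤ) : IsZero (DCoh.HD (DCoh.inD X M) k) :=
  (DerivedCategory.homologyFunctor X.Modules k).map_isZero ((DerivedCategory.singleFunctor X.Modules 0).map_isZero h)

theorem good_of_homology [LocallyOfFiniteType f] (hU : IsAffineOpen U) (hV : IsAffineOpen V) (hle : U ≤ f ⁻¹ᵁ V)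
    (m : ℤ) : ∀ (k : ℕ) (E : DCoh.D X), (∀ j, m + k ≤ j → IsZero (DCoh.HD E j)) →
      (∀ i, Good f (m - i) (DCoh.inD X (DCoh.HD E i)) U V) → Good f m E U V
  | 0, E, hE, _ => good_of_isZero_HD hU hV hle fun j hj => hE j (by simpa using hj)
  | k + 1, E, hE, h => by
      obtain ⟨b, hb⟩ : ∃ b : ℤ, b = m + k := ⟨_, rfl⟩
      let t : Triangulated.TStructure (DCoh.D X) := DerivedCategory.TStructure.t
      haveI hEle : E.IsLE b := (DerivedCategory.isLE_iff E b).2 fun j hj => hE j (by omega)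
      haveI : t.IsLE E b := hEle
      let T : Triangle (DCoh.D X) := (t.triangleLTGE b).obj E
      have hT : T ∈ distTriang (DCoh.D X) := t.triangleLTGE_distinguished b E
      haveI : DerivedCategory.IsLE T.obj₁ (b - 1) := (inferInstance : t.IsLE ((t.truncLT b).obj E) (b - 1))
      haveI : DerivedCategory.IsLE T.obj₃ b := (inferInstance : t.IsLE ((t.truncGE b).obj E) b)
      haveI : DerivedCategory.IsGE T.obj₃ b := (inferInstance : t.IsGE ((t.truncGE b).obj E) b)
      obtain ⟨M, ⟨e⟩⟩ := DerivedCategory.exists_iso_singleFunctor_obj_of_isGE_of_isLE T.obj₃ b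
      have hz : ∀ j, b ≤ j → IsZero (DCoh.HD T.obj₁ j) :=
        fun j hj => DerivedCategory.isZero_of_isLE T.obj₁ (b - 1) j (by omega)
      have hz3 : ∀ j, j ≠ b → IsZero (DCoh.HD T.obj₃ j) := fun j hj =>
        (lt_or_gt_of_ne hj).elim (fun h => DerivedCategory.isZero_of_isGE T.obj₃ b j h)
          (fun h => DerivedCategory.isZero_of_isLE T.obj₃ b j h)
      haveI : Mono ((DerivedCategory.homologyFunctor X.Modules b).map T.mor₂) :=
        (DerivedCategory.HomologySequence.mono_homologyMap_mor₂_iff _ hT b).2 ((hz b le_rfl).eq_of_src _ _)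
      haveI : Epi ((DerivedCategory.homologyFunctor X.Modules b).map T.mor₂) :=
        (DerivedCategory.HomologySequence.epi_homologyMap_mor₂_iff _ hT b (b + 1) rfl).2
          ((hz (b + 1) (by omega)).eq_of_tgt _ _)
      haveI := isIso_of_mono_of_epi ((DerivedCategory.homologyFunctor X.Modules b).map T.mor₂)
      let eM : DCoh.HD E b ≅ M := asIso ((DerivedCategory.homologyFunctor X.Modules b).map T.mor₂) ≪≫
        (DerivedCategory.homologyFunctor X.Modules b).mapIso e ≪≫
        (DerivedCategory.singleFunctorCompHomologyFunctorIso X.Modules b).app M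
      have h₃ : Good f m T.obj₃ U V :=
        (((h b).of_iso ((DerivedCategory.singleFunctor X.Modules 0).mapIso eM)).shift (-b) m (by omega)).of_iso
          (((DerivedCategory.singleFunctors X.Modules).shiftIso (-b) b 0 (by omega)).app M ≪≫ e.symm)
      have h₁ : Good f m T.obj₁ U V := by
        refine good_of_homology hU hV hle m k T.obj₁ (fun j hj => hz j (by omega)) fun i => ?_
        by_cases hi : b ≤ i
        · exact good_of_isZero_HD hU hV hle fun j _ => isZero_HD_inD_of_isZero (hz i hi) j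
        haveI : Epi ((DerivedCategory.homologyFunctor X.Modules i).map T.mor₁) :=
          (DerivedCategory.HomologySequence.epi_homologyMap_mor₁_iff _ hT i).2 ((hz3 i (by omega)).eq_of_tgt _ _)
        haveI : Mono ((DerivedCategory.homologyFunctor X.Modules i).map T.mor₁) :=
          (DerivedCategory.HomologySequence.mono_homologyMap_mor₁_iff _ hT (i - 1) i (by omega)).2
            ((hz3 (i - 1) (by omega)).eq_of_src _ _)
        haveI := isIso_of_mono_of_epi ((DerivedCategory.homologyFunctor X.Modules i).map T.mor₁)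
        exact (h i).of_iso ((DerivedCategory.singleFunctor X.Modules 0).mapIso
          (asIso ((DerivedCategory.homologyFunctor X.Modules i).map T.mor₁)).symm)
      exact good_obj₂ T hT h₁ h₃

theorem lft_of_rel {m : ℤ} {E : DCoh.D X} (h : DerSch.IsPseudoCoherentRel f m E) : LocallyOfFiniteType f := h.1

theorem good_zero_of_isFT [LocallyOfFiniteType f] (hU : IsAffineOpen U) (hV : IsAffineOpen V) (hle : U ≤ f ⁻¹ᵁ V)
    {M : X.Modules} (hM : CohB1.IsFT M) : Good f 0 (DCoh.inD X M) U V := by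
  obtain ⟨n, φ, hφ⟩ := exists_chart_of_lft (f := f) hU hV hle
  haveI := isClosedImmersion_imm hU φ hφ.1
  let g := imm U φ
  let P := MvPolynomial (Fin n) Γ(Y, V)
  have hO : DPerf.Approx (Set.Ici 0) (DCoh.inD _ ((Scheme.Modules.pushforward g).obj (Coh.structureModule (U : Scheme.{u})))) := by
    letI := φ.toAlgebra
    haveI : Module.Finite P Γ(X, U) := Module.Finite.of_surjective (Algebra.linearMap P Γ(X, U)) hφ.1
    have h0 : Test (-((0 : ℕ) : ℤ)) (DCoh.inD X (Coh.structureModule X)) U φ :=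
      (test_unit_iff hU φ hφ.1 0).2 (PCMor4.pcn_zero_iff.2 inferInstance)
    exact ((h0 inferInstance).mono_set (by simp)).of_iso
      ((pushD g).mapIso (((Scheme.Modules.restrictFunctor U.ι).mapDerivedCategorySingleFunctor 0).app _) ≪≫
        ((Scheme.Modules.pushforward g).mapDerivedCategorySingleFunctor 0).app _ ≪≫
        (DerivedCategory.singleFunctor _ 0).mapIso ((Scheme.Modules.pushforward g).mapIso (Scheme.Modules.restrictUnitIso U.ι)))
  let N := M.restrict U.ι
  have hN : DPerf.Approx (Set.Ici 0) (DCoh.inD _ ((Scheme.Modules.pushforward g).obj N)) := by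
    refine DPerf.approx_inD_of_restrict fun x => ?_
    by_cases hx : x ∈ Set.range g
    · obtain ⟨z, rfl⟩ := hx
      obtain ⟨W, hzW, σ, hσ⟩ := (M1.isFT_iff_generators N).1 (M1.isFT_restrict hM U.ι) z
      obtain ⟨W', rfl⟩ := exists_open_eq g W
      obtain ⟨e⟩ := M1.nonempty_fr_freeMod ((g ⁻¹ᵁ W' : (U : Scheme.{u}).Opens) : Scheme.{u}) σ.I
      haveI : Epi σ.π := σ.epi
      let p : FlatMod.freeMod ((g ⁻¹ᵁ W' : (U : Scheme.{u}).Opens) : Scheme.{u}) (Nat.card σ.I) ⟶
        N.restrict (g ⁻¹ᵁ W').ι := e.inv ≫ σ.π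
      haveI : Epi p := @epi_comp _ _ _ _ _ _ inferInstance _ σ.epi
      haveI := preservesEpimorphisms_push (g ∣_ W')
      let q := (Scheme.Modules.pushforward (g ∣_ W')).map p
      have hS : (ShortComplex.mk (kernel.ι q) q (kernel.condition q)).ShortExact :=
        { exact := ShortComplex.exact_kernel q }
      have hO' : DPerf.Approx (Set.Ici 0) (DCoh.inD _ ((Scheme.Modules.pushforward (g ∣_ W')).obj
          (Coh.structureModule ((g ⁻¹ᵁ W' : (U : Scheme.{u}).Opens) : Scheme.{u})))) :=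
        (hO.res W').of_iso (((Scheme.Modules.restrictFunctor W'.ι).mapDerivedCategorySingleFunctor 0).app _ ≪≫
          (DerivedCategory.singleFunctor (W' : Scheme.{u}).Modules 0).mapIso
            ((pushBCFunctor (isPullback_open g W')).app _ ≪≫
              (Scheme.Modules.pushforward (g ∣_ W')).mapIso (Scheme.Modules.restrictUnitIso (g ⁻¹ᵁ W').ι)))
      have h3 := DPerf.approx_Ici₃ 0 _ hS.singleTriangle_distinguished
        (DPerf.approx_of_isZero_HD fun k hk => DPerf.isZero_HD_inD (kernel q) (by omega))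
        (approx_push_freeMod (g ∣_ W') 0 hO' (Nat.card σ.I))
      exact ⟨W', hzW, h3.of_iso ((DerivedCategory.singleFunctor (W' : Scheme.{u}).Modules 0).mapIso
        ((pushBCFunctor (isPullback_open g W')).app N).symm)⟩
    · let W : (Spec (CommRingCat.of P)).Opens := ⟨(Set.range g)ᶜ, g.isClosedEmbedding.isClosed_range.isOpen_compl⟩
      haveI := isEmpty_compl g
      exact ⟨W, hx, approx_inD_of_isZero ((((Scheme.Modules.pushforward (g ∣_ W)).map_isZero
        (SerreCl8.isZero_of_support_eq_empty (Set.eq_empty_of_forall_notMem fun z _ => isEmptyElim z))).of_iso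
          ((pushBCFunctor (isPullback_open g W)).app N)))⟩
  exact ⟨hU, hV, hle, n, φ, hφ, fun _ => hN.of_iso
    ((pushD g).mapIso (((Scheme.Modules.restrictFunctor U.ι).mapDerivedCategorySingleFunctor 0).app M) ≪≫
      ((Scheme.Modules.pushforward g).mapDerivedCategorySingleFunctor 0).app N).symm⟩

theorem isFT_of_rel_zero {M : X.Modules} (h : DerSch.IsPseudoCoherentRel f 0 (DCoh.inD X M)) : CohB1.IsFT M := by
  choose U V hxU hg using exists_good_of_rel h
  refine M1.isFT_of_openImmersion_cover (fun x => (U x).ι) (fun x => ⟨x, ⟨x, hxU x⟩, rfl⟩) fun x => ?_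
  obtain ⟨hU, -, hle, n, φ, hφ, ht⟩ := id (hg x)
  haveI := isClosedImmersion_imm hU φ hφ.1
  have hz : ∀ k, (0 : ℤ) < k → IsZero (DCoh.HD ((pushD (imm (U x) φ)).obj ((DPerf.resD (U x).ι).obj (DCoh.inD X M))) k) :=
    fun k hk => (isZero_HD_push_iff _ _ k).2 (((Scheme.Modules.restrictFunctor (U x).ι).map_isZero
      (DPerf.isZero_HD_inD M (by omega))).of_iso (DPerf.hdResIso (U x).ι _ k))
  exact M1.isFT_of_isIso (DPerf.hdResIso (U x).ι (DCoh.inD X M) 0 ≪≫
      (Scheme.Modules.restrictFunctor (U x).ι).mapIso (DPerf.hdInDIso M))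
    (isFT_of_push _ (M1.isFT_of_isIso (hdPushDIso _ _ 0)
      (DPerf.finiteType_top (DPerf.isPseudoCoherentD_of_approx (ht inferInstance)) hz)))

theorem rel_negOne_iff [LocallyOfFiniteType f] (M : X.Modules) :
    DerSch.IsPseudoCoherentRel f (-1) (DCoh.inD X M) ↔ Coh.IsQCoh M ∧ Flatn.IsRelFP f M := by
  constructor
  · intro h
    have hq : Coh.IsQCoh M := isQCoh_of_rel h
    refine ⟨hq, Set.univ, eq_top_iff.2 fun y _ => ?_, fun V _ =>
      ⟨{U | (U : X.Opens) ≤ f ⁻¹ᵁ (V : Y.Opens)}, le_antisymm (iSup₂_le fun U hU => hU) fun x hx => ?_,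
        fun U _ hle => ?_⟩⟩
    · obtain ⟨W, hW, hyW, -⟩ := exists_isAffineOpen_mem_and_subset (x := y) (U := ⊤) trivial
      simp only [Opens.mem_iSup]
      exact ⟨⟨W, hW⟩, Set.mem_univ _, hyW⟩
    · obtain ⟨W, hW, hxW, hWV⟩ := exists_isAffineOpen_mem_and_subset hx
      simp only [Opens.mem_iSup]
      exact ⟨⟨W, hW⟩, hWV, hxW⟩
    · obtain ⟨-, -, hle', n, φ, hφ, ht⟩ := (rel_iff.1 h).2 U V U.2 V.2 hle
      letI := (f.appLE V U hle).hom.toAlgebra
      letI : Module (MvPolynomial (Fin n) Γ(Y, (V : Y.Opens))) Γ(M, (U : X.Opens)) := Module.compHom _ φ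
      have h' : Module.FinitePresentation (MvPolynomial (Fin n) Γ(Y, (V : Y.Opens))) Γ(M, (U : X.Opens)) :=
        (DMod.pcModule_negOne_iff _).1 ((test_module_iff U.2 φ hφ.1 M (M1.isQCoh_restrict hq _) (-1)).1 ht)
      exact ⟨n, { φ with commutes' := fun r => RingHom.congr_fun hφ.2 r }, hφ.1, h'⟩
  · rintro ⟨hq, 𝒱, hV, h⟩
    refine rel_of_locally fun x => ?_
    choose 𝒰 hU hc using h
    have hx : f.base x ∈ (⊤ : Y.Opens) := trivial
    rw [← hV, Opens.mem_iSup] at hx
    obtain ⟨V, hx⟩ := hx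
    rw [Opens.mem_iSup] at hx
    obtain ⟨hVm, hx⟩ := hx
    have hxU : x ∈ f ⁻¹ᵁ (V : Y.Opens) := hx
    rw [← hU V hVm, Opens.mem_iSup] at hxU
    obtain ⟨U, hxU⟩ := hxU
    rw [Opens.mem_iSup] at hxU
    obtain ⟨hUm, hxU⟩ := hxU
    have hle : (U : X.Opens) ≤ f ⁻¹ᵁ (V : Y.Opens) := hU V hVm ▸ le_iSup₂_of_le U hUm le_rfl
    letI := (f.appLE V U hle).hom.toAlgebra
    obtain ⟨n, ψ, hψ, hfp⟩ := hc V hVm U hUm hle
    letI : Module (MvPolynomial (Fin n) Γ(Y, (V : Y.Opens))) Γ(M, (U : X.Opens)) := Module.compHom _ ψ.toRingHom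
    have h' : Module.FinitePresentation (MvPolynomial (Fin n) Γ(Y, (V : Y.Opens))) Γ(M, (U : X.Opens)) := hfp
    exact ⟨U, V, hxU, U.2, V.2, hle, n, ψ.toRingHom, ⟨hψ, RingHom.ext fun r => ψ.commutes r⟩,
      (test_module_iff U.2 ψ.toRingHom hψ M (M1.isQCoh_restrict hq _) (-1)).2 ((DMod.pcModule_negOne_iff _).2 h')⟩

end Groth.Agent.RelPCS8
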