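import Groth.Agent.Lib.RelPCS8.Module
import Groth.Agent.Lib.PCMor4.SchemeBC

/-!
# Pseudo-coherent morphisms and closed immersions in relative pseudo-coherence
-/

universe u

open CategoryTheory Limits CategoryTheory.Pretriangulated AlgebraicGeometry Opposite TopologicalSpace

attribute [local instance] HasDerivedCategory.standard

set_option backward.isDefEq.respectTransparency false

namespace Groth.Agent.RelPCS8

variable {X Y S : Scheme.{u}}

/-- The two forms of a module in degree zero. -/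
noncomputable def singleToInD (F : X.Modules) :
    DCoh.toD X ((HomologicalComplex.single X.Modules (ComplexShape.up ℤ) 0).obj F) ≅ DCoh.inD X F :=
  ((DerivedCategory.singleFunctorIsoCompQ X.Modules 0).app F).symm

section PCBase

variable {f : X ⟶ Y} {U : X.Opens} {V : Y.Opens}

theorem pushOPC_imm (hU : IsAffineOpen U) {n : ℕ} {φ : MvPolynomial (Fin n) Γ(Y, V) →+* Γ(X, U)}
    {h : U ≤ f ⁻¹ᵁ V} (hφ : DerSch.IsChart f U V h φ) [IsClosedImmersion (imm U φ)]
    (hg : ∀ m, Good f m (DCoh.inD X (Coh.structureModule X)) U V) : PushOPC (imm U φ) := fun m =>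
  ((hg m).test hφ inferInstance).of_iso
    ((pushD (imm U φ)).mapIso (((Scheme.Modules.restrictFunctor U.ι).mapDerivedCategorySingleFunctor 0).app _) ≪≫
      ((Scheme.Modules.pushforward (imm U φ)).mapDerivedCategorySingleFunctor 0).app _ ≪≫
      (DerivedCategory.singleFunctor _ 0).mapIso
        ((Scheme.Modules.pushforward (imm U φ)).mapIso (Scheme.Modules.restrictUnitIso U.ι)))

theorem good_iff_approx_res [LocallyOfFiniteType f] (hU : IsAffineOpen U) (hV : IsAffineOpen V) (h : U ≤ f ⁻¹ᵁ V)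
    (hg : ∀ m, Good f m (DCoh.inD X (Coh.structureModule X)) U V) (m : ℤ) (K : DCoh.D X) :
    Good f m K U V ↔ DPerf.Approx (Set.Ici m) ((DPerf.resD U.ι).obj K) := by
  obtain ⟨n, φ, hφ⟩ := exists_chart_of_lft (f := f) hU hV h
  haveI := isClosedImmersion_imm hU φ hφ.1
  exact ⟨fun hK => approx_of_push (pushOPC_imm hU hφ hg) m (hK.test hφ inferInstance),
    fun hK => ⟨hU, hV, h, n, φ, hφ, fun _ => approx_push (pushOPC_imm hU hφ hg) m hK⟩⟩

theorem good_unit_of_nPseudoCoherent (hg : ∀ n : ℤ, DerSch.IsNPseudoCoherent f n) (hU : IsAffineOpen U)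
    (hV : IsAffineOpen V) (h : U ≤ f ⁻¹ᵁ V) (m : ℤ) : Good f m (DCoh.inD X (Coh.structureModule X)) U V :=
  ((rel_iff.1 (hg m)).2 U V hU hV h).of_iso (singleToInD _)

theorem exists_affine_pair (f : X ⟶ Y) (x : X) :
    ∃ (U : X.Opens) (V : Y.Opens), x ∈ U ∧ IsAffineOpen U ∧ IsAffineOpen V ∧ U ≤ f ⁻¹ᵁ V := by
  obtain ⟨V, hV, hxV, -⟩ := exists_isAffineOpen_mem_and_subset (x := f x) (U := ⊤) trivial
  obtain ⟨U, hU, hxU, hle⟩ := exists_isAffineOpen_mem_and_subset (U := f ⁻¹ᵁ V) hxV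
  exact ⟨U, V, hxU, hU, hV, hle⟩

/-- Relative to a pseudo-coherent morphism, relative is absolute pseudo-coherence. -/
theorem rel_iff_pc [LocallyOfFiniteType f] (hg : ∀ n : ℤ, DerSch.IsNPseudoCoherent f n) (m : ℤ) (K : DCoh.D X) :
    DerSch.IsPseudoCoherentRel f m K ↔ DCoh.IsPseudoCoherentD m K := by
  rw [DPerf.isPseudoCoherentD_iff_approx]
  constructor
  · intro hR
    refine approx_of_cover fun x => ?_
    obtain ⟨U, V, hxU, hU, hV, hle⟩ := exists_affine_pair f x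
    exact ⟨U, U.ι, inferInstance, ⟨⟨x, hxU⟩, rfl⟩,
      (good_iff_approx_res hU hV hle (good_unit_of_nPseudoCoherent hg hU hV hle) m K).1 ((rel_iff.1 hR).2 U V hU hV hle)⟩
  · exact fun hK => rel_iff.2 ⟨inferInstance, fun U V hU hV hle =>
      (good_iff_approx_res hU hV hle (good_unit_of_nPseudoCoherent hg hU hV hle) m K).2 (approx_res hK U.ι)⟩

/-- Flat morphisms locally of finite presentation are pseudo-coherent. -/
theorem nPseudoCoherent_of_pcMor [LocallyOfFiniteType f] (hf : PCMor4.pcMor f) (m : ℤ) :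
    DerSch.IsNPseudoCoherent f m := by
  refine rel_iff.2 ⟨inferInstance, fun U V hU hV h => Good.of_iso (singleToInD _).symm ?_⟩
  obtain ⟨n, φ, hφ⟩ := exists_chart_of_lft (f := f) hU hV h
  have hp : PCMor4.PCR φ := PCMor4.pcr_of_pch
    ((affineLocally_iff_forall_isAffineOpen (P := @PCMor4.PCH) f).1 hf hV hU h) φ hφ.1 hφ.2
  refine (Good.mono (m := -((-m).toNat : ℤ)) (by omega) ⟨hU, hV, h, n, φ, hφ, ?_⟩)
  exact (test_unit_iff hU φ hφ.1 _).2 (hp _)

theorem nPseudoCoherent_of_flat [Flat f] [LocallyOfFinitePresentation f] (m : ℤ) :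
    DerSch.IsNPseudoCoherent f m :=
  nPseudoCoherent_of_pcMor (fun U W => (PCMor4.pfMor_of_flat f U W).1) m

end PCBase

section Closed

variable {i : X ⟶ Y} [IsClosedImmersion i] {q : Y ⟶ S} {W : Y.Opens} {V : S.Opens}

/-- A chart of the preimage of an affine open. -/
theorem good_closed_iff (hW : IsAffineOpen W) (hV : IsAffineOpen V) (h : W ≤ q ⁻¹ᵁ V) [LocallyOfFiniteType q]
    (m : ℤ) (E : DCoh.D X) :
    Good q m ((pushD i).obj E) W V ↔ Good (i ≫ q) m E (i ⁻¹ᵁ W) V := by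
  obtain ⟨n, φ, hφ⟩ := exists_chart_of_lft (f := q) hW hV h
  let ψ := (i.app W).hom.comp φ
  have hU : IsAffineOpen (i ⁻¹ᵁ W) := hW.preimage i
  have hψ : Function.Surjective ψ := (i.app_surjective W hW).comp hφ.1
  have h' : i ⁻¹ᵁ W ≤ (i ≫ q) ⁻¹ᵁ V := fun x hx => h hx
  have hψ' : DerSch.IsChart (i ≫ q) (i ⁻¹ᵁ W) V h' ψ := ⟨hψ, by
    rw [RingHom.comp_assoc, hφ.2, ← CommRingCat.hom_comp]
    congr 1
    rw [Scheme.Hom.app_eq_appLE, Scheme.Hom.appLE_comp_appLE]⟩
  haveI := isClosedImmersion_imm hW φ hφ.1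
  haveI := isClosedImmersion_imm hU ψ hψ
  haveI : IsClosedImmersion (i ∣_ W) := inferInstance
  have hc : imm (i ⁻¹ᵁ W) ψ = (i ∣_ W) ≫ imm W φ := by
    rw [imm_comp]
    simp only [imm, CommRingCat.ofHom_hom, Scheme.Hom.app_eq_appLE, ← Scheme.Hom.resLE_eq_morphismRestrict]
    rw [← Scheme.Opens.toSpecΓ_SpecMap_appLE_assoc]
    simp
  have key : ∀ (g : ((i ⁻¹ᵁ W : X.Opens) : Scheme.{u}) ⟶ Spec (CommRingCat.of (MvPolynomial (Fin n) Γ(S, V))))
      [IsClosedImmersion g], g = (i ∣_ W) ≫ imm W φ →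
      (DPerf.Approx (Set.Ici m) ((pushD g).obj ((DPerf.resD (i ⁻¹ᵁ W).ι).obj E)) ↔
        DPerf.Approx (Set.Ici m) ((pushD (imm W φ)).obj ((DPerf.resD W.ι).obj ((pushD i).obj E)))) := by
    rintro g _ rfl
    let e := ((pushDComp (i ∣_ W) (imm W φ)).app ((DPerf.resD (i ⁻¹ᵁ W).ι).obj E)).symm ≪≫
      (pushD (imm W φ)).mapIso ((pushBC (isPullback_open i W)).app E).symm
    exact ⟨fun h => h.of_iso e, fun h => h.of_iso e.symm⟩
  exact ⟨fun hg => ⟨hU, hV, h', n, ψ, hψ', fun _ => (key _ hc).2 (hg.test hφ inferInstance)⟩,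
    fun hg => ⟨hW, hV, h, n, φ, hφ, fun _ => (key _ hc).1 (hg.test hψ' inferInstance)⟩⟩

/-- Relative pseudo-coherence is insensitive to closed immersions over the base. -/
theorem rel_closed_iff [LocallyOfFiniteType q] (m : ℤ) (E : DCoh.D X) :
    DerSch.IsPseudoCoherentRel (i ≫ q) m E ↔ DerSch.IsPseudoCoherentRel q m ((pushD i).obj E) := by
  refine ⟨fun hR => rel_iff.2 ⟨inferInstance, fun W V hW hV h => (good_closed_iff hW hV h m E).2
    ((rel_iff.1 hR).2 _ V (hW.preimage i) hV fun x hx => h hx)⟩, fun hR => rel_of_locally fun x => ?_⟩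
  obtain ⟨W, V, hxW, hW, hV, hle⟩ := exists_affine_pair q (i x)
  exact ⟨i ⁻¹ᵁ W, V, hxW, (good_closed_iff hW hV hle m E).1 ((rel_iff.1 hR).2 W V hW hV hle)⟩

end Closed

end Groth.Agent.RelPCS8
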