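import Groth.Agent.Lib.RelPCS8.Closed
import Groth.Agent.Lib.RelPCS8.FlatFP
import Groth.Agent.Lib.FibDepth5.Data
import Groth.Agent.Lib.TorBal.Dim
import Groth.Agent.Lib.Cyc26.Stalk

/-!
# Complexes with flat finitely presented terms relative to a morphism
-/

universe u

open CategoryTheory Limits CategoryTheory.Pretriangulated AlgebraicGeometry Opposite TopologicalSpace

attribute [local instance] HasDerivedCategory.standard

set_option backward.isDefEq.respectTransparency false

namespace Groth.Agent.RelPCS8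

variable {X Y : Scheme.{u}} {f : X ⟶ Y} {U : X.Opens} {V : Y.Opens}

theorem Good.shift {m : ℤ} {K : DCoh.D X} (h : Good f m K U V) (n m' : ℤ) (hm : m = m' + n) :
    Good f m' (K⟦n⟧) U V := by
  obtain ⟨hU, hV, hle, k, φ, hφ, ht⟩ := h
  exact ⟨hU, hV, hle, k, φ, hφ, fun _ => ((ht inferInstance).shift_Ici n m' hm).of_iso
    (((DPerf.resD U.ι ⋙ pushD (imm U φ)).commShiftIso n).app K).symm⟩

theorem good_of_isZero_HD {m : ℤ} {K : DCoh.D X} (hU : IsAffineOpen U) (hV : IsAffineOpen V) (h : U ≤ f ⁻¹ᵁ V)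
    [LocallyOfFiniteType f] (hK : ∀ k, m ≤ k → IsZero (DCoh.HD K k)) : Good f m K U V := by
  obtain ⟨n, φ, hφ⟩ := exists_chart_of_lft (f := f) hU hV h
  exact ⟨hU, hV, h, n, φ, hφ, fun _ => DPerf.approx_of_isZero_HD fun k hk => (isZero_HD_push_iff _ _ k).2
    (((Scheme.Modules.restrictFunctor U.ι).map_isZero (hK k hk)).of_iso (DPerf.hdResIso U.ι K k))⟩

theorem isQCoh_of_rel {F : X.Modules} (h : DerSch.IsPseudoCoherentRel f (-1) (DCoh.inD X F)) : Coh.IsQCoh F := by
  choose U V hxU hg using exists_good_of_rel h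
  refine M1.isQCoh_of_openImmersion_cover (fun x => (U x).ι) (fun x => ⟨x, ⟨x, hxU x⟩, rfl⟩) fun x => ?_
  obtain ⟨hU, -, hle, n, φ, hφ, -⟩ := id (hg x)
  exact M1.isQCoh_of_isIso ((Scheme.Modules.restrictFunctor (U x).ι).mapIso (DPerf.hdInDIso F))
    (isQCoh_of_chartPC hU φ hφ.1 ((hg x).chartPC hφ) (by omega))

/-- A flat module, finitely presented relative to `f`, is pseudo-coherent relative to `f`. -/
theorem good_module_of_flat {F : X.Modules} (hfl : FlatMod.IsFlatOver f F)
    (h : DerSch.IsPseudoCoherentRel f (-1) (DCoh.inD X F)) (hU : IsAffineOpen U) (hV : IsAffineOpen V)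
    (hle : U ≤ f ⁻¹ᵁ V) (m : ℤ) : Good f m (DCoh.inD X F) U V := by
  haveI : Coh.IsQCoh F := isQCoh_of_rel h
  obtain ⟨-, -, hle', n, φ, hφ, ht⟩ := (rel_iff.1 h).2 U V hU hV hle
  have hq := M1.isQCoh_restrict (inferInstance : Coh.IsQCoh F) U.ι
  letI : Module (MvPolynomial (Fin n) Γ(Y, V)) Γ(F, U) := Module.compHom Γ(F, U) φ
  letI : Module Γ(Y, V) Γ(F, U) := FlatH4.secModuleOver f F V U hle
  haveI : IsScalarTower Γ(Y, V) (MvPolynomial (Fin n) Γ(Y, V)) Γ(F, U) :=
    IsScalarTower.of_algebraMap_smul fun r x => by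
      show φ (MvPolynomial.C r) • x = (f.appLE V U hle).hom r • x
      rw [show φ (MvPolynomial.C r) = (f.appLE V U hle).hom r from RingHom.congr_fun hφ.2 r]
  haveI : Module.FinitePresentation (MvPolynomial (Fin n) Γ(Y, V)) Γ(F, U) :=
    (DMod.pcModule_negOne_iff _).1 ((test_module_iff hU φ hφ.1 F hq (-1)).1 ht)
  haveI : Module.Flat Γ(Y, V) Γ(F, U) := FibDepth5.flat_sections f F hfl hV hU hle
  exact Good.mono (m := -((-m).toNat : ℤ)) (by omega) ⟨hU, hV, hle, n, φ, hφ,
    (test_module_iff hU φ hφ.1 F hq _).2 (pcn_of_flat_fp Γ(F, U) (-m).toNat)⟩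

/-- A bounded above complex of flat modules finitely presented relative to `f` is pseudo-coherent relative to `f`. -/
theorem relAll_of_flat_terms [LocallyOfFiniteType f] (E : CochainComplex X.Modules ℤ) (b : ℤ)
    (hb : ∀ i : ℤ, b < i → IsZero (E.X i)) (hfl : ∀ i : ℤ, FlatMod.IsFlatOver f (E.X i))
    (hfp : ∀ i : ℤ, DerSch.IsPseudoCoherentRel f (-1)
      (DCoh.toD X ((HomologicalComplex.single _ (ComplexShape.up ℤ) 0).obj (E.X i)))) :
    DerSch.IsPseudoCoherentRelAll f (DCoh.toD X E) := fun m =>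
  rel_iff.2 ⟨inferInstance, fun U V hU hV hle => by
    refine Groth.Agent.PCoh.termwise_induction (fun K => Good f m K U V) E m b hb
      (fun T hT h₁ h₃ => good_obj₂ T hT h₁ h₃)
      (fun K hK _ => good_of_isZero_HD hU hV hle fun k hk => (KFlat.Sch.isZero_HD_toD_iff K k).2 (by
        rw [HomologicalComplex.exactAt_iff]
        exact ShortComplex.exact_of_isZero_X₂ _ (hK k hk)))
      fun k M _ _ ⟨eM⟩ => ?_
    have h1 := good_module_of_flat (hfl k) (rel_of_iso (singleToInD _) (hfp k)) hU hV hle (m - k)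
    exact ((h1.of_iso ((DerivedCategory.singleFunctor X.Modules 0).mapIso eM.symm)).shift (-k) m (by omega)).of_iso
      (((DerivedCategory.singleFunctors X.Modules).shiftIso (-k) k 0 (by omega)).app M)⟩

theorem hasTorAmplitude_of_flat_terms (E : CochainComplex X.Modules ℤ) (a b : ℤ)
    (hab : DCoh.VanishesOutside E a b) (hfl : ∀ i : ℤ, FlatMod.IsFlatOver f (E.X i)) :
    DerSch.HasTorAmplitude f a b E := fun x =>
  ⟨(DerSch.stalkCxOver f x).obj E, fun i hi => (DerSch.stalkOver f x).map_isZero (hab i hi),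
    fun i => hfl i x, ⟨Iso.refl _⟩⟩

theorem isFlatOver_of_hasTorAmplitude {F : X.Modules}
    (h : DerSch.HasTorAmplitude f 0 0 ((HomologicalComplex.single _ (ComplexShape.up ℤ) 0).obj F)) :
    FlatMod.IsFlatOver f F := fun x => by
  obtain ⟨E, hE, hf, ⟨e⟩⟩ := h x
  let A := Y.presheaf.stalk (f.base x)
  let N : ModuleCat.{u} A := (DerSch.stalkOver f x).obj F
  have h' : DRing.HasTorAmplitudeIn A 0 0 (Dual.inD A N) := ⟨E, hE, hf, ⟨e ≪≫
    DerivedCategory.Q.mapIso ((HomologicalComplex.singleMapHomologicalComplex (DerSch.stalkOver f x)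
      (ComplexShape.up ℤ) 0).app F) ≪≫
    ((DerivedCategory.singleFunctorIsoCompQ (ModuleCat.{u} A) 0).app N).symm⟩⟩
  exact (TorBal.flat_iff_hasTorDimLE_zero N).1 (TorBal.hasTorDimLE_of_amplitude N 0 (by simpa using h'))

theorem isFlatOver_of_iso {F G : X.Modules} (e : F ≅ G) (h : FlatMod.IsFlatOver f F) : FlatMod.IsFlatOver f G :=
  fun x => by
    let A := Y.presheaf.stalk (f.base x)
    haveI : Module.Flat A ((DerSch.stalkOver f x).obj F) := h x
    exact Module.Flat.of_linearEquiv (M := (DerSch.stalkOver f x).obj F) (N := (DerSch.stalkOver f x).obj G)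
      ((DerSch.stalkOver f x).mapIso e).toLinearEquiv.symm

theorem isFlatOver_of_isZero {F : X.Modules} (h : IsZero F) : FlatMod.IsFlatOver f F := fun x => by
  haveI := ModuleCat.subsingleton_of_isZero ((DerSch.stalkOver f x).map_isZero h)
  exact (inferInstance : Module.Flat (Y.presheaf.stalk (f.base x)) ((DerSch.stalkOver f x).obj F))

theorem hasPerfAmplitudeRel_zero_iff [LocallyOfFiniteType f] (F : X.Modules) :
    DerSch.HasPerfAmplitudeRel f 0 0 ((HomologicalComplex.single _ (ComplexShape.up ℤ) 0).obj F) ↔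
      FlatMod.IsFlatOver f F ∧
        DerSch.IsPseudoCoherentRel f (-1) (DCoh.toD X ((HomologicalComplex.single _ (ComplexShape.up ℤ) 0).obj F)) := by
  refine ⟨fun h => ⟨isFlatOver_of_hasTorAmplitude h.2, h.1 (-1)⟩, fun ⟨hfl, hfp⟩ => ?_⟩
  let E : CochainComplex X.Modules ℤ := (HomologicalComplex.single _ (ComplexShape.up ℤ) 0).obj F
  have hz : ∀ i : ℤ, i ≠ 0 → IsZero (E.X i) := fun i hi => HomologicalComplex.isZero_single_obj_X _ _ _ _ hi
  have hfl' : ∀ i : ℤ, FlatMod.IsFlatOver f (E.X i) := fun i => by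
    by_cases hi : i = 0
    · subst hi
      exact isFlatOver_of_iso (HomologicalComplex.singleObjXSelf (ComplexShape.up ℤ) 0 F).symm hfl
    · exact isFlatOver_of_isZero (hz i hi)
  have hfp' : ∀ i : ℤ, DerSch.IsPseudoCoherentRel f (-1)
      (DCoh.toD X ((HomologicalComplex.single _ (ComplexShape.up ℤ) 0).obj (E.X i))) := fun i => by
    by_cases hi : i = 0
    · subst hi
      exact rel_of_iso (DerivedCategory.Q.mapIso ((HomologicalComplex.single _ (ComplexShape.up ℤ) 0).mapIso
        (HomologicalComplex.singleObjXSelf (ComplexShape.up ℤ) 0 F).symm)) hfp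
    · refine rel_iff.2 ⟨inferInstance, fun U V hU hV hle => good_of_isZero_HD hU hV hle fun k _ => ?_⟩
      refine (KFlat.Sch.isZero_HD_toD_iff _ k).2 ?_
      rw [HomologicalComplex.exactAt_iff]
      exact ShortComplex.exact_of_isZero_X₂ _ ((HomologicalComplex.eval X.Modules (ComplexShape.up ℤ) k).map_isZero
        ((HomologicalComplex.single X.Modules (ComplexShape.up ℤ) 0).map_isZero (hz i hi)))
  exact ⟨relAll_of_flat_terms E 0 (fun i hi => hz i (by omega)) hfl' hfp',
    hasTorAmplitude_of_flat_terms E 0 0 (fun i hi => hz i (by omega)) hfl'⟩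

theorem flat_iff_isFlatOver_structureModule : Flat f ↔ FlatMod.IsFlatOver f (Coh.structureModule X) := by
  rw [Flat.iff_flat_stalkMap]
  refine forall_congr' fun x => ?_
  let A := Y.presheaf.stalk (f.base x)
  let B := X.presheaf.stalk x
  letI : Algebra A B := (f.stalkMap x).hom.toAlgebra
  letI : Module A ((Coh.structureModule X).presheaf.stalk x) := FlatMod.moduleStalkOver f (Coh.structureModule X) x
  haveI : IsScalarTower A B ((Coh.structureModule X).presheaf.stalk x) := ⟨fun r b z => by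
    change ((f.stalkMap x).hom r * b) • z = (f.stalkMap x).hom r • b • z
    rw [mul_smul]⟩
  let E : B ≃ₗ[B] ((Coh.structureModule X).presheaf.stalk x : Type u) :=
    LinearEquiv.ofBijective (LinearMap.toSpanSingleton _ _ _) (Cyc26.structureModule_stalk_bijective x)
  exact ⟨fun h => haveI : Module.Flat A B := h; Module.Flat.of_linearEquiv (E.restrictScalars A).symm,
    fun h => haveI : Module.Flat A ((Coh.structureModule X).presheaf.stalk x) := h
      Module.Flat.of_linearEquiv (E.restrictScalars A)⟩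

end Groth.Agent.RelPCS8
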