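import Mathlib
import Groth.Agent.Lib.RelPCS8.Closed
import Groth.Agent.Lib.RelPCS8.FlatTerms

set_option autoImplicit false
set_option backward.isDefEq.respectTransparency false
set_option linter.style.haveILetI false
universe u
open CategoryTheory CategoryTheory.Limits AlgebraicGeometry MvPolynomial
attribute [local instance] HasDerivedCategory.standard

namespace Groth.Agent.RelPCS8.CompPC

open PCMor4

/-- Restriction along an algebra pseudo-coherent to the same order. -/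
theorem pcn_restrict {R R' : Type u} [CommRing R] [CommRing R'] [Algebra R R'] :
    ∀ (k : ℕ), PCn R k R' → ∀ (M : Type u) [AddCommGroup M] [Module R M] [Module R' M] [IsScalarTower R R' M],
      PCn R' k M → PCn R k M := by
  intro k
  induction k with
  | zero =>
    intro hR M _ _ _ _ h
    haveI : Module.Finite R R' := finite_of_pcn hR
    haveI : Module.Finite R' M := finite_of_pcn h
    exact pcn_zero_iff.2 (Module.Finite.trans R' M)
  | succ k ih =>
    intro hR M _ _ _ _ h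
    haveI : Module.Finite R' M := finite_of_pcn h
    obtain ⟨n, p, hp⟩ := Module.Finite.exists_fin' R' M
    have hker := ih (pcn_mono k.le_succ hR) (LinearMap.ker p)
      ((pcn_succ_iff p hp (fun m => pcn_finiteProjective m _)).1 h)
    let e : LinearMap.ker p ≃ₗ[R] LinearMap.ker (p.restrictScalars R) :=
      { toFun := fun x => ⟨x.1, x.2⟩
        map_add' := fun _ _ => rfl
        map_smul' := fun _ _ => rfl
        invFun := fun x => ⟨x.1, x.2⟩
        left_inv := fun _ => rfl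
        right_inv := fun _ => rfl }
    have hk : (-((k + 1 : ℕ) : ℤ)) + 1 = -(k : ℤ) := by push_cast; ring
    exact DMod.pcModule_quotient (p.restrictScalars R) hp (hk ▸ pcn_equiv e hker) (pcn_pi hR n)

theorem pcn_map {P B : Type u} [CommRing P] [CommRing B] {φ : P →+* B} (k m : ℕ)
    (h : letI := φ.toAlgebra; PCn P k B) :
    letI := (MvPolynomial.map (σ := Fin m) φ).toAlgebra
    PCn (MvPolynomial (Fin m) P) k (MvPolynomial (Fin m) B) := by
  letI := φ.toAlgebra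
  letI : Algebra (MvPolynomial (Fin m) P) (MvPolynomial (Fin m) B) := algebraMvPolynomial
  exact pcn_equiv (Algebra.IsPushout.equiv P (MvPolynomial (Fin m) P) B (MvPolynomial (Fin m) B)).toLinearEquiv
    (pcn_baseChange (R' := MvPolynomial (Fin m) P) k B h)

variable {X Y Z : Scheme.{u}}

noncomputable def unitIso (X : Scheme.{u}) :
    DCoh.toD X (DerSch.unitCx X) ≅ DCoh.inD X (Coh.structureModule X) := singleToInD _

theorem nPseudoCoherent_iff (f : X ⟶ Y) [LocallyOfFiniteType f] (n : ℤ) :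
    DerSch.IsNPseudoCoherent f n ↔ DerSch.IsPseudoCoherentRel f n (DCoh.inD X (Coh.structureModule X)) :=
  ⟨fun h => rel_of_iso (unitIso X) h, fun h => rel_of_iso (unitIso X).symm h⟩

theorem good_unit_of_pos (f : X ⟶ Y) [LocallyOfFiniteType f] {U : X.Opens} {V : Y.Opens} (hU : IsAffineOpen U)
    (hV : IsAffineOpen V) (h : U ≤ f ⁻¹ᵁ V) {n : ℤ} (hn : 0 < n) :
    Good f n (DCoh.inD X (Coh.structureModule X)) U V :=
  good_of_isZero_HD hU hV h fun j hj => by
    exact (KFlat.Sch.isZero_HD_iff_of_iso (singleToInD (Coh.structureModule X)) j).1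
      ((KFlat.Sch.isZero_HD_toD_iff _ j).2 (by
        rw [HomologicalComplex.exactAt_iff]
        exact ShortComplex.exact_of_isZero_X₂ _ (HomologicalComplex.isZero_single_obj_X (ComplexShape.up ℤ) 0 (Coh.structureModule X) j (by omega))))

/-- The sum polynomial ring. -/
noncomputable def sumEquiv (A : Type u) [CommRing A] (m n : ℕ) :
    MvPolynomial (Fin (m + n)) A ≃ₐ[A] MvPolynomial (Fin m) (MvPolynomial (Fin n) A) :=
  (MvPolynomial.renameEquiv A finSumFinEquiv.symm).trans (MvPolynomial.sumAlgEquiv A (Fin m) (Fin n))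

theorem good_comp (f : X ⟶ Y) (g : Y ⟶ Z) [LocallyOfFiniteType f] [LocallyOfFiniteType g] {U : X.Opens}
    {V : Y.Opens} {W : Z.Opens} (hU : IsAffineOpen U) (hV : IsAffineOpen V) (hW : IsAffineOpen W)
    (hUV : U ≤ f ⁻¹ᵁ V) (hVW : V ≤ g ⁻¹ᵁ W) (k : ℕ)
    (hf : Good f (-(k : ℤ)) (DCoh.inD X (Coh.structureModule X)) U V)
    (hg : Good g (-(k : ℤ)) (DCoh.inD Y (Coh.structureModule Y)) V W) :
    Good (f ≫ g) (-(k : ℤ)) (DCoh.inD X (Coh.structureModule X)) U W := by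
  obtain ⟨n, φ, hφ⟩ := exists_chart_of_lft (f := g) hV hW hVW
  obtain ⟨m, ψ, hψ⟩ := exists_chart_of_lft (f := f) hU hV hUV
  let e := sumEquiv Γ(Z, W) m n
  let χ : MvPolynomial (Fin (m + n)) Γ(Z, W) →+* Γ(X, U) :=
    (ψ.comp (MvPolynomial.map (σ := Fin m) φ)).comp e.toRingEquiv.toRingHom
  have hUW : U ≤ (f ≫ g) ⁻¹ᵁ W := fun x hx => hVW (hUV hx)
  have hχ : DerSch.IsChart (f ≫ g) U W hUW χ := by
    refine ⟨(hψ.1.comp (MvPolynomial.map_surjective φ hφ.1)).comp e.surjective, ?_⟩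
    ext a
    have ha : e (C a) = C (C a) := e.commutes a
    show ψ (MvPolynomial.map φ (e (C a))) = _
    rw [ha, MvPolynomial.map_C]
    have h1 : φ (C a) = (g.appLE W V hVW).hom a := RingHom.congr_fun hφ.2 a
    have h2 : ψ (C ((g.appLE W V hVW).hom a)) = (f.appLE V U hUV).hom ((g.appLE W V hVW).hom a) :=
      RingHom.congr_fun hψ.2 _
    rw [h1, h2, ← RingHom.comp_apply, ← CommRingCat.hom_comp, Scheme.Hom.appLE_comp_appLE]
  refine good_of_chartPC hU hW hχ ((chartPC_iff_test hU χ hχ.1 _ _).2 ((test_unit_iff hU χ hχ.1 k).2 ?_))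
  have hC : letI := ψ.toAlgebra; PCn (MvPolynomial (Fin m) Γ(Y, V)) k Γ(X, U) :=
    (test_unit_iff hU ψ hψ.1 k).1 (hf.test hψ)
  have hB : letI := φ.toAlgebra; PCn (MvPolynomial (Fin n) Γ(Z, W)) k Γ(Y, V) :=
    (test_unit_iff hV φ hφ.1 k).1 (hg.test hφ)
  letI : Algebra (MvPolynomial (Fin m) (MvPolynomial (Fin n) Γ(Z, W))) (MvPolynomial (Fin m) Γ(Y, V)) :=
    (MvPolynomial.map (σ := Fin m) φ).toAlgebra
  letI : Algebra (MvPolynomial (Fin m) Γ(Y, V)) Γ(X, U) := ψ.toAlgebra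
  letI : Algebra (MvPolynomial (Fin m) (MvPolynomial (Fin n) Γ(Z, W))) Γ(X, U) :=
    (ψ.comp (MvPolynomial.map (σ := Fin m) φ)).toAlgebra
  haveI : IsScalarTower (MvPolynomial (Fin m) (MvPolynomial (Fin n) Γ(Z, W))) (MvPolynomial (Fin m) Γ(Y, V)) Γ(X, U) :=
    IsScalarTower.of_algebraMap_eq fun _ => rfl
  have h3 := pcn_restrict k (pcn_map k m hB) Γ(X, U) hC
  letI := χ.toAlgebra
  exact (pcn_iff_of_pcr e.toRingEquiv.toRingHom (pcr_of_bijective _ e.bijective) k Γ(X, U) fun r x => rfl).1 h3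

theorem nPseudoCoherent_comp (f : X ⟶ Y) (g : Y ⟶ Z) [LocallyOfFiniteType f] [LocallyOfFiniteType g] {r s : ℤ}
    (hf : DerSch.IsNPseudoCoherent f r) (hg : DerSch.IsNPseudoCoherent g s) :
    DerSch.IsNPseudoCoherent (f ≫ g) (max r s) := by
  rw [nPseudoCoherent_iff] at hf hg ⊢
  refine rel_of_locally fun x => ?_
  obtain ⟨V₀, W, hxV₀, hV₀, hW, hVW⟩ := exists_affine_pair g (f x)
  obtain ⟨U, hU, hxU, hUV⟩ := TopologicalSpace.Opens.isBasis_iff_nbhd.1 X.isBasis_affineOpens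
    (show x ∈ f ⁻¹ᵁ V₀ from hxV₀)
  refine ⟨U, W, hxU, ?_⟩
  by_cases hpos : 0 < max r s
  · exact good_unit_of_pos (f ≫ g) hU hW (fun y hy => hVW (hUV hy)) hpos
  obtain ⟨k, hk⟩ : ∃ k : ℕ, max r s = -(k : ℤ) := ⟨(-max r s).toNat, by omega⟩
  rw [hk]
  exact good_comp f g hU hV₀ hW hUV hVW k (((rel_iff.1 hf).2 U V₀ hU hV₀ hUV).mono (by omega))
    (((rel_iff.1 hg).2 V₀ W hV₀ hW hVW).mono (by omega))

/-- With `g` pseudo-coherent, relative pseudo-coherence over `g` and over the composite agree. -/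
theorem rel_comp_iff (f : X ⟶ Y) (g : Y ⟶ Z) [LocallyOfFiniteType f] [LocallyOfFiniteType g]
    (hg : ∀ n : ℤ, DerSch.IsNPseudoCoherent g n) (a : ℤ) (K : DCoh.D X) :
    DerSch.IsPseudoCoherentRel (f ≫ g) a K ↔ DerSch.IsPseudoCoherentRel f a K := by
  have key : ∀ (U : X.Opens) (V : Y.Opens) (W : Z.Opens), IsAffineOpen U → IsAffineOpen V → IsAffineOpen W →
      U ≤ f ⁻¹ᵁ V → V ≤ g ⁻¹ᵁ W → (Good (f ≫ g) a K U W ↔ Good f a K U V) := by
    intro U V W hU hV hW hUV hVW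
    obtain ⟨n, φ, hφ⟩ := exists_chart_of_lft (f := g) hV hW hVW
    obtain ⟨m, ψ, hψ⟩ := exists_chart_of_lft (f := f) hU hV hUV
    let e := sumEquiv Γ(Z, W) m n
    let σ : MvPolynomial (Fin (m + n)) Γ(Z, W) →+* MvPolynomial (Fin m) Γ(Y, V) :=
      (MvPolynomial.map (σ := Fin m) φ).comp e.toRingEquiv.toRingHom
    have hσs : Function.Surjective σ := (MvPolynomial.map_surjective φ hφ.1).comp e.surjective
    have hφpc : PCR φ := fun k =>
      (test_unit_iff hV φ hφ.1 k).1 ((((rel_iff.1 ((nPseudoCoherent_iff g (-(k : ℤ))).1 (hg _))).2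
        V W hV hW hVW)).test hφ)
    have hσpc : PCR σ := pcr_comp (pcr_of_bijective _ e.bijective) (pcr_map hφpc m)
    have hUW : U ≤ (f ≫ g) ⁻¹ᵁ W := fun x hx => hVW (hUV hx)
    have hχ : DerSch.IsChart (f ≫ g) U W hUW (ψ.comp σ) := by
      refine ⟨hψ.1.comp hσs, ?_⟩
      ext a
      have ha : e (C a) = C (C a) := e.commutes a
      show ψ (MvPolynomial.map φ (e (C a))) = _
      rw [ha, MvPolynomial.map_C]
      have h1 : φ (C a) = (g.appLE W V hVW).hom a := RingHom.congr_fun hφ.2 a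
      have h2 : ψ (C ((g.appLE W V hVW).hom a)) = (f.appLE V U hUV).hom ((g.appLE W V hVW).hom a) :=
        RingHom.congr_fun hψ.2 _
      rw [h1, h2, ← RingHom.comp_apply, ← CommRingCat.hom_comp, Scheme.Hom.appLE_comp_appLE]
    exact ⟨fun h => good_of_chartPC hU hV hψ ((chartPC_iff_test hU ψ hψ.1 _ _).2
        ((test_comp_iff hU ψ hψ.1 σ hσs hσpc a K).1 (h.test hχ))),
      fun h => good_of_chartPC hU hW hχ ((chartPC_iff_test hU (ψ.comp σ) (hψ.1.comp hσs) _ _).2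
        ((test_comp_iff hU ψ hψ.1 σ hσs hσpc a K).2 (h.test hψ)))⟩
  have hpair : ∀ x : X, ∃ (U : X.Opens) (V : Y.Opens) (W : Z.Opens), x ∈ U ∧ IsAffineOpen U ∧ IsAffineOpen V ∧
      IsAffineOpen W ∧ U ≤ f ⁻¹ᵁ V ∧ V ≤ g ⁻¹ᵁ W := fun x => by
    obtain ⟨V₀, W, hxV₀, hV₀, hW, hVW⟩ := exists_affine_pair g (f x)
    obtain ⟨U, hU, hxU, hUV⟩ := TopologicalSpace.Opens.isBasis_iff_nbhd.1 X.isBasis_affineOpens
      (show x ∈ f ⁻¹ᵁ V₀ from hxV₀)
    exact ⟨U, V₀, W, hxU, hU, hV₀, hW, hUV, hVW⟩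
  constructor
  · intro h
    refine rel_of_locally fun x => ?_
    obtain ⟨U, V, W, hx, hU, hV, hW, hUV, hVW⟩ := hpair x
    exact ⟨U, V, hx, (key U V W hU hV hW hUV hVW).1 ((rel_iff.1 h).2 U W hU hW fun y hy => hVW (hUV hy))⟩
  · intro h
    refine rel_of_locally fun x => ?_
    obtain ⟨U, V, W, hx, hU, hV, hW, hUV, hVW⟩ := hpair x
    exact ⟨U, W, hx, (key U V W hU hV hW hUV hVW).2 ((rel_iff.1 h).2 U V hU hV hUV)⟩

end Groth.Agent.RelPCS8.CompPC
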