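import Mathlib
import Groth.Agent.Lib.RelPCS8.CompPC
import Groth.Agent.Lib.RelPCS8.Cohom
import Groth.Agent.Lib.RelPCS8.FlatFP
import Groth.Agent.Lib.DPush9.Coh
import Groth.Agent.Lib.DMV.Restrict
import Groth.Agent.Lib.DBC9.Affine

/-!
# Relative pseudo-coherence over a locally Noetherian base
-/

set_option autoImplicit false
set_option backward.isDefEq.respectTransparency false
set_option linter.style.haveILetI false
universe u
open CategoryTheory CategoryTheory.Limits AlgebraicGeometry MvPolynomial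
attribute [local instance] HasDerivedCategory.standard

namespace Groth.Agent.RelPCS8.Noeth

open PCMor4 CompPC

variable {X Y S : Scheme.{u}}

/-- Over a locally Noetherian base a morphism locally of finite type is pseudo-coherent. -/
theorem nPseudoCoherent [IsLocallyNoetherian S] (f : X ⟶ S) [LocallyOfFiniteType f] (n : ℤ) :
    DerSch.IsNPseudoCoherent f n := by
  rw [nPseudoCoherent_iff]
  refine rel_of_locally fun x => ?_
  obtain ⟨U, V, hxU, hU, hV, hUV⟩ := exists_affine_pair f x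
  refine ⟨U, V, hxU, ?_⟩
  by_cases hpos : 0 < n
  · exact good_unit_of_pos f hU hV hUV hpos
  obtain ⟨k, rfl⟩ : ∃ k : ℕ, n = -(k : ℤ) := ⟨(-n).toNat, by omega⟩
  obtain ⟨m, φ, hφ⟩ := exists_chart_of_lft (f := f) hU hV hUV
  haveI : IsNoetherianRing Γ(S, V) := IsLocallyNoetherian.component_noetherian ⟨V, hV⟩
  refine good_of_chartPC hU hV hφ ((chartPC_iff_test hU φ hφ.1 _ _).2 ((test_unit_iff hU φ hφ.1 k).2 ?_))
  letI := φ.toAlgebra
  haveI : Module.Finite (MvPolynomial (Fin m) Γ(S, V)) Γ(X, U) :=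
    Module.Finite.of_surjective (Algebra.linearMap (MvPolynomial (Fin m) Γ(S, V)) Γ(X, U)) hφ.1
  exact pcn_of_isNoetherianRing Γ(X, U) k

theorem rel_iff_pc' [IsLocallyNoetherian S] (f : X ⟶ S) [LocallyOfFiniteType f] (m : ℤ) (K : DCoh.D X) :
    DerSch.IsPseudoCoherentRel f m K ↔ DCoh.IsPseudoCoherentD m K :=
  rel_iff_pc (nPseudoCoherent f) m K

theorem isCohD_of_relAll [IsLocallyNoetherian S] (f : X ⟶ S) [LocallyOfFiniteType f] {K : DCoh.D X}
    (h : DerSch.IsPseudoCoherentRelAll f K) : DCoh.IsCohD K := fun i => by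
  haveI : IsLocallyNoetherian X := LocallyOfFiniteType.isLocallyNoetherian f
  exact DPerf.isCoh_HD_of_pseudoCoherent ((rel_iff_pc' f i K).1 (h i))
    (isQCoh_HD_of_rel (h (i - 1)) (show i - 1 < i by omega)) le_rfl

/-- Coherent cohomology, locally bounded above: pseudo-coherent. -/
theorem pc_of_isCohD [IsLocallyNoetherian X] {K : DCoh.D X} (hc : DCoh.IsCohD K)
    (hb : ∀ x : X, ∃ (V : X.Opens) (b : ℤ), x ∈ V ∧ ((DPerf.resD V.ι).obj K).IsLE b) (m : ℤ) :
    DCoh.IsPseudoCoherentD m K := by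
  refine DPerf.isPseudoCoherentD_of_approx (approx_of_cover fun x => ?_)
  obtain ⟨V, b, hx, hV⟩ := hb x
  refine ⟨V, V.ι, inferInstance, ⟨⟨x, hx⟩, rfl⟩, DPerf.approx_of_isPseudoCoherentD ?_⟩
  haveI := hV
  haveI : IsLocallyNoetherian (V : Scheme.{u}) := isLocallyNoetherian_of_isOpenImmersion V.ι
  exact DPerf.isPseudoCoherentD_of_coherent (fun i _ =>
    ⟨M1.isQCoh_of_isIso (DPerf.hdResIso V.ι K i).symm (DPerf.isCoh_restrict (hc i) V.ι).1,
      M1.isFT_of_isIso (DPerf.hdResIso V.ι K i).symm (DPerf.isCoh_restrict (hc i) V.ι).2⟩) b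

theorem isLE_res {K : DCoh.D X} {b : ℤ} [K.IsLE b] {W : Scheme.{u}} (j : W ⟶ X) [IsOpenImmersion j] :
    ((DPerf.resD j).obj K).IsLE b :=
  (DerivedCategory.isLE_iff _ _).2 fun i hi => ((Scheme.Modules.restrictFunctor j).map_isZero
    (DerivedCategory.isZero_of_isLE K b i hi)).of_iso (DPerf.hdResIso j K i)

theorem isGE_res {K : DCoh.D X} {b : ℤ} [K.IsGE b] {W : Scheme.{u}} (j : W ⟶ X) [IsOpenImmersion j] :
    ((DPerf.resD j).obj K).IsGE b :=
  (DerivedCategory.isGE_iff _ _).2 fun i hi => ((Scheme.Modules.restrictFunctor j).map_isZero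
    (DerivedCategory.isZero_of_isGE K b i hi)).of_iso (DPerf.hdResIso j K i)

theorem isProperOver_of_isCoh {f : X ⟶ Y} [IsProper f] {M : X.Modules} (hM : Coh.IsCoh M) :
    ClSub.IsProperOver f (CohB1.support M) :=
  ⟨M1.isClosed_support hM.2, inferInstance⟩

/-- Derived direct images of pseudo-coherent bounded below objects under proper maps. -/
theorem pc_rpush [IsLocallyNoetherian Y] (f : X ⟶ Y) [IsProper f] [DCoh.HasRpush f] (E : DCoh.D X) (a : ℤ) [E.IsGE a]
    (hc : DCoh.IsCohD E) (hb : ∀ m, DCoh.IsPseudoCoherentD m E) (m : ℤ) :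
    DCoh.IsPseudoCoherentD m ((DCoh.Rpush f).obj E) := by
  refine pc_of_isCohD (DPush9.isCohD_rpush f E a inferInstance hc fun i => isProperOver_of_isCoh (hc i)) (fun y => ?_) m
  obtain ⟨V, hV, hy, -⟩ := exists_isAffineOpen_mem_and_subset (x := y) (U := ⊤) trivial
  haveI : CompactSpace (V : Scheme.{u}) := isCompact_iff_compactSpace.1 hV.isCompact
  haveI : IsLocallyNoetherian (V : Scheme.{u}) := isLocallyNoetherian_of_isOpenImmersion V.ι
  haveI : IsLocallyNoetherian X := LocallyOfFiniteType.isLocallyNoetherian f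
  haveI : CompactSpace (f ⁻¹ᵁ V : Scheme.{u}) := QuasiCompact.compactSpace_of_compactSpace (f ∣_ V)
  haveI : DCoh.HasRpush (f ∣_ V) := DBC9.hasRpush _
  let K := (DPerf.resD (f ⁻¹ᵁ V).ι).obj E
  obtain ⟨b, hKb⟩ := DPerf.exists_isLE_of_pseudoCoherent (K := K)
    (DPerf.isPseudoCoherentD_of_approx ((DPerf.approx_of_isPseudoCoherentD (hb a)).res _))
  haveI := hKb
  haveI : K.IsGE a := isGE_res _
  have hKc : DCoh.IsCohD K := fun i =>
    ⟨M1.isQCoh_of_isIso (DPerf.hdResIso (f ⁻¹ᵁ V).ι E i).symm (DPerf.isCoh_restrict (hc i) _).1,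
      M1.isFT_of_isIso (DPerf.hdResIso (f ⁻¹ᵁ V).ι E i).symm (DPerf.isCoh_restrict (hc i) _).2⟩
  obtain ⟨b', hb'⟩ := DPush9.exists_isLE_rpush (f ∣_ V) K a b inferInstance hKb hKc
    fun i => isProperOver_of_isCoh (hKc i)
  obtain ⟨e⟩ := DMV.nonempty_restrictD_rpush f V
  refine ⟨V, b', hy, (DerivedCategory.isLE_iff _ _).2 fun i hi => ?_⟩
  exact (DerivedCategory.isZero_of_isLE ((DCoh.Rpush (f ∣_ V)).obj K) b' i hi).of_iso
    ((DerivedCategory.homologyFunctor _ i).mapIso (e.app E))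

theorem relAll_rpush [IsLocallyNoetherian S] (p : X ⟶ S) (q : Y ⟶ S) [LocallyOfFiniteType p] [LocallyOfFiniteType q]
    (f : X ⟶ Y) [IsProper f] [DCoh.HasRpush f] (E : DCoh.D X) (a : ℤ) [E.IsGE a]
    (hE : DerSch.IsPseudoCoherentRelAll p E) : DerSch.IsPseudoCoherentRelAll q ((DCoh.Rpush f).obj E) := by
  haveI : IsLocallyNoetherian Y := LocallyOfFiniteType.isLocallyNoetherian q
  exact fun m => (rel_iff_pc' q m _).2
    (pc_rpush f E a (isCohD_of_relAll p hE) (fun k => (rel_iff_pc' p k E).1 (hE k)) m)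

end Groth.Agent.RelPCS8.Noeth
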