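import Mathlib
import Groth.Agent.Lib.DPerf.Tilde
import Groth.Agent.Lib.FlatH4.ModFlatAt
import Groth.Agent.Lib.FlatH4.FlatComp

/-!
# Flatness of `tilde N` over an affine base
-/

set_option autoImplicit false
set_option backward.isDefEq.respectTransparency false
set_option linter.style.haveILetI false
universe u
open CategoryTheory CategoryTheory.Limits AlgebraicGeometry
attribute [local instance] HasDerivedCategory.standard

namespace Groth.Agent.RelPCS8.FlatTilde

variable {R C : CommRingCat.{u}} (σ : R ⟶ C) (N : ModuleCat.{u} C)

theorem toStalk_comp (x : PrimeSpectrum C) (r : R) :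
    (Spec.map σ).stalkMap x (StructureSheaf.toStalk R ((Spec.map σ).base x) r) =
      StructureSheaf.toStalk C x (σ r) := by
  exact AlgebraicGeometry.stalkMap_toStalk_apply σ x r

theorem isFlatOverAt_iff (x : PrimeSpectrum C) :
    letI := σ.hom.toAlgebra
    letI : Module R N := Module.compHom N σ.hom
    haveI : IsScalarTower R C N := IsScalarTower.of_algebraMap_smul fun _ _ => rfl
    FlatMod.IsFlatOverAt (Spec.map σ) ((tilde.functor C).obj N) x ↔
      Module.Flat R (LocalizedModule x.asIdeal.primeCompl N) := by
  letI := σ.hom.toAlgebra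
  letI : Module R N := Module.compHom N σ.hom
  haveI : IsScalarTower R C N := IsScalarTower.of_algebraMap_smul fun _ _ => rfl
  let p : PrimeSpectrum R := (Spec.map σ).base x
  let A := ((Spec R).presheaf.stalk p : Type u)
  let Mx := ((tilde N).presheaf.stalk x : Type u)
  letI : Algebra R A := (StructureSheaf.toStalk R p).hom.toAlgebra
  haveI : IsLocalization p.asIdeal.primeCompl A := by
    exact (inferInstance : IsLocalization.AtPrime ((Spec.structureSheaf R).presheaf.stalk p) p.asIdeal)
  letI : Module A Mx := FlatMod.moduleStalkOver (Spec.map σ) (tilde N) x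
  letI : Module R Mx := Module.compHom Mx (algebraMap R A)
  haveI : IsScalarTower R A Mx := IsScalarTower.of_algebraMap_smul fun _ _ => rfl
  haveI : IsScalarTower R C Mx := IsScalarTower.of_algebraMap_smul fun r z => by
    show σ r • z = ((Spec.map σ).stalkMap x (StructureSheaf.toStalk R p r)) • z
    rw [toStalk_comp σ x r]
    rfl
  haveI : IsLocalizedModule x.asIdeal.primeCompl (tilde.toStalk N x).hom :=
    inferInstanceAs (IsLocalizedModule x.asIdeal.primeCompl (StructureSheaf.toStalkₗ ..))
  let iso := (IsLocalizedModule.iso x.asIdeal.primeCompl (tilde.toStalk N x).hom).restrictScalars R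
  show Module.Flat A Mx ↔ _
  rw [Module.flat_iff_of_isLocalization A p.asIdeal.primeCompl Mx]
  exact ⟨fun _ => Module.Flat.of_linearEquiv iso, fun _ => Module.Flat.of_linearEquiv iso.symm⟩

/-- `tilde N` is flat over the base iff `N` is flat over the base ring. -/
theorem isFlatOver_iff :
    FlatMod.IsFlatOver (Spec.map σ) ((tilde.functor C).obj N) ↔
      Module.Flat R ((ModuleCat.restrictScalars.{u} σ.hom).obj N) := by
  letI := σ.hom.toAlgebra
  letI : Module R N := Module.compHom N σ.hom
  haveI : IsScalarTower R C N := IsScalarTower.of_algebraMap_smul fun _ _ => rfl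
  show _ ↔ Module.Flat R N
  refine ⟨fun h => ?_, fun h x => (isFlatOverAt_iff σ N x).2 ?_⟩
  · refine Module.flat_of_isLocalized_maximal (R := R) (S := C) (M := N)
      (fun P _ => LocalizedModule P.primeCompl N) (fun P _ => LocalizedModule.mkLinearMap P.primeCompl N) fun P hP => ?_
    exact (isFlatOverAt_iff σ N ⟨P, hP.isPrime⟩).1 (h _)
  · haveI := IsLocalization.flat (Localization x.asIdeal.primeCompl) x.asIdeal.primeCompl
    haveI := FlatH4.flat_tensor_of_flat (A := R) (B := C) (C := Localization x.asIdeal.primeCompl) (M := N)
    exact Module.Flat.of_linearEquiv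
      ((LocalizedModule.equivTensorProduct x.asIdeal.primeCompl N).restrictScalars R)

end Groth.Agent.RelPCS8.FlatTilde
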