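import Mathlib
import Groth.Prelude.Def_DerSch2
import Groth.Agent.Lib.DBaseChange.TorAmp
import Groth.Agent.Lib.KFlat.TorCriterion
import Groth.Agent.Lib.DPerf.Tilde

set_option autoImplicit false
set_option backward.isDefEq.respectTransparency false
set_option linter.style.haveILetI false
universe u
open CategoryTheory CategoryTheory.Limits AlgebraicGeometry MonoidalCategory
attribute [local instance] HasDerivedCategory.standard

namespace Groth.Agent.RelPCS8.StalkId

open KFlat KFlat.Sch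

variable {X : Scheme.{u}}

noncomputable def stOverIdIso (x : X) : DerSch.stalkOver (𝟙 X) x ≅ stF x :=
  NatIso.ofComponents (fun M => LinearEquiv.toModuleIso
    (({ AddEquiv.refl (M.presheaf.stalk x : Type u) with
        map_smul' := fun r m => by
          change @HSMul.hSMul (X.presheaf.stalk x) ((stF x).obj M) ((stF x).obj M) instHSMul
            (((𝟙 X : X ⟶ X).stalkMap x).hom r) m =
            @HSMul.hSMul (X.presheaf.stalk x) ((stF x).obj M) ((stF x).obj M) instHSMul r m
          rw [Scheme.Hom.stalkMap_id]; rfl } :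
      ((DerSch.stalkOver (𝟙 X) x).obj M) ≃ₗ[X.presheaf.stalk x] ((stF x).obj M)))) fun {M N} φ => rfl

noncomputable def stTensorRightIso (x : X) (M : X.Modules) :
    DCoh.tensorRightMod M ⋙ stF x ≅ stF x ⋙ tensorRight ((stF x).obj M) :=
  Functor.isoWhiskerRight (tensorRightModIso _).symm (stF x) ≪≫
    NatIso.ofComponents (fun L => stTensorIso x L M) fun {L L'} f => (natural_stTensorIso x).left f M

theorem flat_of_iso {A : Type u} [CommRing A] {M N : ModuleCat.{u} A} (e : M ≅ N) (h : Module.Flat A M) :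
    Module.Flat A N := Module.Flat.of_linearEquiv e.symm.toLinearEquiv

theorem torAmp_congr {A : Type u} [CommRing A] {K L : Dual.D A} (e : K ≅ L) {a b : ℤ}
    (h : DRing.HasTorAmplitudeIn A a b K) : DRing.HasTorAmplitudeIn A a b L := by
  obtain ⟨E, h1, h2, ⟨e'⟩⟩ := h
  exact ⟨E, h1, h2, ⟨e' ≪≫ e⟩⟩

/-- quasi-isomorphism invariance of the stalk complexes -/
noncomputable def stalkToDIso (x : X) {Y : Scheme.{u}} (f : X ⟶ Y) {F G : CochainComplex X.Modules ℤ}
    [((DerSch.stalkOver f x)).PreservesZeroMorphisms]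
    [PreservesFiniteLimits (DerSch.stalkOver f x)] [PreservesFiniteColimits (DerSch.stalkOver f x)]
    (e : DCoh.toD X F ≅ DCoh.toD X G) :
    DRing.toD ((DerSch.stalkCxOver f x).obj F) ≅ DRing.toD ((DerSch.stalkCxOver f x).obj G) :=
  ((DerSch.stalkOver f x).mapDerivedCategoryFactors.app F).symm ≪≫
    (DerSch.stalkOver f x).mapDerivedCategory.mapIso e ≪≫
    (DerSch.stalkOver f x).mapDerivedCategoryFactors.app G

theorem preservesFiniteLimits_stalkOver {Y : Scheme.{u}} (f : X ⟶ Y) (x : X) :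
    PreservesFiniteLimits (DerSch.stalkOver f x) ∧ PreservesFiniteColimits (DerSch.stalkOver f x) := by
  have : (DerSch.stalkOver f x).Additive := inferInstance
  refine ((DerSch.stalkOver f x).exact_tfae.out 1 3).1 fun S hS => ?_
  refine (show ((S.map (DerSch.stalkFunctor X x)).map (ModuleCat.restrictScalars.{u} (f.stalkMap x).hom)).Exact from
    ShortComplex.Exact.map ?_ _)
  rw [← ShortComplex.exact_map_iff_of_faithful _ (forget₂ (ModuleCat.{u} (X.presheaf.stalk x)) AddCommGrpCat.{u})]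
  exact (M1.exact_iff_stalk S).1 hS x

theorem torAmp_stalks_of_flatAmplitude {F : CochainComplex X.Modules ℤ} {a b : ℤ}
    (h : DCoh.HasFlatAmplitudeIn a b (DCoh.toD X F)) : DerSch.HasTorAmplitude (𝟙 X) a b F := by
  obtain ⟨E, hv, hf, ⟨e⟩⟩ := h
  intro x
  haveI := (preservesFiniteLimits_stalkOver (𝟙 X) x).1
  haveI := (preservesFiniteLimits_stalkOver (𝟙 X) x).2
  refine ⟨(DerSch.stalkCxOver (𝟙 X) x).obj E, fun i hi => (DerSch.stalkOver (𝟙 X) x).map_isZero (hv i hi),
    fun i => ?_, ⟨stalkToDIso x (𝟙 X) e⟩⟩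
  exact flat_of_iso ((stOverIdIso x).app (E.X i)).symm (hf i x)

theorem flatAmplitude_of_torAmp_stalks {F : CochainComplex X.Modules ℤ} (d : ℤ)
    [(DCoh.toD X F).IsLE d] {a b : ℤ} (hab : a ≤ b) (h : DerSch.HasTorAmplitude (𝟙 X) a b F) :
    DCoh.HasFlatAmplitudeIn a b (DCoh.toD X F) := by
  obtain ⟨K₀, hK₀, ⟨e₀⟩⟩ : ∃ (K₀ : CochainComplex X.Modules ℤ) (_ : K₀.IsStrictlyLE d),
      Nonempty (DCoh.toD X K₀ ≅ DCoh.toD X F) := by
    obtain ⟨K₀, hK, ⟨e⟩⟩ := DerivedCategory.exists_iso_Q_obj_of_isLE (DCoh.toD X F) d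
    exact ⟨K₀, hK, ⟨e.symm⟩⟩
  have hq := quasiIso_resπ (cover X) K₀
  let K := resObj (cover X) K₀
  haveI : K.IsStrictlyLE d := resObj_isStrictlyLE (cover X) K₀ d
  let e : DCoh.toD X K ≅ DCoh.toD X F := asIso (DerivedCategory.Q.map (resπ (cover X) K₀)) ≪≫ e₀
  refine flatAmplitude_of_torAmplitude hab fun M _ i hi => ?_
  rw [isZero_HD_lTensorMod_iff M K (isAdapted_resObj K₀) e i, HomologicalComplex.exactAt_iff,
    exact_iff_stF]
  intro x
  let S := (stF x).obj M
  let P : CochainComplex (ModuleCat.{u} (X.presheaf.stalk x)) ℤ := ((stF x).mapHomologicalComplex (ComplexShape.up ℤ)).obj K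
  haveI : P.IsStrictlyLE d := (CochainComplex.isStrictlyLE_iff _ d).2 fun i hi =>
    (stF x).map_isZero (K.isZero_of_isStrictlyLE d i hi)
  have hP : ∀ i, Module.Flat (X.presheaf.stalk x) (P.X i) := fun i =>
    (isFlat_iff _).1 ((isAdapted_resObj K₀).2.2 i) x
  haveI := (preservesFiniteLimits_stalkOver (𝟙 X) x).1
  haveI := (preservesFiniteLimits_stalkOver (𝟙 X) x).2
  have eP : DRing.toD ((DerSch.stalkCxOver (𝟙 X) x).obj F) ≅ DRing.toD P :=
    (stalkToDIso x (𝟙 X) e).symm ≪≫ DerivedCategory.Q.mapIso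
      ((NatIso.mapHomologicalComplex (stOverIdIso x) (ComplexShape.up ℤ)).app K)
  obtain ⟨hge, hle⟩ := DBaseChange.torBound_of_hasTorAmplitudeIn P d hP a b (torAmp_congr eP (h x)) S
  have hex : ((DBaseChange.tm S).obj P).ExactAt i := by
    rcases hi with hi | hi
    · exact (HomologicalComplex.exactAt_iff_isZero_homology _ _).2 (@ModuleCat.isZero_of_subsingleton _ _ _ ((DMod.subsingleton_HD_toD_iff _ i).1 ((DMod.isGE_iff _ a).1 hge i hi)))
    · exact (HomologicalComplex.exactAt_iff_isZero_homology _ _).2 (@ModuleCat.isZero_of_subsingleton _ _ _ ((DMod.subsingleton_HD_toD_iff _ i).1 ((DMod.isLE_iff _ b).1 hle i hi)))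
  rw [HomologicalComplex.exactAt_iff] at hex
  exact (ShortComplex.exact_iff_of_iso ((K.sc i).mapNatIso (stTensorRightIso x M))).2 hex

theorem flatAmplitude_iff_torAmp_stalks (F : CochainComplex X.Modules ℤ) (d : ℤ)
    [(DCoh.toD X F).IsLE d] (a b : ℤ) :
    DCoh.HasFlatAmplitudeIn a b (DCoh.toD X F) ↔ DerSch.HasTorAmplitude (𝟙 X) a b F := by
  refine ⟨torAmp_stalks_of_flatAmplitude, fun h => ?_⟩
  by_cases hab : a ≤ b
  · exact flatAmplitude_of_torAmp_stalks d hab h
  have hF : ∀ i, IsZero (DCoh.HD (DCoh.toD X F) i) := fun i => by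
    rw [isZero_HD_toD_iff, HomologicalComplex.exactAt_iff, exact_iff_stF]
    intro x
    obtain ⟨E, hv, -, ⟨e⟩⟩ := h x
    have hE : ((DerSch.stalkCxOver (𝟙 X) x).obj F).ExactAt i := by
      rw [HomologicalComplex.exactAt_iff_isZero_homology]
      refine IsZero.of_iso ?_ (((DerivedCategory.homologyFunctorFactors _ i).app _).symm ≪≫
        (DerivedCategory.homologyFunctor _ i).mapIso e.symm ≪≫ (DerivedCategory.homologyFunctorFactors _ i).app _)
      exact (HomologicalComplex.exactAt_iff_isZero_homology _ _).1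
        ((HomologicalComplex.exactAt_iff _ _).2 (ShortComplex.exact_of_isZero_X₂ _ (hv i (by omega))))
    rw [HomologicalComplex.exactAt_iff] at hE
    exact (ShortComplex.exact_iff_of_iso ((F.sc i).mapNatIso (stOverIdIso x))).1 hE
  have hz : IsZero (DCoh.toD X F) := by
    have : (DCoh.toD X F).IsGE (d + 1) := (DerivedCategory.isGE_iff _ _).2 fun i _ => hF i
    exact DerivedCategory.TStructure.t.isZero (DCoh.toD X F) d (d + 1) (by omega)
  obtain ⟨Z, hZ⟩ : ∃ Z : CochainComplex X.Modules ℤ, IsZero Z := HasZeroObject.zero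
  have hZi : ∀ i, IsZero (Z.X i) := fun i => (HomologicalComplex.eval X.Modules (ComplexShape.up ℤ) i).map_isZero hZ
  exact ⟨Z, fun i _ => hZi i, fun i => (isFlat_iff _).1 (isFlat_of_isZero (hZi i)),
    ⟨(DerivedCategory.Q.map_isZero hZ).iso hz⟩⟩

end Groth.Agent.RelPCS8.StalkId
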