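import Mathlib
import Groth.Prelude.Def_DerSch2
import Groth.Agent.Lib.DBaseChange.ResTor
import Groth.Agent.Lib.Cyc26.Stalk

set_option autoImplicit false
set_option backward.isDefEq.respectTransparency false
set_option linter.style.haveILetI false
universe u
open CategoryTheory CategoryTheory.Limits AlgebraicGeometry
attribute [local instance] HasDerivedCategory.standard

namespace Groth.Agent.RelPCS8.StalkTor

variable {X Y Z : Scheme.{u}}

theorem stalkMap_comp_hom (f : X ⟶ Y) (g : Y ⟶ Z) (x : X) :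
    ((f ≫ g).stalkMap x).hom = (f.stalkMap x).hom.comp (g.stalkMap (f.base x)).hom := by
  rw [Scheme.Hom.stalkMap_comp]; rfl

/-- stalk complexes over a composite -/
noncomputable def stalkCompIso (f : X ⟶ Y) (g : Y ⟶ Z) (x : X) :
    DerSch.stalkOver (f ≫ g) x ≅
      DerSch.stalkOver f x ⋙ ModuleCat.restrictScalars.{u} (g.stalkMap (f.base x)).hom :=
  Functor.isoWhiskerLeft (DerSch.stalkFunctor X x)
    (ModuleCat.restrictScalarsComp' _ _ _ (stalkMap_comp_hom f g x))

noncomputable def stalkCxCompIso (f : X ⟶ Y) (g : Y ⟶ Z) (x : X) :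
    DerSch.stalkCxOver (f ≫ g) x ≅ DerSch.stalkCxOver f x ⋙
      (ModuleCat.restrictScalars.{u} (g.stalkMap (f.base x)).hom).mapHomologicalComplex (ComplexShape.up ℤ) :=
  NatIso.mapHomologicalComplex (stalkCompIso f g x) (ComplexShape.up ℤ)

theorem hasTorAmplitudeIn_restrict_hom {A B : Type u} [CommRing A] [CommRing B] (φ : A →+* B) {d : ℕ}
    (hB : DRing.HasTorAmplitudeIn A (-(d : ℤ)) 0
      ((DerivedCategory.singleFunctor (ModuleCat.{u} A) 0).obj ((ModuleCat.restrictScalars.{u} φ).obj (ModuleCat.of B B))))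
    (K : Dual.D B) (a b : ℤ) (hK : DRing.HasTorAmplitudeIn B a b K) :
    DRing.HasTorAmplitudeIn A (a - d) b ((DRing.restrictD φ).obj K) := by
  letI : Algebra A B := φ.toAlgebra
  refine DBaseChange.hasTorAmplitudeIn_restrict ?_ K a b hK
  obtain ⟨E, h1, h2, ⟨e⟩⟩ := hB
  have l : ((ModuleCat.restrictScalars.{u} φ).obj (ModuleCat.of B B)) ≅ ModuleCat.of A B :=
    ({ AddEquiv.refl B with map_smul' := fun _ _ => rfl } :
      ((ModuleCat.restrictScalars.{u} φ).obj (ModuleCat.of B B)) ≃ₗ[A] B).toModuleIso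
  exact ⟨E, h1, h2, ⟨e ≪≫ (DerivedCategory.singleFunctor (ModuleCat.{u} A) 0).mapIso l⟩⟩

/-- the stalk of the structure module -/
noncomputable def unitStalkIso (x : X) :
    (DerSch.stalkFunctor X x).obj (Coh.structureModule X) ≅ ModuleCat.of (X.presheaf.stalk x) (X.presheaf.stalk x) :=
  (LinearEquiv.ofBijective (LinearMap.toSpanSingleton _ _ _)
    (Cyc26.structureModule_stalk_bijective (Z := X) x)).toModuleIso.symm

noncomputable def unitCxIso (g : Y ⟶ Z) (y : Y) :
    DRing.toD ((DerSch.stalkCxOver g y).obj (DerSch.unitCx Y)) ≅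
      (DerivedCategory.singleFunctor (ModuleCat.{u} (Z.presheaf.stalk (g.base y))) 0).obj
        ((ModuleCat.restrictScalars.{u} (g.stalkMap y).hom).obj
          (ModuleCat.of (Y.presheaf.stalk y) (Y.presheaf.stalk y))) :=
  DerivedCategory.Q.mapIso
      ((HomologicalComplex.singleMapHomologicalComplex (DerSch.stalkOver g y) (ComplexShape.up ℤ) 0).app _ ≪≫
        (HomologicalComplex.single _ (ComplexShape.up ℤ) 0).mapIso
          ((ModuleCat.restrictScalars.{u} (g.stalkMap y).hom).mapIso (unitStalkIso y))) ≪≫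
    (DerivedCategory.singleFunctorIsoCompQ _ 0).symm.app _

theorem hasTorAmplitudeIn_congr {A : Type u} [CommRing A] {K L : Dual.D A} (e : K ≅ L) {a b : ℤ}
    (h : DRing.HasTorAmplitudeIn A a b K) : DRing.HasTorAmplitudeIn A a b L := by
  obtain ⟨E, h1, h2, ⟨e'⟩⟩ := h
  exact ⟨E, h1, h2, ⟨e' ≪≫ e⟩⟩

/-- tor amplitude at a point along a composite -/
theorem hasTorAmplitudeAt_comp (f : X ⟶ Y) (g : Y ⟶ Z) (x : X) {n : ℕ}
    (hg : DerSch.HasTorAmplitudeAt g (-(n : ℤ)) 0 (DerSch.unitCx Y) (f.base x))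
    {F : CochainComplex X.Modules ℤ} {a b : ℤ} (hF : DerSch.HasTorAmplitudeAt f a b F x) :
    DerSch.HasTorAmplitudeAt (f ≫ g) (a - n) b F x := by
  let φ := (g.stalkMap (f.base x)).hom
  have h2 := hasTorAmplitudeIn_restrict_hom φ (hasTorAmplitudeIn_congr (unitCxIso g (f.base x)) hg) _ a b hF
  exact hasTorAmplitudeIn_congr (((ModuleCat.restrictScalars.{u} φ).mapDerivedCategoryFactors.app _) ≪≫
    DerivedCategory.Q.mapIso ((stalkCxCompIso f g x).app F).symm) h2

theorem hasTorAmplitude_comp (f : X ⟶ Y) (g : Y ⟶ Z) {n : ℕ} (hg : DerSch.HasTorDimLE g n)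
    {F : CochainComplex X.Modules ℤ} {a b : ℤ} (hF : DerSch.HasTorAmplitude f a b F) :
    DerSch.HasTorAmplitude (f ≫ g) (a - n) b F :=
  fun x => hasTorAmplitudeAt_comp f g x (hg (f.base x)) (hF x)

end Groth.Agent.RelPCS8.StalkTor
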