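import Mathlib
import Groth.Agent.Lib.RelPCS8.StalkId
import Groth.Agent.Lib.RelPCS8.StalkTor
import Groth.Agent.Lib.RelPCS8.PerfAmp
import Groth.Agent.Lib.RelPCS8.Closed
import Groth.Agent.Lib.RelPCS8.FlatTerms
import Groth.Agent.Lib.RHom.ProjClosed

set_option autoImplicit false
set_option backward.isDefEq.respectTransparency false
set_option linter.style.haveILetI false
universe u
open CategoryTheory CategoryTheory.Limits AlgebraicGeometry
attribute [local instance] HasDerivedCategory.standard

namespace Groth.Agent.RelPCS8.ClosedPerf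

variable {X Y S : Scheme.{u}} (i : X ⟶ Y) [IsClosedImmersion i]

noncomputable def stalkPushOverIso (z : X) :
    Scheme.Modules.pushforward i ⋙ DerSch.stalkFunctor Y (i.base z) ≅ DerSch.stalkOver i z :=
  NatIso.ofComponents
    (fun N => LinearEquiv.toModuleIso
      (({ (RHom.stalkPushEquiv i N z).toAddEquiv with
          map_smul' := fun r a => (RHom.stalkPushEquiv i N z).map_smul r a } :
        ((DerSch.stalkFunctor Y (i.base z)).obj ((Scheme.Modules.pushforward i).obj N)) ≃ₗ[Y.presheaf.stalk (i.base z)]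
          ((DerSch.stalkOver i z).obj N))))
    fun {N N'} φ => ModuleCat.hom_ext (LinearMap.ext fun a => (stalkPush_natural i φ z a).symm)

theorem hasTorAmplitude_comp_of_push (g : Y ⟶ S) {F : CochainComplex X.Modules ℤ} {a b : ℤ}
    (h : DerSch.HasTorAmplitude g a b (((Scheme.Modules.pushforward i).mapHomologicalComplex (ComplexShape.up ℤ)).obj F)) :
    DerSch.HasTorAmplitude (i ≫ g) a b F := fun z => by
  refine StalkTor.hasTorAmplitudeIn_congr (DerivedCategory.Q.mapIso ?_) (h (i.base z))
  let r := ModuleCat.restrictScalars.{u} (g.stalkMap (i.base z)).hom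
  exact (NatIso.mapHomologicalComplex (Functor.isoWhiskerRight (stalkPushOverIso i z) r ≪≫
    (StalkTor.stalkCompIso i g z).symm) (ComplexShape.up ℤ)).app F

theorem hasTorDimLE_zero_of_flat (g : Y ⟶ S) [Flat g] : DerSch.HasTorDimLE g 0 :=
  hasTorAmplitude_of_flat_terms (DerSch.unitCx Y) _ 0
    (fun i hi => HomologicalComplex.isZero_single_obj_X _ _ _ _ (by omega))
    fun i => by
      by_cases hi : i = 0
      · subst hi
        exact isFlatOver_of_iso (HomologicalComplex.singleObjXSelf (ComplexShape.up ℤ) 0 _).symm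
          (flat_iff_isFlatOver_structureModule.1 inferInstance)
      · exact isFlatOver_of_isZero (HomologicalComplex.isZero_single_obj_X _ _ _ _ hi)

theorem hasTorAmplitude_of_flatAmplitude_push (g : Y ⟶ S) [Flat g] {F : CochainComplex X.Modules ℤ} {a b : ℤ}
    (hF : DCoh.HasFlatAmplitudeIn a b
      (DCoh.toD Y (((Scheme.Modules.pushforward i).mapHomologicalComplex (ComplexShape.up ℤ)).obj F))) :
    DerSch.HasTorAmplitude (i ≫ g) a b F := by
  have h := StalkTor.hasTorAmplitude_comp (𝟙 Y) g (hasTorDimLE_zero_of_flat g)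
    (StalkId.torAmp_stalks_of_flatAmplitude hF)
  rw [Category.id_comp] at h
  simpa using hasTorAmplitude_comp_of_push i g h

theorem relAll_of_pc_push (g : Y ⟶ S) [Flat g] [LocallyOfFinitePresentation g] {F : CochainComplex X.Modules ℤ}
    (hF : ∀ m : ℤ, DCoh.IsPseudoCoherentD m
      (DCoh.toD Y (((Scheme.Modules.pushforward i).mapHomologicalComplex (ComplexShape.up ℤ)).obj F))) :
    DerSch.IsPseudoCoherentRelAll (i ≫ g) (DCoh.toD X F) := fun m =>
  (rel_closed_iff (i := i) (q := g) m _).2 (rel_of_iso ((pushFac i).app F).symm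
    ((rel_iff_pc (fun n => nPseudoCoherent_of_flat n) m _).2 (hF m)))

end Groth.Agent.RelPCS8.ClosedPerf
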