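import Mathlib
import Groth.Agent.Lib.DBaseChange.ResTor
import Groth.Agent.Lib.DBaseChange.TorTri
import Groth.Agent.Lib.DBaseChange.ExtFlat
import Groth.Agent.Lib.DBaseChange.TensorValue
import Groth.Agent.Lib.TorBal.Dim

set_option autoImplicit false
set_option backward.isDefEq.respectTransparency false
set_option linter.style.haveILetI false
universe u
open CategoryTheory CategoryTheory.Limits
open scoped TensorProduct
attribute [local instance] HasDerivedCategory.standard

namespace Groth.Agent.RelPCS8.SmoothTor

theorem amplitude_tensor {A B : Type u} [CommRing A] [CommRing B] [Algebra A B] [Module.Flat A B] (d : ℕ)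
    (M : Type u) [AddCommGroup M] [Module A M] (h : DRing.HasTorDimLE A d M) :
    DRing.HasTorDimLE B d (TensorProduct A B M) := by
  obtain ⟨E, hv, hE, ⟨e⟩⟩ := TorBal.amplitude_of_hasTorDimLE M d h
  obtain ⟨t⟩ := DBaseChange.nonempty_ext_inD_iso (B := B) M e
  refine TorBal.hasTorDimLE_of_amplitude _ d ⟨_, DBaseChange.vanishesOutside_extCx (algebraMap A B) hv, fun i => ?_, ⟨t⟩⟩
  have := hE i
  let g := algebraMap A B
  letI := g.toAlgebra
  exact inferInstanceAs (Module.Flat B (TensorProduct A B (E.X i)))

theorem hasTorDimLE_retract {A : Type u} [CommRing A] {d : ℕ} {M N : Type u} [AddCommGroup M] [Module A M]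
    [AddCommGroup N] [Module A N] (s : M →ₗ[A] N) (p : N →ₗ[A] M) (hps : p ∘ₗ s = LinearMap.id)
    (h : DRing.HasTorDimLE A d N) : DRing.HasTorDimLE A d M :=
  fun L _ _ n hn => by
    haveI := h L n hn
    let s' := ((Tor (ModuleCat.{u} A) n).map (ModuleCat.ofHom s)).app (ModuleCat.of A L)
    let p' := ((Tor (ModuleCat.{u} A) n).map (ModuleCat.ofHom p)).app (ModuleCat.of A L)
    have hsp : s' ≫ p' = 𝟙 _ := by
      rw [← NatTrans.comp_app, ← Functor.map_comp,
        show ModuleCat.ofHom s ≫ ModuleCat.ofHom p = 𝟙 _ from ModuleCat.hom_ext hps, CategoryTheory.Functor.map_id]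
      rfl
    have : Function.Injective s'.hom := fun a b hab => by
      have := congrArg p'.hom hab
      change (s' ≫ p').hom a = (s' ≫ p').hom b at this
      rw [hsp] at this
      exact this
    exact this.subsingleton

/-- One polynomial variable raises the tor dimension by at most one. -/
theorem hasTorDimLE_polynomial {R : Type u} [CommRing R] (k : ℕ) (M : Type u) [AddCommGroup M] [Module R M]
    [Module (Polynomial R) M] [IsScalarTower R (Polynomial R) M] (h : DRing.HasTorDimLE R k M) :
    DRing.HasTorDimLE (Polynomial R) (k + 1) M := by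
  classical
  let P := Polynomial R
  let xM : M →ₗ[R] M := (LinearMap.lsmul P M Polynomial.X).restrictScalars R
  let f : P ⊗[R] M →ₗ[P] P ⊗[R] M :=
    (Polynomial.X : P) • LinearMap.id - TensorProduct.AlgebraTensorModule.map LinearMap.id xM
  let π : P ⊗[R] M →ₗ[P] M := (LinearMap.id : M →ₗ[R] M).liftBaseChange P
  have hf : ∀ (p : P) (m : M), f (p ⊗ₜ m) = (Polynomial.X * p) ⊗ₜ m - p ⊗ₜ (Polynomial.X • m : M) := fun p m => by
    simp [f, xM, TensorProduct.smul_tmul']
    rfl
  have hπ : ∀ (p : P) (m : M), π (p ⊗ₜ m) = p • m := fun p m => by simp [π]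
  let c : P ⊗[R] M ≃ₗ[R] ℕ →₀ M := TensorProduct.equivFinsuppOfBasisLeft (Polynomial.basisMonomials R)
  have hc : ∀ (p : P) (m : M) (n : ℕ), c (p ⊗ₜ m) n = p.coeff n • m := fun p m n => by
    simp [c, TensorProduct.equivFinsuppOfBasisLeft_apply_tmul_apply]
    rfl
  have hcf : ∀ (z : P ⊗[R] M) (n : ℕ), c (f z) (n + 1) = c z n - (Polynomial.X : P) • c z (n + 1) := fun z n => by
    induction z with
    | zero => simp
    | add x y hx hy => simp only [map_add, Finsupp.add_apply, hx, hy, smul_add]; abel
    | tmul p m => rw [hf, map_sub, Finsupp.sub_apply, hc, hc, hc, hc, Polynomial.coeff_X_mul, smul_comm]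
  have hinj : Function.Injective f := by
    rw [injective_iff_map_eq_zero]
    intro z hz
    have hrec : ∀ n, c z n = (Polynomial.X : P) • c z (n + 1) := fun n =>
      sub_eq_zero.1 ((hcf z n).symm.trans (by simp [hz]))
    obtain ⟨N, hN⟩ : ∃ N, ∀ n, N ≤ n → c z n = 0 := ⟨(c z).support.sup id + 1, fun n hn => by
      by_contra hne
      have := Finset.le_sup (f := id) (Finsupp.mem_support_iff.2 hne)
      simp only [id_eq] at this
      omega⟩
    have hall : ∀ j n, N ≤ n + j → c z n = 0 := by
      intro j
      induction j with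
      | zero => exact fun n hn => hN n hn
      | succ j ih => exact fun n hn => by rw [hrec n, ih (n + 1) (by omega), smul_zero]
    exact c.map_eq_zero_iff.1 (Finsupp.ext fun n => hall N n (by omega))
  have hone : ∀ z : P ⊗[R] M, z - (1 : P) ⊗ₜ π z ∈ LinearMap.range f := fun z => by
    induction z with
    | zero => simp
    | add x y hx hy =>
      simpa [TensorProduct.tmul_add, add_sub_add_comm] using add_mem hx hy
    | tmul p m =>
      rw [hπ]
      induction p using Polynomial.induction_on generalizing m with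
      | C a =>
        rw [show (Polynomial.C a : P) = a • (1 : P) from ((Polynomial.smul_eq_C_mul a).trans (mul_one _)).symm, smul_assoc, one_smul,
          TensorProduct.smul_tmul]
        simp
      | add p q hp hq =>
        have := add_mem (hp m) (hq m)
        simpa [TensorProduct.add_tmul, add_smul, TensorProduct.tmul_add, add_sub_add_comm] using this
      | monomial n a ih =>
        have h1 := ih ((Polynomial.X : P) • m)
        have h2 : f ((Polynomial.C a * Polynomial.X ^ n) ⊗ₜ m) ∈ LinearMap.range f := ⟨_, rfl⟩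
        have := add_mem h2 h1
        rw [hf] at this
        rw [pow_succ, ← mul_assoc, mul_smul]
        rw [show Polynomial.X * (Polynomial.C a * Polynomial.X ^ n) = Polynomial.C a * Polynomial.X ^ n * Polynomial.X from
          mul_comm _ _] at this
        convert this using 1
        abel
  have hπsurj : Function.Surjective π := fun m => ⟨1 ⊗ₜ m, by simp [hπ]⟩
  have hπf : ∀ z, π (f z) = 0 := fun z => by
    induction z with
    | zero => simp
    | add x y hx hy => simp [map_add, hx, hy]
    | tmul p m => rw [hf, map_sub, hπ, hπ, mul_smul, smul_comm, sub_self]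
  have hexact : Function.Exact f π := fun z => ⟨fun hz => by
    obtain ⟨w, hw⟩ := hone z
    exact ⟨w, by rw [hw, hz]; simp⟩, fun ⟨w, hw⟩ => hw ▸ hπf w⟩
  have hT := TorBal.amplitude_of_hasTorDimLE _ k (amplitude_tensor (B := P) k M h)
  let S : ShortComplex (ModuleCat.{u} P) := ShortComplex.mk (ModuleCat.ofHom f) (ModuleCat.ofHom π)
    (ModuleCat.hom_ext (LinearMap.ext hπf))
  have hS : S.ShortExact :=
    { exact := (ShortComplex.ShortExact.moduleCat_exact_iff_function_exact S).2 hexact
      mono_f := (ModuleCat.mono_iff_injective _).2 hinj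
      epi_g := (ModuleCat.epi_iff_surjective _).2 hπsurj }
  refine TorBal.hasTorDimLE_of_amplitude _ (k + 1) ?_
  exact DBaseChange.torAmp_triangle₃ (-((k + 1 : ℕ) : ℤ)) 0 _ hS.singleTriangle_distinguished
    (DBaseChange.hasTorAmplitudeIn_mono (by omega) (by omega) hT)
    (DBaseChange.hasTorAmplitudeIn_mono (by omega) (by omega) hT)

/-- Tor dimension does not go up along flat, formally unramified, essentially finite type maps. -/
theorem hasTorDimLE_of_unramified {P B : Type u} [CommRing P] [CommRing B] [Algebra P B] [Module.Flat P B]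
    [Algebra.EssFiniteType P B] [Algebra.FormallyUnramified P B] (k : ℕ) (M : Type u) [AddCommGroup M]
    [Module P M] [Module B M] [IsScalarTower P B M] (h : DRing.HasTorDimLE P k M) :
    DRing.HasTorDimLE B k M := by
  obtain ⟨e, he, he1⟩ := (Algebra.FormallyUnramified.iff_exists_tensorProduct (R := P) (S := B)).1 inferInstance
  let ψ : M → B ⊗[P] B →ₗ[P] B ⊗[P] M := fun m =>
    ((LinearMap.toSpanSingleton B M m).restrictScalars P).lTensor B
  have hψ : ∀ m x y, ψ m (x ⊗ₜ y) = x ⊗ₜ (y • m) := fun m x y => rfl
  let π : B ⊗[P] M →ₗ[B] M := (LinearMap.id : M →ₗ[P] M).liftBaseChange B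
  have hadd : ∀ m n z, ψ (m + n) z = ψ m z + ψ n z := fun m n z => by
    induction z with
    | zero => simp
    | add x y hx hy => simp only [map_add, hx, hy]; abel
    | tmul x y => rw [hψ, hψ, hψ, smul_add, TensorProduct.tmul_add]
  have hr : ∀ (b : B) m z, ψ (b • m) z = ψ m (((1 : B) ⊗ₜ[P] b) * z) := fun b m z => by
    induction z with
    | zero => simp
    | add x y hx hy => simp only [mul_add, map_add, hx, hy]
    | tmul x y => rw [Algebra.TensorProduct.tmul_mul_tmul, hψ, hψ, one_mul, ← mul_smul, mul_comm]
  have hl : ∀ (b : B) m z, b • ψ m z = ψ m ((b ⊗ₜ[P] (1 : B)) * z) := fun b m z => by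
    induction z with
    | zero => simp
    | add x y hx hy => simp only [mul_add, map_add, smul_add, hx, hy]
    | tmul x y => rw [Algebra.TensorProduct.tmul_mul_tmul, hψ, hψ, one_mul, TensorProduct.smul_tmul', smul_eq_mul]
  have hp : ∀ m z, π (ψ m z) = Algebra.TensorProduct.lmul' P z • m := fun m z => by
    induction z with
    | zero => simp
    | add x y hx hy => simp only [map_add, hx, hy, add_smul]
    | tmul x y => simp [hψ, π, mul_smul]
  let s : M →ₗ[B] B ⊗[P] M :=
    { toFun := fun m => ψ m e
      map_add' := fun m n => hadd m n e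
      map_smul' := fun b m => by
        rw [RingHom.id_apply, hr, hl]
        congr 1
        have := he b
        rw [sub_mul, sub_eq_zero] at this
        exact this }
  refine hasTorDimLE_retract s π (LinearMap.ext fun m => ?_) (amplitude_tensor k M h)
  show π (ψ m e) = m
  rw [hp, he1, one_smul]

theorem hasTorDimLE_mono {A : Type u} [CommRing A] {d d' : ℕ} (hd : d ≤ d') {M : Type u} [AddCommGroup M]
    [Module A M] (h : DRing.HasTorDimLE A d M) : DRing.HasTorDimLE A d' M :=
  fun N _ _ p hp => h N p (lt_of_le_of_lt hd hp)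

theorem hasTorDimLE_of_ringEquiv {P Q : Type u} [CommRing P] [CommRing Q] (e : P ≃+* Q) (k : ℕ) (M : Type u)
    [AddCommGroup M] [Module Q M] (h : letI := Module.compHom M e.toRingHom; DRing.HasTorDimLE P k M) :
    DRing.HasTorDimLE Q k M := by
  letI := Module.compHom M e.toRingHom
  letI := e.toRingHom.toAlgebra
  haveI : IsScalarTower P Q M := IsScalarTower.of_algebraMap_smul fun _ _ => rfl
  let eA : P ≃ₐ[P] Q := AlgEquiv.ofRingEquiv (f := e) fun _ => rfl
  haveI : Algebra.FormallyUnramified P Q := Algebra.FormallyUnramified.of_equiv eA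
  haveI : Algebra.FiniteType P Q := Algebra.FiniteType.of_surjective (Algebra.ofId P Q) e.surjective
  haveI : Algebra.EssFiniteType P Q := inferInstance
  haveI : Module.Flat P Q := Module.Flat.of_linearEquiv eA.symm.toLinearEquiv
  exact hasTorDimLE_of_unramified k M h

theorem hasTorDimLE_mvPolynomial {A : Type u} [CommRing A] : ∀ (n : ℕ) (M : Type u) [AddCommGroup M]
    [Module A M] [Module (MvPolynomial (Fin n) A) M] [IsScalarTower A (MvPolynomial (Fin n) A) M]
    (_ : Module.Flat A M), DRing.HasTorDimLE (MvPolynomial (Fin n) A) n M := by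
  intro n
  induction n with
  | zero =>
    intro M _ modA _ _ hM
    let e := (MvPolynomial.isEmptyAlgEquiv A (Fin 0)).symm
    have key : ∀ (a : A) (m : M), e a • m = a • m := fun a m =>
      (congrArg (· • m) (e.commutes a)).trans (algebraMap_smul (MvPolynomial (Fin 0) A) a m)
    refine hasTorDimLE_of_ringEquiv e.toRingEquiv 0 M ?_
    letI inst := Module.compHom M e.toRingEquiv.toRingHom
    refine (@TorBal.flat_iff_hasTorDimLE_zero A _ M _ inst).2 ?_
    have : inst = modA := Module.ext' _ _ fun a m => key a m
    rw [this]; exact hM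
  | succ n ih =>
    intro M _ _ _ _ hM
    let e := (MvPolynomial.finSuccEquiv A n).symm
    refine hasTorDimLE_of_ringEquiv e.toRingEquiv (n + 1) M ?_
    letI : Module (Polynomial (MvPolynomial (Fin n) A)) M := Module.compHom M e.toRingEquiv.toRingHom
    letI : Module (MvPolynomial (Fin n) A) M :=
      Module.compHom M (algebraMap (MvPolynomial (Fin n) A) (Polynomial (MvPolynomial (Fin n) A)))
    haveI : IsScalarTower (MvPolynomial (Fin n) A) (Polynomial (MvPolynomial (Fin n) A)) M :=
      IsScalarTower.of_algebraMap_smul fun _ _ => rfl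
    haveI : IsScalarTower A (MvPolynomial (Fin n) A) M := IsScalarTower.of_algebraMap_smul fun a m => by
      show e (algebraMap (MvPolynomial (Fin n) A) _ (algebraMap A _ a)) • m = a • m
      rw [← IsScalarTower.algebraMap_apply, e.commutes, algebraMap_smul]
    exact hasTorDimLE_polynomial n M (ih M hM)

/-- A module flat over the base has tor dimension at most `n` over an algebra flat, formally unramified and
essentially of finite type over affine `n`-space. -/
theorem hasTorDimLE_smooth {A B : Type u} [CommRing A] [CommRing B] [Algebra A B] {n : ℕ}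
    (g : MvPolynomial (Fin n) A →ₐ[A] B) (hflat : g.toRingHom.Flat) (hu : g.toRingHom.FormallyUnramified)
    (he : g.toRingHom.EssFiniteType) (M : Type u) [AddCommGroup M] [Module A M] [Module B M]
    [IsScalarTower A B M] (hM : Module.Flat A M) : DRing.HasTorDimLE B n M := by
  letI := g.toRingHom.toAlgebra
  haveI : IsScalarTower A (MvPolynomial (Fin n) A) B := IsScalarTower.of_algHom g
  letI : Module (MvPolynomial (Fin n) A) M := Module.compHom M g.toRingHom
  haveI : IsScalarTower (MvPolynomial (Fin n) A) B M := IsScalarTower.of_algebraMap_smul fun _ _ => rfl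
  haveI : IsScalarTower A (MvPolynomial (Fin n) A) M := IsScalarTower.of_algebraMap_smul fun a m => by
    show g (algebraMap A _ a) • m = a • m
    rw [g.commutes, algebraMap_smul]
  haveI : Module.Flat (MvPolynomial (Fin n) A) B := hflat
  haveI : Algebra.FormallyUnramified (MvPolynomial (Fin n) A) B := hu
  haveI : Algebra.EssFiniteType (MvPolynomial (Fin n) A) B := he
  exact hasTorDimLE_of_unramified n M (hasTorDimLE_mvPolynomial n M hM)

set_option maxHeartbeats 800000 in
/-- From modules to complexes: if every `B`-module flat over `A` has tor dimension at most `d` over `B`, then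
restriction to `A` detects tor amplitude up to `d`. -/
theorem amplitude_of_restrict {A B : Type u} [CommRing A] [CommRing B] (φ : A →+* B) (hφ : φ.Flat) (d : ℕ)
    (H : ∀ M : ModuleCat.{u} B, Module.Flat A ((ModuleCat.restrictScalars.{u} φ).obj M) →
      DRing.HasTorDimLE B d M)
    (K : Dual.D B) (a b : ℤ) (hK : DRing.HasTorAmplitudeIn A a b ((DRing.restrictD φ).obj K)) :
    DRing.HasTorAmplitudeIn B (a - d) b K := by
  let r := ModuleCat.restrictScalars.{u} φ
  have hHD : ∀ i, (i < a ∨ b < i) → Subsingleton (Dual.HD B K i) := fun i hi => by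
    obtain ⟨E, hv, -, ⟨e⟩⟩ := hK
    obtain ⟨K₀, ⟨e₀⟩⟩ := Functor.EssSurj.mem_essImage (F := (DerivedCategory.Q : DRing.Cx B ⥤ _)) K
    have h0 : IsZero (E.homology i) := (HomologicalComplex.exactAt_iff_isZero_homology _ _).1
      ((HomologicalComplex.exactAt_iff _ _).2 (ShortComplex.exact_of_isZero_X₂ _ (hv i hi)))
    have e₁ : ((r.mapHomologicalComplex (ComplexShape.up ℤ)).obj K₀).homology i ≅ E.homology i :=
      ((DerivedCategory.homologyFunctorFactors _ i).app _).symm ≪≫
        (DerivedCategory.homologyFunctor _ i).mapIso ((r.mapDerivedCategoryFactors.app K₀).symm ≪≫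
          r.mapDerivedCategory.mapIso e₀ ≪≫ e.symm) ≪≫ (DerivedCategory.homologyFunctorFactors _ i).app E
    have h1 : IsZero (r.obj (K₀.homology i)) := (h0.of_iso e₁).of_iso ((K₀.sc i).mapHomologyIso r).symm
    haveI : Subsingleton (r.obj (K₀.homology i)) := ModuleCat.subsingleton_of_isZero h1
    refine ModuleCat.subsingleton_of_isZero (IsZero.of_iso
      (@ModuleCat.isZero_of_subsingleton _ _ (K₀.homology i) (‹Subsingleton (r.obj (K₀.homology i))› :))
      (((DerivedCategory.homologyFunctor _ i).mapIso e₀.symm) ≪≫ (DerivedCategory.homologyFunctorFactors _ i).app K₀))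
  haveI : K.IsLE b := (DMod.isLE_iff K b).2 fun i hi => hHD i (Or.inr hi)
  haveI : K.IsGE a := (DMod.isGE_iff K a).2 fun i hi => hHD i (Or.inl hi)
  obtain ⟨F, hF, hFf, ⟨e⟩⟩ := DMod.exists_free_resolution K b
  haveI : (DRing.toD F).IsGE a := (DMod.tS B).isGE_of_iso e.symm a
  obtain ⟨eT⟩ := DMod.exists_truncFrom_iso F a
  have hflatF : ∀ i, Module.Flat A (r.obj (F.X i)) := fun i => by
    letI := φ.toAlgebra
    haveI : Module.Flat A B := hφ
    letI : Module A (F.X i) := Module.compHom _ φ
    haveI : IsScalarTower A B (F.X i) := IsScalarTower.of_algebraMap_smul fun _ _ => rfl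
    haveI : Module.Flat B (F.X i) := have := hFf i; inferInstance
    exact (Module.Flat.trans A B (F.X i) : )
  let G : DRing.Cx A := (r.mapHomologicalComplex (ComplexShape.up ℤ)).obj F
  haveI : G.IsStrictlyLE b := (CochainComplex.isStrictlyLE_iff _ b).2 fun i hi =>
    r.map_isZero (F.isZero_of_isStrictlyLE b i hi)
  obtain ⟨c, rfl⟩ : ∃ c, c + 1 = a := ⟨a - 1, by omega⟩
  have htb := DBaseChange.torBound_of_hasTorAmplitudeIn G b hflatF (c + 1) b
    (DBaseChange.hasTorAmplitudeIn_of_iso ((r.mapDerivedCategory.mapIso e.symm) ≪≫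
      r.mapDerivedCategoryFactors.app F) hK)
  have hcoker : Module.Flat A (G.X (c + 1) ⧸ LinearMap.range (G.d c (c + 1)).hom) :=
    DBaseChange.flat_coker G c (hflatF _) fun M =>
      (DMod.subsingleton_HD_toD_iff _ c).1 ((DMod.isGE_iff _ (c + 1)).1 (htb M).1 c (by omega))
  let N : ModuleCat.{u} B := ModuleCat.of B (F.X (c + 1) ⧸ LinearMap.range (F.d c (c + 1)).hom)
  have hN : DRing.HasTorDimLE B d N := H N (by
    let ι : (G.X (c + 1) ⧸ LinearMap.range (G.d c (c + 1)).hom) ≃ₗ[A] (r.obj N) :=
      { Equiv.refl _ with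
        map_add' := fun _ _ => rfl
        map_smul' := fun x q => by
          induction q using Submodule.Quotient.induction_on with
          | H m => rfl }
    exact Module.Flat.of_linearEquiv ι.symm)
  refine DBaseChange.hasTorAmplitudeIn_of_iso (eT ≪≫ e) ?_
  refine DBaseChange.prop_of_terms (fun X => DRing.HasTorAmplitudeIn B (c + 1 - d) b X)
    (fun e h => DBaseChange.hasTorAmplitudeIn_of_iso e h) (fun X h => DBaseChange.hasTorAmplitudeIn_of_isZero h _ _)
    (fun T hT => DBaseChange.torAmp_triangle₂ _ _ T hT) _ (c + 1) b (DMod.vanishesOutside_truncFrom F (c + 1) b) fun i => ?_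
  by_cases hi : i < c + 1 ∨ b < i
  · exact DBaseChange.hasTorAmplitudeIn_of_isZero
      (Functor.map_isZero _ (DMod.vanishesOutside_truncFrom F (c + 1) b i hi)) _ _
  refine DBaseChange.hasTorAmplitudeIn_single _
    (DBaseChange.hasTorAmplitudeIn_mono (a := -(d : ℤ)) (b := 0) (by omega) (by omega) ?_)
  refine TorBal.amplitude_of_hasTorDimLE _ d ?_
  rcases eq_or_lt_of_le (show c + 1 ≤ i by omega) with rfl | hlt
  · have hj : ∀ j, j = c → DRing.HasTorDimLE B d
        (ModuleCat.of B (F.X (c + 1) ⧸ LinearMap.range (F.d j (c + 1)).hom)) := by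
      intro j hj; subst hj; exact hN
    have e' := DMod.truncFromBotEquiv F (c + 1)
    exact hasTorDimLE_retract e'.symm.toLinearMap e'.toLinearMap
      (LinearMap.ext fun x => e'.apply_symm_apply x) (hj (c + 1 - 1) (by omega))
  · have e' := DMod.truncFromXEquiv F hlt
    haveI : Module.Flat B (F.X i) := have := hFf i; inferInstance
    refine hasTorDimLE_mono (Nat.zero_le d) ((TorBal.flat_iff_hasTorDimLE_zero _).2 ?_)
    first
      | exact Module.Flat.of_linearEquiv e'
      | exact Module.Flat.of_linearEquiv e'.symm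

end Groth.Agent.RelPCS8.SmoothTor
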