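import Mathlib
import Groth.Agent.Lib.RelPCS8.SmoothTor
import Groth.Agent.Lib.RelPCS8.ClosedPerf

set_option autoImplicit false
set_option backward.isDefEq.respectTransparency false
set_option linter.style.haveILetI false
universe u
open CategoryTheory CategoryTheory.Limits AlgebraicGeometry
attribute [local instance] HasDerivedCategory.standard

namespace Groth.Agent.RelPCS8.SmoothAmp

variable {X Y S : Scheme.{u}}

theorem exists_chart (g : Y ⟶ S) {n : ℕ} {V : Y.Opens} [SmoothOfRelativeDimension n (V.ι ≫ g)] {y : Y} (hy : y ∈ V) :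
    ∃ (U : S.Opens) (_ : IsAffineOpen U) (W : Y.Opens) (_ : IsAffineOpen W) (_ : y ∈ W) (e : W ≤ g ⁻¹ᵁ U),
      RingHom.IsStandardSmoothOfRelativeDimension n (g.appLE U W e).hom := by
  obtain ⟨U, hU, W', hW', hyW, e, hf⟩ :=
    SmoothOfRelativeDimension.exists_isStandardSmoothOfRelativeDimension (n := n) (f := V.ι ≫ g) (⟨y, hy⟩ : V)
  have eW : V.ι ''ᵁ W' ≤ g ⁻¹ᵁ U := by
    rintro _ ⟨z, hz, rfl⟩
    exact e hz
  refine ⟨U, hU, V.ι ''ᵁ W', hW'.image_of_isOpenImmersion V.ι, ⟨⟨y, hy⟩, hyW, rfl⟩, eW, ?_⟩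
  have h := RingHom.isStandardSmoothOfRelativeDimension_respectsIso.left ((V.ι ≫ g).appLE U W' e).hom
    (V.ι.appIso W').symm.commRingCatIsoToRingEquiv hf
  have he : g.appLE U (V.ι ''ᵁ W') eW = (V.ι ≫ g).appLE U W' e ≫ (V.ι.appIso W').inv := by
    rw [Iso.eq_comp_inv, Scheme.Hom.appIso_hom', Scheme.Hom.appLE_comp_appLE]
  rw [he]
  exact h

theorem hasTorDimLE_stalk (g : Y ⟶ S) {d n : ℕ} (hn : n ≤ d) {V : Y.Opens}
    [SmoothOfRelativeDimension n (V.ι ≫ g)] {y : Y} (hy : y ∈ V)
    (M : ModuleCat.{u} (Y.presheaf.stalk y))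
    (hM : Module.Flat (S.presheaf.stalk (g.base y))
      ((ModuleCat.restrictScalars.{u} (g.stalkMap y).hom).obj M)) :
    DRing.HasTorDimLE (Y.presheaf.stalk y) d M := by
  obtain ⟨U, hU, W, hW, hyW, e, hf⟩ := exists_chart g (n := n) hy
  obtain ⟨p, hp, hpe⟩ := RingHom.IsStandardSmoothOfRelativeDimension.exists_etale_mvPolynomial hf
  let A := Γ(S, U)
  let B := Γ(Y, W)
  let B' := Y.presheaf.stalk y
  let A' := S.presheaf.stalk (g.base y)
  letI algB : Algebra B B' := Y.presheaf.algebra_section_stalk ⟨y, hyW⟩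
  haveI := hW.isLocalization_stalk ⟨y, hyW⟩
  letI algA : Algebra A A' := S.presheaf.algebra_section_stalk ⟨g.base y, e hyW⟩
  haveI := hU.isLocalization_stalk ⟨g.base y, e hyW⟩
  have hsq : (g.stalkMap y).hom.comp (algebraMap A A') = (algebraMap B B').comp (g.appLE U W e).hom := by
    rw [show algebraMap A A' = (S.presheaf.germ U (g.base y) (e hyW)).hom from rfl,
      show algebraMap B B' = (Y.presheaf.germ W y hyW).hom from rfl, ← CommRingCat.hom_comp, ← CommRingCat.hom_comp,
      Scheme.Hom.germ_stalkMap, Scheme.Hom.appLE, Category.assoc, TopCat.Presheaf.germ_res]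
  letI : Algebra A B' := ((algebraMap B B').comp (g.appLE U W e).hom).toAlgebra
  let q : MvPolynomial (Fin n) A →ₐ[A] B' :=
    { (algebraMap B B').comp p with commutes' := fun a => congrArg (algebraMap B B') (RingHom.congr_fun hp a) }
  have hloc : (algebraMap B B').Flat ∧ (algebraMap B B').FormallyUnramified ∧ (algebraMap B B').EssFiniteType := by
    refine ⟨?_, ?_, ?_⟩
    · exact RingHom.flat_algebraMap_iff.2 (IsLocalization.flat B' (hW.primeIdealOf ⟨y, hyW⟩).asIdeal.primeCompl)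
    · exact RingHom.formallyUnramified_algebraMap.2
        (Algebra.FormallyUnramified.of_isLocalization (hW.primeIdealOf ⟨y, hyW⟩).asIdeal.primeCompl)
    · exact RingHom.essFiniteType_algebraMap.2
        (Algebra.EssFiniteType.of_isLocalization B' (hW.primeIdealOf ⟨y, hyW⟩).asIdeal.primeCompl)
  have hp3 : p.Flat ∧ p.FormallyUnramified ∧ p.EssFiniteType := by
    letI := p.toAlgebra
    haveI : Algebra.Etale (MvPolynomial (Fin n) A) B := hpe
    exact ⟨(inferInstance : Module.Flat (MvPolynomial (Fin n) A) B),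
      (inferInstance : Algebra.FormallyUnramified (MvPolynomial (Fin n) A) B),
      (inferInstance : Algebra.EssFiniteType (MvPolynomial (Fin n) A) B)⟩
  letI mA : Module A M := Module.compHom M ((algebraMap B B').comp (g.appLE U W e).hom)
  haveI : IsScalarTower A B' M := IsScalarTower.of_algebraMap_smul fun _ _ => rfl
  refine SmoothTor.hasTorDimLE_mono hn (SmoothTor.hasTorDimLE_smooth q (RingHom.Flat.comp hp3.1 hloc.1)
    (RingHom.FormallyUnramified.comp hp3.2.1 hloc.2.1) (RingHom.EssFiniteType.comp hp3.2.2 hloc.2.2) M ?_)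
  letI mA' : Module A' M := Module.compHom M (g.stalkMap y).hom
  haveI : Module.Flat A' M := hM
  haveI : IsScalarTower A A' M := IsScalarTower.of_algebraMap_smul fun a m => by
    show (g.stalkMap y).hom (algebraMap A A' a) • m = _
    rw [← RingHom.comp_apply, hsq]; rfl
  haveI : Module.Flat A A' := IsLocalization.flat A' (hU.primeIdealOf ⟨g.base y, e hyW⟩).asIdeal.primeCompl
  exact Module.Flat.trans A A' M

/-- Tor amplitude relative to a smooth morphism bounds tor amplitude upstairs. -/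
theorem flatAmplitude_of_hasTorAmplitude (g : Y ⟶ S) [Smooth g] (d : ℕ)
    (hd : ∀ y : Y, ∃ (n : ℕ) (V : Y.Opens), n ≤ d ∧ y ∈ V ∧ SmoothOfRelativeDimension n (V.ι ≫ g))
    {G : CochainComplex Y.Modules ℤ} {a b : ℤ} (h : DerSch.HasTorAmplitude g a b G) :
    DerSch.HasTorAmplitude (𝟙 Y) (a - d) b G := fun y => by
  obtain ⟨n, V, hn, hy, hV⟩ := hd y
  have e : DRing.toD ((DerSch.stalkCxOver g y).obj G) ≅
      (DRing.restrictD (g.stalkMap y).hom).obj
        (DRing.toD (((DerSch.stalkFunctor Y y).mapHomologicalComplex (ComplexShape.up ℤ)).obj G)) :=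
    ((ModuleCat.restrictScalars.{u} (g.stalkMap y).hom).mapDerivedCategoryFactors.app
      (((DerSch.stalkFunctor Y y).mapHomologicalComplex (ComplexShape.up ℤ)).obj G)).symm
  have hflat : (g.stalkMap y).hom.Flat := Flat.stalkMap g y
  have h2 := SmoothTor.amplitude_of_restrict (g.stalkMap y).hom hflat d
    (fun M hM => hasTorDimLE_stalk g hn hy M hM) _ a b (StalkTor.hasTorAmplitudeIn_congr e (h y))
  refine StalkTor.hasTorAmplitudeIn_congr (DerivedCategory.Q.mapIso ?_) h2
  exact (NatIso.mapHomologicalComplex (StalkId.stOverIdIso y).symm (ComplexShape.up ℤ)).app G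

theorem hasTorAmplitude_push_of_comp (i : X ⟶ Y) [IsClosedImmersion i] (g : Y ⟶ S)
    {F : CochainComplex X.Modules ℤ} {a b : ℤ} (h : DerSch.HasTorAmplitude (i ≫ g) a b F) :
    DerSch.HasTorAmplitude g a b
      (((Scheme.Modules.pushforward i).mapHomologicalComplex (ComplexShape.up ℤ)).obj F) := fun y => by
  by_cases hy : y ∈ Set.range i
  · obtain ⟨z, rfl⟩ := hy
    refine StalkTor.hasTorAmplitudeIn_congr (DerivedCategory.Q.mapIso ?_) (h z)
    let r := ModuleCat.restrictScalars.{u} (g.stalkMap (i.base z)).hom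
    exact ((NatIso.mapHomologicalComplex (Functor.isoWhiskerRight (ClosedPerf.stalkPushOverIso i z) r ≪≫
      (StalkTor.stalkCompIso i g z).symm) (ComplexShape.up ℤ)).app F).symm
  · refine DBaseChange.hasTorAmplitudeIn_of_isZero (DerivedCategory.Q.map_isZero ?_) a b
    rw [IsZero.iff_id_eq_zero]
    ext k : 1
    refine IsZero.eq_of_src ?_ _ _
    refine @ModuleCat.isZero_of_subsingleton _ _ _ ?_
    exact ⟨fun p q => (M1.eq_zero_stalk_push i (F.X k) hy p).trans (M1.eq_zero_stalk_push i (F.X k) hy q).symm⟩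

theorem isLE_of_torAmp_stalks {G : CochainComplex Y.Modules ℤ} {a b : ℤ}
    (h : DerSch.HasTorAmplitude (𝟙 Y) a b G) : (DCoh.toD Y G).IsLE b :=
  (DerivedCategory.isLE_iff _ b).2 fun i hi => by
    refine (KFlat.Sch.isZero_HD_toD_iff G i).2 ?_
    rw [HomologicalComplex.exactAt_iff, KFlat.Sch.exact_iff_stF]
    intro x
    obtain ⟨E, hv, -, ⟨e⟩⟩ := h x
    have hE : ((DerSch.stalkCxOver (𝟙 Y) x).obj G).ExactAt i := by
      rw [HomologicalComplex.exactAt_iff_isZero_homology]
      refine IsZero.of_iso ?_ (((DerivedCategory.homologyFunctorFactors _ i).app _).symm ≪≫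
        (DerivedCategory.homologyFunctor _ i).mapIso e.symm ≪≫ (DerivedCategory.homologyFunctorFactors _ i).app _)
      exact (HomologicalComplex.exactAt_iff_isZero_homology _ _).1
        ((HomologicalComplex.exactAt_iff _ _).2 (ShortComplex.exact_of_isZero_X₂ _ (hv i (Or.inr hi))))
    rw [HomologicalComplex.exactAt_iff] at hE
    exact (ShortComplex.exact_iff_of_iso ((G.sc i).mapNatIso (StalkId.stOverIdIso x))).1 hE

/-- The flat amplitude upstairs of the direct image. -/
theorem flatAmplitude_push (i : X ⟶ Y) [IsClosedImmersion i] (g : Y ⟶ S) [Smooth g] (d : ℕ)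
    (hd : ∀ y : Y, ∃ (n : ℕ) (V : Y.Opens), n ≤ d ∧ y ∈ V ∧ SmoothOfRelativeDimension n (V.ι ≫ g))
    {F : CochainComplex X.Modules ℤ} {a b : ℤ} (h : DerSch.HasTorAmplitude (i ≫ g) a b F) :
    DCoh.HasFlatAmplitudeIn (a - d) b
      (DCoh.toD Y (((Scheme.Modules.pushforward i).mapHomologicalComplex (ComplexShape.up ℤ)).obj F)) := by
  have h2 := flatAmplitude_of_hasTorAmplitude g d hd (hasTorAmplitude_push_of_comp i g h)
  haveI := isLE_of_torAmp_stalks h2
  exact (StalkId.flatAmplitude_iff_torAmp_stalks _ b _ b).2 h2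

theorem pc_push_of_relAll (i : X ⟶ Y) [IsClosedImmersion i] (g : Y ⟶ S) [Flat g] [LocallyOfFinitePresentation g]
    {F : CochainComplex X.Modules ℤ} (h : DerSch.IsPseudoCoherentRelAll (i ≫ g) (DCoh.toD X F)) (m : ℤ) :
    DCoh.IsPseudoCoherentD m
      (DCoh.toD Y (((Scheme.Modules.pushforward i).mapHomologicalComplex (ComplexShape.up ℤ)).obj F)) :=
  (rel_iff_pc (fun n => nPseudoCoherent_of_flat n) m _).1
    (rel_of_iso ((pushFac i).app F) ((rel_closed_iff (i := i) (q := g) m _).1 (h m)))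

/-- Perfect amplitude of the direct image. -/
theorem perfAmplitude_push (i : X ⟶ Y) [IsClosedImmersion i] (g : Y ⟶ S) [Smooth g] (d : ℕ)
    (hd : ∀ y : Y, ∃ (n : ℕ) (V : Y.Opens), n ≤ d ∧ y ∈ V ∧ SmoothOfRelativeDimension n (V.ι ≫ g))
    {F : CochainComplex X.Modules ℤ} {a b : ℤ} (h : DerSch.HasPerfAmplitudeRel (i ≫ g) a b F) :
    KSix.HasPerfectAmplitudeIn (a - d) b
      (DCoh.toD Y (((Scheme.Modules.pushforward i).mapHomologicalComplex (ComplexShape.up ℤ)).obj F)) := by
  have hflat := flatAmplitude_push i g d hd h.2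
  by_cases hab : a - d ≤ b
  · exact (PerfAmp.hasPerfectAmplitudeIn_iff _ _ _ hab).2 ⟨pc_push_of_relAll i g h.1 _, hflat⟩
  · obtain ⟨E, hE, -, ⟨e⟩⟩ := hflat
    have hE0 : ∀ k, IsZero (E.X k) := fun k => hE k (by omega)
    intro x
    refine ⟨⊤, trivial, fun G ⟨eG⟩ => ⟨(DCoh.restrictCx ⊤).obj E,
      fun k _ => (Scheme.Modules.restrictFunctor _).map_isZero (hE0 k),
      fun k => KFlat.Sch.isFinLocFree_of_isZero ((Scheme.Modules.restrictFunctor _).map_isZero (hE0 k)),
      ⟨((DPerf.resFac _).app G).symm ≪≫ (DPerf.resD _).mapIso (eG ≪≫ e.symm) ≪≫ (DPerf.resFac _).app E⟩⟩⟩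

end Groth.Agent.RelPCS8.SmoothAmp
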