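import Mathlib
import Groth.Agent.Lib.RelPCS8.SmoothAmp
import Groth.Agent.Lib.ModM1.Stalk

set_option autoImplicit false
set_option backward.isDefEq.respectTransparency false
set_option backward.isDefEq.respectTransparency.types false
set_option linter.style.haveILetI false
universe u
open CategoryTheory CategoryTheory.Limits AlgebraicGeometry
attribute [local instance] HasDerivedCategory.standard

namespace Groth.Agent.RelPCS8.RestrictStalk

variable {X S : Scheme.{u}}

noncomputable def rsEquiv (F : X.Modules) (U : X.Opens) (z : (U : Scheme.{u})) :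
    (F.restrict U.ι).presheaf.stalk z ≃+ F.presheaf.stalk z.1 :=
  ((Scheme.Modules.restrictStalkNatIso U.ι z).app F).addCommGroupIsoToAddEquiv

theorem restrictStalk_smul (F : X.Modules) (U : X.Opens) (z : (U : Scheme.{u}))
    (a : (U : Scheme.{u}).presheaf.stalk z) (v : (F.restrict U.ι).presheaf.stalk z) :
    rsEquiv F U z (a • v) = (U.stalkIso z).hom a • rsEquiv F U z v := by
  let e := rsEquiv F U z
  obtain ⟨W, hW, r, rfl⟩ := (U : Scheme.{u}).presheaf.exists_germ_eq a
  obtain ⟨W', hW', m, rfl⟩ := (F.restrict U.ι).presheaf.exists_germ_eq v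
  have key : ∀ (V : (U : Scheme.{u}).Opens) (hV : z ∈ V) (t : Γ(F.restrict U.ι, V)),
      e ((F.restrict U.ι).presheaf.germ V z hV t) =
        F.presheaf.germ (U.ι ''ᵁ V) z.1 ⟨z, hV, rfl⟩ ((F.restrictAppIso U.ι V).hom t) := fun V hV t =>
    ConcreteCategory.congr_hom (Scheme.Modules.germ_restrictStalkNatIso_hom_app U.ι z F hV) t
  have hstalk : ∀ (V : (U : Scheme.{u}).Opens) (hV : z ∈ V) (t : Γ((U : Scheme.{u}), V)),
      (U.stalkIso z).hom ((U : Scheme.{u}).presheaf.germ V z hV t) =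
        X.presheaf.germ (U.ι ''ᵁ V) z.1 ⟨z, hV, rfl⟩ (show Γ(X, U.ι ''ᵁ V) from t) := fun V hV t =>
    ConcreteCategory.congr_hom (Scheme.Opens.germ_stalkIso_hom U z hV) t
  show e _ = _ • e _
  rw [← TopCat.Presheaf.germ_res_apply (U : Scheme.{u}).presheaf (homOfLE (inf_le_left : W ⊓ W' ≤ W)) z ⟨hW, hW'⟩ r,
    ← TopCat.Presheaf.germ_res_apply (F.restrict U.ι).presheaf (homOfLE (inf_le_right : W ⊓ W' ≤ W')) z ⟨hW, hW'⟩ m,
    ← M1.germ_smul, key, key, hstalk, ← M1.germ_smul]
  congr 1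
  exact M1.restrict_ι_smul (M := F) _ _

/-- stalks of a restriction to an open, over the stalks of the ambient scheme -/
noncomputable def restrictStalkOverIso (U : X.Opens) (z : (U : Scheme.{u})) :
    Scheme.Modules.restrictFunctor U.ι ⋙ DerSch.stalkOver U.ι z ≅ DerSch.stalkFunctor X (U.ι.base z) :=
  NatIso.ofComponents
    (fun F => LinearEquiv.toModuleIso
      (({ rsEquiv F U z with
          map_smul' := fun r v => by
            have h := restrictStalk_smul F U z ((U.ι.stalkMap z).hom r) v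
            rw [show (U.stalkIso z).hom ((U.ι.stalkMap z).hom r) = r from by
              rw [← Scheme.Opens.stalkIso_inv]; exact Iso.inv_hom_id_apply _ _] at h
            exact h } :
        ((DerSch.stalkOver U.ι z).obj (F.restrict U.ι)) ≃ₗ[X.presheaf.stalk (U.ι.base z)]
          ((DerSch.stalkFunctor X (U.ι.base z)).obj F))))
    fun {F G} φ => ModuleCat.hom_ext (LinearMap.ext fun a =>
      ConcreteCategory.congr_hom ((Scheme.Modules.restrictStalkNatIso U.ι z).hom.naturality φ) a)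

theorem torAmplitudeAt_restrict_iff (g : X ⟶ S) (U : X.Opens) (z : (U : Scheme.{u})) (a b : ℤ)
    (G : CochainComplex X.Modules ℤ) :
    DerSch.HasTorAmplitudeAt (U.ι ≫ g) a b ((DCoh.restrictCx U).obj G) z ↔
      DerSch.HasTorAmplitudeAt g a b G (U.ι.base z) := by
  let r := ModuleCat.restrictScalars.{u} (g.stalkMap (U.ι.base z)).hom
  have i : (DerSch.stalkCxOver (U.ι ≫ g) z).obj ((DCoh.restrictCx U).obj G) ≅ (DerSch.stalkCxOver g (U.ι.base z)).obj G :=
    (NatIso.mapHomologicalComplex (Functor.isoWhiskerLeft (Scheme.Modules.restrictFunctor U.ι) (StalkTor.stalkCompIso U.ι g z) ≪≫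
      (Functor.associator _ _ r).symm ≪≫ Functor.isoWhiskerRight (restrictStalkOverIso U z) r) (ComplexShape.up ℤ)).app G
  exact ⟨StalkTor.hasTorAmplitudeIn_congr (DerivedCategory.Q.mapIso i),
    StalkTor.hasTorAmplitudeIn_congr (DerivedCategory.Q.mapIso i).symm⟩

end Groth.Agent.RelPCS8.RestrictStalk

namespace Groth.Agent.RelPCS8.RestrictStalk

variable {X S : Scheme.{u}}

theorem exists_relDim (g : X ⟶ S) [Smooth g] (x : X) :
    ∃ (n : ℕ) (W : X.Opens), x ∈ W ∧ SmoothOfRelativeDimension n (W.ι ≫ g) := by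
  obtain ⟨U, hU, W, hW, hxW, e, hf⟩ := Smooth.exists_isStandardSmooth g x
  letI := (g.appLE U W e).hom.toAlgebra
  haveI : Algebra.IsStandardSmooth Γ(S, U) Γ(X, W) := hf
  obtain ⟨ι, σ, _, _, ⟨P⟩⟩ := Algebra.IsStandardSmooth.out (R := Γ(S, U)) (S := Γ(X, W))
  haveI : Algebra.IsStandardSmoothOfRelativeDimension P.dimension Γ(S, U) Γ(X, W) := ⟨ι, σ, _, inferInstance, P, rfl⟩
  have hW' : (W.ι ⁻¹ᵁ W : (W : Scheme.{u}).Opens) = ⊤ := W.ι_preimage_self
  refine ⟨P.dimension, W, hxW, ⟨fun z => ⟨U, hU, ⊤, ?_, trivial, ?_, ?_⟩⟩⟩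
  · exact @isAffineOpen_top _ hW
  · rintro w -
    exact e w.2
  · have eW : ⊤ ≤ W.ι ⁻¹ᵁ W := hW'.ge
    have : (W.ι ≫ g).appLE U ⊤ (by rintro w -; exact e w.2) = g.appLE U W e ≫ W.ι.appLE W ⊤ eW :=
      (Scheme.Hom.appLE_comp_appLE W.ι g U W ⊤ e eW).symm
    rw [this]
    have hiso : IsIso (W.ι.appLE W ⊤ eW) := by
      rw [Scheme.Hom.appLE]
      have : IsIso (W.ι.app W) := Scheme.Opens.ι_app_self W ▸ inferInstance
      have h2 : IsIso ((W : Scheme.{u}).presheaf.map (homOfLE eW).op) := by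
        rw [show homOfLE eW = eqToHom hW'.symm from Subsingleton.elim _ _, eqToHom_op, eqToHom_map]
        infer_instance
      infer_instance
    exact RingHom.isStandardSmoothOfRelativeDimension_respectsIso.left (g.appLE U W e).hom
      (asIso (W.ι.appLE W ⊤ eW)).commRingCatIsoToRingEquiv
      (show RingHom.IsStandardSmoothOfRelativeDimension P.dimension (g.appLE U W e).hom from
        (inferInstance : Algebra.IsStandardSmoothOfRelativeDimension P.dimension Γ(S, U) Γ(X, W)))

end Groth.Agent.RelPCS8.RestrictStalk
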