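import Mathlib
import Groth.Agent.Lib.RelPCS8.RestrictStalk

set_option autoImplicit false
set_option backward.isDefEq.respectTransparency false
set_option linter.style.haveILetI false
universe u
open CategoryTheory CategoryTheory.Limits AlgebraicGeometry
attribute [local instance] HasDerivedCategory.standard

namespace Groth.Agent.RelPCS8.LocPerf

open RestrictStalk

variable {X Y S : Scheme.{u}} (i : X ⟶ Y) [IsClosedImmersion i]

set_option quotPrecheck false in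
local notation "PX" => (Scheme.Modules.pushforward i).mapHomologicalComplex (ComplexShape.up ℤ)

theorem torAmplitudeAt_push_iff (g : Y ⟶ S) (z : X) (a b : ℤ) (F : CochainComplex X.Modules ℤ) :
    DerSch.HasTorAmplitudeAt g a b ((PX).obj F) (i.base z) ↔ DerSch.HasTorAmplitudeAt (i ≫ g) a b F z := by
  let r := ModuleCat.restrictScalars.{u} (g.stalkMap (i.base z)).hom
  have e : (DerSch.stalkCxOver g (i.base z)).obj ((PX).obj F) ≅ (DerSch.stalkCxOver (i ≫ g) z).obj F :=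
    (NatIso.mapHomologicalComplex (Functor.isoWhiskerRight (ClosedPerf.stalkPushOverIso i z) r ≪≫
      (StalkTor.stalkCompIso i g z).symm) (ComplexShape.up ℤ)).app F
  exact ⟨StalkTor.hasTorAmplitudeIn_congr (DerivedCategory.Q.mapIso e),
    StalkTor.hasTorAmplitudeIn_congr (DerivedCategory.Q.mapIso e).symm⟩

theorem torAmplitudeAt_push_of_notMem (g : Y ⟶ S) {y : Y} (hy : y ∉ Set.range i) (a b : ℤ)
    (F : CochainComplex X.Modules ℤ) : DerSch.HasTorAmplitudeAt g a b ((PX).obj F) y := by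
  refine DBaseChange.hasTorAmplitudeIn_of_isZero (DerivedCategory.Q.map_isZero ?_) a b
  rw [IsZero.iff_id_eq_zero]
  ext k : 1
  refine IsZero.eq_of_src ?_ _ _
  refine @ModuleCat.isZero_of_subsingleton _ _ _ ?_
  exact ⟨fun p q => (M1.eq_zero_stalk_push i (F.X k) hy p).trans (M1.eq_zero_stalk_push i (F.X k) hy q).symm⟩

theorem resD_toD (V : Y.Opens) {F' G : CochainComplex Y.Modules ℤ} (e : DCoh.toD Y F' ≅ DCoh.toD Y G) :
    Nonempty (DCoh.toD (V : Scheme.{u}) ((DCoh.restrictCx V).obj F') ≅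
      DCoh.toD (V : Scheme.{u}) ((DCoh.restrictCx V).obj G)) :=
  ⟨((DPerf.resFac V.ι).app F').symm ≪≫ (DPerf.resD V.ι).mapIso e ≪≫ (DPerf.resFac V.ι).app G⟩

theorem locTor_iff (g : Y ⟶ S) [Smooth g] (F : CochainComplex X.Modules ℤ) :
    DerSch.LocFiniteTorAmplitude (i ≫ g) F ↔ DCoh.LocHasFiniteTorDim (DCoh.toD Y ((PX).obj F)) := by
  constructor
  · intro h y
    obtain ⟨n, W, hyW, hW⟩ := exists_relDim g y
    obtain ⟨V, a, b, hyV, hVW, hamp⟩ : ∃ (V : Y.Opens) (a b : ℤ), y ∈ V ∧ V ≤ W ∧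
        ∀ y' ∈ V, DerSch.HasTorAmplitudeAt g a b ((PX).obj F) y' := by
      by_cases hy : y ∈ Set.range i
      · obtain ⟨z, rfl⟩ := hy
        obtain ⟨V₀, a, b, hz, hV₀⟩ := h z
        obtain ⟨T, hT, hTeq⟩ := i.isClosedEmbedding.isInducing.isOpen_iff.1 V₀.isOpen
        refine ⟨⟨T, hT⟩ ⊓ W, a, b, ⟨?_, hyW⟩, inf_le_right, fun y' hy' => ?_⟩
        · show z ∈ i ⁻¹' T
          rw [hTeq]; exact hz
        · by_cases hr : y' ∈ Set.range i
          · obtain ⟨z', rfl⟩ := hr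
            refine (torAmplitudeAt_push_iff i g z' a b F).2 (hV₀ z' ?_)
            show z' ∈ (V₀ : Set X)
            rw [← hTeq]; exact hy'.1
          · exact torAmplitudeAt_push_of_notMem i g hr a b F
      · exact ⟨⟨(Set.range i)ᶜ, i.isClosedEmbedding.isClosed_range.isOpen_compl⟩ ⊓ W, 0, 0, ⟨hy, hyW⟩, inf_le_right,
          fun y' hy' => torAmplitudeAt_push_of_notMem i g hy'.1 0 0 F⟩
    haveI : Smooth (V.ι ≫ g) := inferInstance
    have hd : ∀ v : (V : Scheme.{u}), ∃ (k : ℕ) (U : (V : Scheme.{u}).Opens), k ≤ n ∧ v ∈ U ∧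
        SmoothOfRelativeDimension k (U.ι ≫ V.ι ≫ g) := fun v => by
      refine ⟨n, ⊤, le_rfl, trivial, ?_⟩
      haveI := hW
      rw [← Scheme.homOfLE_ι Y hVW, Category.assoc, ← Category.assoc]
      haveI : SmoothOfRelativeDimension 0 ((⊤ : (V : Scheme.{u}).Opens).ι ≫ Y.homOfLE hVW) := inferInstance
      have h0 : SmoothOfRelativeDimension (0 + n) (((⊤ : (V : Scheme.{u}).Opens).ι ≫ Y.homOfLE hVW) ≫ W.ι ≫ g) :=
        haveI := hW
        smoothOfRelativeDimension_comp 0 n ((⊤ : (V : Scheme.{u}).Opens).ι ≫ Y.homOfLE hVW) (W.ι ≫ g)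
      simpa using h0
    have h2 := SmoothAmp.flatAmplitude_of_hasTorAmplitude (V.ι ≫ g) n hd
      (G := (DCoh.restrictCx V).obj ((PX).obj F)) (a := a) (b := b)
      (fun v => (torAmplitudeAt_restrict_iff g V v a b _).2 (hamp _ v.2))
    haveI := SmoothAmp.isLE_of_torAmp_stalks h2
    obtain ⟨E, hE, hf, ⟨e⟩⟩ := (StalkId.flatAmplitude_iff_torAmp_stalks _ b _ b).2 h2
    exact ⟨V, a - n, b, hyV, fun F' ⟨eF⟩ => ⟨E, hE, hf, ⟨e ≪≫ (resD_toD V eF).some.symm⟩⟩⟩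
  · intro h z
    obtain ⟨V, a, b, hzV, hV⟩ := h (i.base z)
    refine ⟨i ⁻¹ᵁ V, a, b, hzV, fun z' hz' => (torAmplitudeAt_push_iff i g z' a b F).1 ?_⟩
    haveI : Flat (V.ι ≫ g) := inferInstance
    have h2 := StalkTor.hasTorAmplitude_comp (𝟙 (V : Scheme.{u})) (V.ι ≫ g)
      (ClosedPerf.hasTorDimLE_zero_of_flat (V.ι ≫ g))
      (StalkId.torAmp_stalks_of_flatAmplitude (hV _ ⟨Iso.refl _⟩))
    rw [Category.id_comp] at h2
    simpa using (torAmplitudeAt_restrict_iff g V ⟨i.base z', hz'⟩ (a - (0 : ℕ)) b _).1 (h2 ⟨i.base z', hz'⟩)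

theorem isPerfectRel_iff (g : Y ⟶ S) [Smooth g] (F : CochainComplex X.Modules ℤ) :
    DerSch.IsPerfectRel (i ≫ g) F ↔ DCoh.IsPerfect (DCoh.toD Y ((PX).obj F)) := by
  constructor
  · rintro ⟨hpc, htor⟩
    refine DPerf.isPerfect_of_pc_locFlat
      (fun m => DPerf.approx_of_isPseudoCoherentD (SmoothAmp.pc_push_of_relAll i g hpc m)) fun y => ?_
    obtain ⟨V, a, b, hyV, hV⟩ := (locTor_iff i g F).1 htor y
    obtain ⟨E, hE, hf, ⟨e⟩⟩ := hV _ ⟨Iso.refl _⟩
    exact ⟨V, a, b, hyV, E, hE, hf, ⟨e ≪≫ ((DPerf.resFac V.ι).app _).symm⟩⟩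
  · intro h
    refine ⟨ClosedPerf.relAll_of_pc_push i g (fun m => DPerf.isPseudoCoherentD_of_approx
      ((DPerf.isPerfect_iff_approx.1 h).mono_set (Set.subset_univ _))), (locTor_iff i g F).2 fun y => ?_⟩
    obtain ⟨V, a, b, hyV, -, E, hE, hf, ⟨e⟩⟩ := DPerf.exists_flatAmplitude_of_isPerfect h y
    exact ⟨V, a, b, hyV, fun F' ⟨eF⟩ => ⟨E, hE, hf,
      ⟨e ≪≫ (DPerf.resFac V.ι).app _ ≪≫ (resD_toD V eF).some.symm⟩⟩⟩

end Groth.Agent.RelPCS8.LocPerf
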