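import Mathlib
import Groth.Agent.Lib.RelPCS8.LocPerf
import Groth.Agent.Lib.TorBal.Perfect

set_option autoImplicit false
set_option backward.isDefEq.respectTransparency false
set_option linter.style.haveILetI false
universe u
open CategoryTheory CategoryTheory.Limits AlgebraicGeometry
attribute [local instance] HasDerivedCategory.standard

namespace Groth.Agent.RelPCS8.PerfPC

/-- The bottom term of a complex, flat above, is flat as soon as the complex has flat amplitude from there. -/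
theorem flat_bottom {A : Type u} [CommRing A] (G : DRing.Cx A) {a B a' b' : ℤ} [G.IsStrictlyGE a]
    [G.IsStrictlyLE B] (hflat : ∀ i, a < i → Module.Flat A (G.X i)) (haa : a ≤ a')
    (h : DRing.HasTorAmplitudeIn A a' b' (DRing.toD G)) : Module.Flat A (G.X a) := by
  let B' := max (max a B) b'
  let ι := KFlat.brutι G (a + 1)
  let S : ShortComplex (DRing.Cx A) := ShortComplex.mk ι (cokernel.π ι) (cokernel.condition ι)
  have hS : S.ShortExact := { exact := ShortComplex.exact_cokernel ι }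
  let ev := fun i : ℤ => HomologicalComplex.eval (ModuleCat.{u} A) (ComplexShape.up ℤ) i
  let ec := fun i : ℤ => PreservesCokernel.iso (ev i) ι
  have hT : ∀ i, i < a ∨ a < i → IsZero (S.X₃.X i) := fun i hi => by
    rcases hi with hi | hi
    · haveI : Epi ((cokernel.π ι).f i) := inferInstanceAs (Epi ((ev i).map (cokernel.π ι)))
      exact IsZero.of_epi ((cokernel.π ι).f i) (G.isZero_of_isStrictlyGE a i hi)
    · haveI := KFlat.isIso_brutι_f G (show a + 1 ≤ i by omega)
      haveI : IsIso ((ev i).map ι) := this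
      exact (isZero_cokernel_of_epi ((ev i).map ι)).of_iso (ec i)
  haveI : S.X₃.IsStrictlyGE a := (CochainComplex.isStrictlyGE_iff _ a).2 fun i hi => hT i (Or.inl hi)
  haveI : S.X₃.IsStrictlyLE a := (CochainComplex.isStrictlyLE_iff _ a).2 fun i hi => hT i (Or.inr hi)
  obtain ⟨T, ⟨t⟩⟩ := CochainComplex.exists_iso_single S.X₃ a
  have h₁ : DRing.HasTorAmplitudeIn A (a + 1) (B' + 1) (DRing.toD S.X₁) := by
    refine ⟨S.X₁, fun i hi => ?_, fun i => ?_, ⟨Iso.refl _⟩⟩
    · by_cases h : a + 1 ≤ i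
      · exact (G.isZero_of_isStrictlyLE B i (by omega)).of_iso (KFlat.brutIso G h)
      · exact KFlat.brutGE_isZero G (by omega)
    · by_cases h : a + 1 ≤ i
      · haveI := hflat i (by omega)
        exact Module.Flat.of_linearEquiv (KFlat.brutIso G h).toLinearEquiv
      · haveI := ModuleCat.subsingleton_of_isZero (KFlat.brutGE_isZero G (show i < a + 1 by omega))
        exact inferInstance
  have h₃ : DRing.HasTorAmplitudeIn A a B' (DRing.toD S.X₃) :=
    DBaseChange.torAmp_triangle₃ a B' _ (DerivedCategory.triangleOfSES_distinguished hS) h₁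
      (DBaseChange.hasTorAmplitudeIn_mono (by omega) (by omega) h)
  have h₄ : DRing.HasTorAmplitudeIn A a B' ((DerivedCategory.singleFunctor (ModuleCat.{u} A) a).obj T) :=
    DBaseChange.hasTorAmplitudeIn_of_iso (DerivedCategory.Q.mapIso t ≪≫
      ((DerivedCategory.singleFunctorIsoCompQ _ a).app T).symm) h₃
  have h₅ : DRing.HasTorAmplitudeIn A 0 (B' - a) (Dual.inD A T) :=
    DBaseChange.hasTorAmplitudeIn_of_iso
      (((DerivedCategory.singleFunctors (ModuleCat.{u} A)).shiftIso a 0 a (add_zero a)).app T)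
      (DBaseChange.hasTorAmplitudeIn_shift a 0 (B' - a) (by omega) (by omega) h₄)
  haveI : (Dual.inD A T).IsLE 0 := inferInstanceAs
    (((DerivedCategory.singleFunctor (ModuleCat.{u} A) 0).obj (ModuleCat.of A T)).IsLE 0)
  have hTflat : Module.Flat A T := (TorBal.flat_iff_hasTorDimLE_zero T).1
    (TorBal.hasTorDimLE_of_amplitude T 0 (by simpa using TorBal.amplitude_shrink 0 h₅))
  haveI : IsIso ((cokernel.π ι).f a) := by
    have h0 : (ev a).map ι = 0 := (KFlat.brutGE_isZero G (show a < a + 1 by omega)).eq_of_src _ _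
    haveI : IsIso (cokernel.π ((ev a).map ι)) := by
      exact ⟨cokernel.desc _ (𝟙 _) (by rw [h0, zero_comp]), by simp, coequalizer.hom_ext (by simp)⟩
    have he : (cokernel.π ι).f a = cokernel.π ((ev a).map ι) ≫ (ec a).inv := by
      simp [ec, ev]
    rw [he]; infer_instance
  let e : G.X a ≅ T := asIso ((cokernel.π ι).f a) ≪≫ (ev a).mapIso t ≪≫
    HomologicalComplex.singleObjXSelf (ComplexShape.up ℤ) a T
  exact Module.Flat.of_linearEquiv e.toLinearEquiv

theorem torAmp_stalk_of_restrict_iso {X : Scheme.{u}} (W : X.Opens) (w : (W : Scheme.{u})) {a b : ℤ}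
    {F : CochainComplex X.Modules ℤ} (h : DerSch.HasTorAmplitudeAt (𝟙 X) a b F (W.ι.base w)) :
    DerSch.HasTorAmplitudeAt (𝟙 (W : Scheme.{u})) a b ((DCoh.restrictCx W).obj F) w := by
  have h1 := (RestrictStalk.torAmplitudeAt_restrict_iff (𝟙 X) W w a b F).2 h
  rw [Category.comp_id] at h1
  let φ := (W.ι.stalkMap w).hom
  have e : DRing.toD ((DerSch.stalkCxOver W.ι w).obj ((DCoh.restrictCx W).obj F)) ≅
      (DRing.restrictD φ).obj (DRing.toD (((DerSch.stalkFunctor (W : Scheme.{u}) w).mapHomologicalComplex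
        (ComplexShape.up ℤ)).obj ((DCoh.restrictCx W).obj F))) :=
    ((ModuleCat.restrictScalars.{u} φ).mapDerivedCategoryFactors.app
      (((DerSch.stalkFunctor (W : Scheme.{u}) w).mapHomologicalComplex (ComplexShape.up ℤ)).obj
        ((DCoh.restrictCx W).obj F))).symm
  let er : X.presheaf.stalk (W.ι.base w) ≃+* (W : Scheme.{u}).presheaf.stalk w :=
    (asIso (W.ι.stalkMap w)).commRingCatIsoToRingEquiv
  have h2 := SmoothTor.amplitude_of_restrict φ (Flat.stalkMap W.ι w) 0
    (fun M hM => SmoothTor.hasTorDimLE_of_ringEquiv er 0 M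
      ((TorBal.flat_iff_hasTorDimLE_zero (A := X.presheaf.stalk (W.ι.base w))
        ((ModuleCat.restrictScalars.{u} φ).obj M)).2 hM)) _ a b (StalkTor.hasTorAmplitudeIn_congr e h1)
  refine StalkTor.hasTorAmplitudeIn_congr (DerivedCategory.Q.mapIso ?_) (by simpa using h2)
  exact (NatIso.mapHomologicalComplex (StalkId.stOverIdIso w).symm (ComplexShape.up ℤ)).app _

theorem exists_torAmplitudeAt {X : Scheme.{u}} (F : CochainComplex X.Modules ℤ) (c d : ℤ)
    [(DCoh.toD X F).IsGE c] [(DCoh.toD X F).IsLE d] (x : X)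
    (hA : ∀ (M : Type u) [AddCommGroup M] [Module (X.presheaf.stalk x) M], DRing.HasFiniteTorDim (X.presheaf.stalk x) M) :
    ∃ a b : ℤ, DerSch.HasTorAmplitudeAt (𝟙 X) a b F x := by
  let Fx := ((KFlat.Sch.stF x).mapHomologicalComplex (ComplexShape.up ℤ)).obj F
  have hz : ∀ i, i < c ∨ d < i → Subsingleton (Dual.HD (X.presheaf.stalk x) (DRing.toD Fx) i) := fun i hi => by
    have h0 : F.ExactAt i := (KFlat.Sch.isZero_HD_toD_iff F i).1 (by
      rcases hi with hi | hi
      · exact (DerivedCategory.isGE_iff _ c).1 inferInstance i hi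
      · exact (DerivedCategory.isLE_iff _ d).1 inferInstance i hi)
    rw [HomologicalComplex.exactAt_iff] at h0
    have h1 : Fx.ExactAt i := (HomologicalComplex.exactAt_iff _ _).2 ((KFlat.Sch.exact_iff_stF _).1 h0 x)
    exact (DMod.subsingleton_HD_toD_iff Fx i).2
      (ModuleCat.subsingleton_of_isZero ((HomologicalComplex.exactAt_iff_isZero_homology _ _).1 h1))
  obtain ⟨a, b, h⟩ := TorBal.exists_amplitude_of_homology (DRing.toD Fx) c d hz fun i => by
    obtain ⟨n, hn⟩ := hA (Dual.HD (X.presheaf.stalk x) (DRing.toD Fx) i)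
    exact ⟨_, _, TorBal.amplitude_of_hasTorDimLE _ n hn⟩
  exact ⟨a, b, StalkTor.hasTorAmplitudeIn_congr (DerivedCategory.Q.mapIso
    ((NatIso.mapHomologicalComplex (StalkId.stOverIdIso x).symm (ComplexShape.up ℤ)).app F)) h⟩

open DPerf in
/-- Bounded pseudo-coherent complexes over local rings of finite tor dimension are perfect. -/
theorem isPerfect_of_pc {X : Scheme.{u}}
    (hX : ∀ (x : X) (M : Type u) [AddCommGroup M] [Module (X.presheaf.stalk x) M], DRing.HasFiniteTorDim (X.presheaf.stalk x) M)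
    (F : CochainComplex X.Modules ℤ) (c d : ℤ) [(DCoh.toD X F).IsGE c] [(DCoh.toD X F).IsLE d]
    (hpc : ∀ m : ℤ, DCoh.IsPseudoCoherentD m (DCoh.toD X F)) : DCoh.IsPerfect (DCoh.toD X F) := by
  refine isPerfect_iff_approx.2 fun x => ?_
  obtain ⟨a₀, b₀, hamp⟩ := exists_torAmplitudeAt F c d x (hX x)
  let a := min a₀ c
  obtain ⟨V, hxV, hV⟩ := (approx_of_isPseudoCoherentD (hpc (a - 1))).exists_opens x
  obtain ⟨E, hE, α, hα⟩ := hV V le_rfl
  let α' := α ≫ (resFac V.ι).hom.app F
  have hα' : DCond (Set.Ici (a - 1)) α' := hα.comp (dcond_of_isIso _)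
  obtain ⟨Z, k, hk, hxk, β, hβ⟩ := exists_represent hE α' (⟨x, hxV⟩ : (V : Scheme.{u}))
  obtain ⟨W, l, hl, hxW, hlk⟩ := DPerf.exists_opens (k ≫ V.ι) (x := x) (by
    obtain ⟨z, hz⟩ := hxk
    exact ⟨z, congrArg V.ι hz⟩)
  have hβ' : DCond (Set.Ici (a - 1)) (DerivedCategory.Q.map β) := by
    have h : DerivedCategory.Q.map β = (resFac k).inv.app E ≫ (resD k).map α' ≫ (resFac k).hom.app ((resX V.ι).obj F) := by
      rw [show (resD k).map α' = (resFac k).hom.app E ≫ DerivedCategory.Q.map β ≫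
        (resFac k).inv.app ((resX V.ι).obj F) from hβ]
      simp
    rw [h]
    exact DCond.comp (dcond_of_isIso _) (DCond.comp (dcond_map _ hα') (dcond_of_isIso _))
  let β₂ := (resX l).map β
  have hβ₂ : DCond (Set.Ici (a - 1)) (DerivedCategory.Q.map β₂) := by
    have h : DerivedCategory.Q.map β₂ =
        (resFac l).inv.app _ ≫ (resD l).map (DerivedCategory.Q.map β) ≫ (resFac l).hom.app _ := by
      have hn := (resFac l).hom.naturality β
      simp only [Functor.comp_map] at hn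
      rw [hn, ← NatTrans.comp_app_assoc, Iso.inv_hom_id, NatTrans.id_app, Category.id_comp]
    rw [h]
    exact DCond.comp (dcond_of_isIso _) (DCond.comp (dcond_map _ hβ') (dcond_of_isIso _))
  let e₁ : DCoh.toD _ ((resX l).obj ((resX k).obj ((resX V.ι).obj F))) ≅ DCoh.toD (W : Scheme.{u}) ((resX W.ι).obj F) :=
    ((resFac l).app _).symm ≪≫ (resD l).mapIso (((resFac k).app _).symm ≪≫
      (resD k).mapIso ((resFac V.ι).app F).symm ≪≫ (resDComp V.ι k).app _) ≪≫
      (resDComp (k ≫ V.ι) l).app _ ≪≫ eqToIso (by simp only [hlk, Functor.comp_obj]) ≪≫ (resFac W.ι).app F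
  haveI : (DCoh.toD (W : Scheme.{u}) ((resX W.ι).obj F)).IsGE c := by
    refine (DerivedCategory.isGE_iff _ c).2 fun i hi => ?_
    exact ((Scheme.Modules.restrictFunctor W.ι).map_isZero
      ((DerivedCategory.isGE_iff (DCoh.toD X F) c).1 inferInstance i hi)).of_iso
      ((DerivedCategory.homologyFunctor _ i).mapIso ((resFac W.ι).app F).symm ≪≫ hdResIso W.ι (DCoh.toD X F) i)
  let P := (resX l).obj ((resX k).obj E)
  let G := (resX l).obj ((resX k).obj ((resX V.ι).obj F))
  haveI : G.IsGE a := (CochainComplex.isGE_iff G a).2 fun i hi =>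
    (KFlat.Sch.isZero_HD_toD_iff G i).1 ((KFlat.Sch.isZero_HD_iff_of_iso e₁ i).2
      ((DerivedCategory.isGE_iff _ c).1 inferInstance i (by omega)))
  haveI : QuasiIso (CochainComplex.truncGEMap β₂ a) := by
    rw [CochainComplex.quasiIso_truncGEMap_iff]
    intro i hi
    rw [quasiIsoAt_iff_isIso_homologyMap]
    exact ((hcond_Ici_iff β₂ (a - 1)).1 ((dcond_Q_iff β₂).1 hβ₂)).1 i (by omega)
  let EW := P.truncGE a
  let e₂ : DCoh.toD (W : Scheme.{u}) EW ≅ DCoh.toD (W : Scheme.{u}) ((resX W.ι).obj F) :=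
    asIso (DerivedCategory.Q.map (CochainComplex.truncGEMap β₂ a)) ≪≫
      (asIso (DerivedCategory.Q.map (G.πTruncGE a))).symm ≪≫ e₁
  have hP : DCoh.IsStrictlyPerfect P := isStrictlyPerfect_res l (isStrictlyPerfect_res k hE)
  obtain ⟨⟨p, q, hv⟩, hf⟩ := hP
  let w : (W : Scheme.{u}) := ⟨x, hxW⟩
  have hXi : ∀ i, a < i → FlatMod.IsFinLocFree (EW.X i) := fun i hi =>
    M2.isFinLocFree_of_iso (CochainComplex.truncGEXIso P a i hi).symm (hf i)
  let eb : EW.X a ≅ cokernel (P.d (a - 1) a) := CochainComplex.truncGEXIsoOpcycles P a ≪≫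
    (P.opcyclesIsCokernel (a - 1) a (by simp)).coconePointUniqueUpToIso (colimit.isColimit _)
  have h1 := M1.isFP_of_isFinLocFree (hf (a - 1))
  have hFP : CohB1.IsFP (cokernel (P.d (a - 1) a)) :=
    isFP_cokernel (M1.isFP_isQCoh h1) (M1.isFP_isFT h1) (M1.isFP_of_isFinLocFree (hf a)) _
  let Gw := ((KFlat.Sch.stF w).mapHomologicalComplex (ComplexShape.up ℤ)).obj EW
  haveI := (StalkId.preservesFiniteLimits_stalkOver (𝟙 (W : Scheme.{u})) w).1
  haveI := (StalkId.preservesFiniteLimits_stalkOver (𝟙 (W : Scheme.{u})) w).2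
  have hGamp : DRing.HasTorAmplitudeIn _ a₀ b₀ (DRing.toD Gw) :=
    StalkTor.hasTorAmplitudeIn_congr
      ((StalkId.stalkToDIso w (𝟙 (W : Scheme.{u})) e₂).symm ≪≫ DerivedCategory.Q.mapIso
        ((NatIso.mapHomologicalComplex (StalkId.stOverIdIso w) (ComplexShape.up ℤ)).app EW))
      (torAmp_stalk_of_restrict_iso W w hamp)
  haveI : CochainComplex.IsStrictlyGE Gw a := (CochainComplex.isStrictlyGE_iff _ a).2 fun i hi =>
    (KFlat.Sch.stF w).map_isZero (EW.isZero_of_isStrictlyGE a i hi)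
  haveI : CochainComplex.IsStrictlyLE Gw (max a q) := (CochainComplex.isStrictlyLE_iff _ _).2 fun i hi =>
    (KFlat.Sch.stF w).map_isZero ((hv i (Or.inr (by omega))).of_iso (CochainComplex.truncGEXIso P a i (by omega)))
  have hflat : Module.Flat _ ((KFlat.Sch.stF w).obj (EW.X a)) := flat_bottom (B := max a q) Gw
    (fun i hi => KFlat.Sch.isFlat_of_isFinLocFree (hXi i hi) w) (min_le_left _ _) hGamp
  have hflat' : Module.Flat ((W : Scheme.{u}).presheaf.stalk w) ((cokernel (P.d (a - 1) a)).presheaf.stalk w) :=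
    StalkId.flat_of_iso ((KFlat.Sch.stF w).mapIso eb) hflat
  haveI : Module.Free ((W : Scheme.{u}).presheaf.stalk w) ((cokernel (P.d (a - 1) a)).presheaf.stalk w) :=
    M1.free_stalk_of_flat hFP w hflat'
  obtain ⟨U, n, hwU, ⟨eU⟩⟩ := M1.exists_freeMod_of_free_stalk hFP w
  refine ⟨_, U.ι ≫ W.ι, inferInstance, ⟨⟨w, hwU⟩, rfl⟩, (resX U.ι).obj EW, ⟨⟨a, max a q, fun i hi => ?_⟩, fun i => ?_⟩, ?_⟩
  · refine (Scheme.Modules.restrictFunctor U.ι).map_isZero ?_
    rcases hi with hi | hi
    · exact EW.isZero_of_isStrictlyGE a i hi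
    · exact (hv i (Or.inr (by omega))).of_iso (CochainComplex.truncGEXIso P a i (by omega))
  · rcases lt_trichotomy i a with hi | hi | hi
    · exact KFlat.Sch.isFinLocFree_of_isZero
        ((Scheme.Modules.restrictFunctor U.ι).map_isZero (EW.isZero_of_isStrictlyGE a i hi))
    · subst hi
      exact M2.isFinLocFree_of_iso ((Scheme.Modules.restrictFunctor U.ι).mapIso eb ≪≫ eU).symm
        (KFlat.Sch.isFinLocFree_freeMod _ n)
    · exact M2.isFinLocFree_restrict U.ι (hXi i hi)
  · let γ : DCoh.toD _ ((resX U.ι).obj EW) ≅ (resD (U.ι ≫ W.ι)).obj (DCoh.toD X F) :=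
      ((resFac U.ι).app EW).symm ≪≫ (resD U.ι).mapIso (e₂ ≪≫ ((resFac W.ι).app F).symm) ≪≫ (resDComp W.ι U.ι).app _
    exact ⟨γ.hom, dcond_of_isIso _⟩

end Groth.Agent.RelPCS8.PerfPC
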