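import Mathlib
import Groth.Agent.Lib.RelPCS8.PerfPC
import Groth.Agent.Lib.DPerf.RelAmp
import Groth.Agent.S4863

set_option autoImplicit false
set_option backward.isDefEq.respectTransparency false
set_option linter.style.haveILetI false
universe u
open CategoryTheory CategoryTheory.Limits AlgebraicGeometry
attribute [local instance] HasDerivedCategory.standard

namespace Groth.Agent.RelPCS8.PerfAt

open DPerf

variable {X Y : Scheme.{u}}

theorem rel_res {f : X ⟶ Y} {X' : Scheme.{u}} (j : X' ⟶ X) [IsOpenImmersion j] {m : ℤ} {K : DCoh.D X}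
    (h : DerSch.IsPseudoCoherentRel f m K) :
    DerSch.IsPseudoCoherentRel (j ≫ f) m ((resD j).obj K) := by
  haveI : LocallyOfFiniteType f := h.1
  refine rel_of_locally fun y => ?_
  obtain ⟨W, V, hy, hW, hV, hle⟩ := exists_affine_pair (j ≫ f) y
  refine ⟨W, V, hy, good_image j hW ((rel_iff.1 h).2 _ V (hW.image_of_isOpenImmersion j) hV ?_)⟩
  rintro _ ⟨w, hw, rfl⟩
  exact hle hw

theorem isGE_res (V : X.Opens) {F : CochainComplex X.Modules ℤ} (n : ℤ) [(DCoh.toD X F).IsGE n] :
    (DCoh.toD (V : Scheme.{u}) ((DCoh.restrictCx V).obj F)).IsGE n :=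
  (DerivedCategory.isGE_iff _ n).2 fun i hi =>
    ((Scheme.Modules.restrictFunctor V.ι).map_isZero
      ((DerivedCategory.isGE_iff (DCoh.toD X F) n).1 inferInstance i hi)).of_iso
      ((DerivedCategory.homologyFunctor _ i).mapIso ((resFac V.ι).app F).symm ≪≫ hdResIso V.ι (DCoh.toD X F) i)

/-- A local truncated strictly perfect model. -/
theorem exists_trunc_model {T : Scheme.{u}} (F : CochainComplex T.Modules ℤ) (a : ℤ) [(DCoh.toD T F).IsGE a]
    (hpc : Approx (Set.Ici (a - 1)) (DCoh.toD T F)) (x : T) :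
    ∃ (W : T.Opens) (_ : x ∈ W) (P : CochainComplex (W : Scheme.{u}).Modules ℤ), DCoh.IsStrictlyPerfect P ∧
      Nonempty (DCoh.toD (W : Scheme.{u}) (P.truncGE a) ≅ DCoh.toD (W : Scheme.{u}) ((DCoh.restrictCx W).obj F)) := by
  obtain ⟨V, hxV, hV⟩ := hpc.exists_opens x
  obtain ⟨E, hE, α, hα⟩ := hV V le_rfl
  let α' := α ≫ (resFac V.ι).hom.app F
  have hα' : DCond (Set.Ici (a - 1)) α' := hα.comp (dcond_of_isIso _)
  obtain ⟨Z, k, hk, hxk, β, hβ⟩ := exists_represent hE α' (⟨x, hxV⟩ : (V : Scheme.{u}))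
  obtain ⟨W, l, hl, hxW, hlk⟩ := DPerf.exists_opens (k ≫ V.ι) (x := x) (by
    obtain ⟨z, hz⟩ := hxk
    exact ⟨z, congrArg V.ι hz⟩)
  have hβ' : DCond (Set.Ici (a - 1)) (DerivedCategory.Q.map β) := by
    have h : DerivedCategory.Q.map β = (resFac k).inv.app E ≫ (resD k).map α' ≫ (resFac k).hom.app ((resX V.ι).obj F) := by
      rw [show (resD k).map α' = (resFac k).hom.app E ≫ DerivedCategory.Q.map β ≫
        (resFac k).inv.app ((resX V.ι).obj F) from hβ]
      simp
    rw [h]
    exact DCond.comp (dcond_of_isIso _) (DCond.comp (dcond_map _ hα') (dcond_of_isIso _))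
  let β₂ := (resX l).map β
  have hβ₂ : DCond (Set.Ici (a - 1)) (DerivedCategory.Q.map β₂) := by
    have h : DerivedCategory.Q.map β₂ =
        (resFac l).inv.app _ ≫ (resD l).map (DerivedCategory.Q.map β) ≫ (resFac l).hom.app _ := by
      have hn := (resFac l).hom.naturality β
      simp only [Functor.comp_map] at hn
      rw [hn, ← NatTrans.comp_app_assoc, Iso.inv_hom_id, NatTrans.id_app, Category.id_comp]
    rw [h]
    exact DCond.comp (dcond_of_isIso _) (DCond.comp (dcond_map _ hβ') (dcond_of_isIso _))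
  let e₁ : DCoh.toD _ ((resX l).obj ((resX k).obj ((resX V.ι).obj F))) ≅ DCoh.toD (W : Scheme.{u}) ((resX W.ι).obj F) :=
    ((resFac l).app _).symm ≪≫ (resD l).mapIso (((resFac k).app _).symm ≪≫
      (resD k).mapIso ((resFac V.ι).app F).symm ≪≫ (resDComp V.ι k).app _) ≪≫
      (resDComp (k ≫ V.ι) l).app _ ≪≫ eqToIso (by simp only [hlk, Functor.comp_obj]) ≪≫ (resFac W.ι).app F
  haveI := isGE_res W (F := F) a
  let G := (resX l).obj ((resX k).obj ((resX V.ι).obj F))
  haveI : G.IsGE a := (CochainComplex.isGE_iff G a).2 fun i hi =>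
    (KFlat.Sch.isZero_HD_toD_iff G i).1 ((KFlat.Sch.isZero_HD_iff_of_iso e₁ i).2
      ((DerivedCategory.isGE_iff _ a).1 inferInstance i hi))
  haveI : QuasiIso (CochainComplex.truncGEMap β₂ a) := by
    rw [CochainComplex.quasiIso_truncGEMap_iff]
    intro i hi
    rw [quasiIsoAt_iff_isIso_homologyMap]
    exact ((hcond_Ici_iff β₂ (a - 1)).1 ((dcond_Q_iff β₂).1 hβ₂)).1 i (by omega)
  exact ⟨W, hxW, (resX l).obj ((resX k).obj E), isStrictlyPerfect_res l (isStrictlyPerfect_res k hE),
    ⟨asIso (DerivedCategory.Q.map (CochainComplex.truncGEMap β₂ a)) ≪≫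
      (asIso (DerivedCategory.Q.map (G.πTruncGE a))).symm ≪≫ e₁⟩⟩

theorem exactAt_stalk {f : X ⟶ Y} {F : CochainComplex X.Modules ℤ} {i : ℤ} (h : F.ExactAt i) (x : X) :
    ((DerSch.stalkCxOver f x).obj F).ExactAt i := by
  rw [HomologicalComplex.exactAt_iff] at h ⊢
  haveI := (StalkId.preservesFiniteLimits_stalkOver f x).1
  haveI := (StalkId.preservesFiniteLimits_stalkOver f x).2
  exact ShortComplex.Exact.map h (DerSch.stalkOver f x)

theorem isLE_stalk {f : X ⟶ Y} {F : CochainComplex X.Modules ℤ} {b : ℤ} [(DCoh.toD X F).IsLE b] (x : X) :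
    (DRing.toD ((DerSch.stalkCxOver f x).obj F)).IsLE b :=
  (DMod.isLE_iff _ b).2 fun i hi => (DMod.subsingleton_HD_toD_iff _ i).2 (ModuleCat.subsingleton_of_isZero
    ((HomologicalComplex.exactAt_iff_isZero_homology _ _).1 (exactAt_stalk ((KFlat.Sch.isZero_HD_toD_iff F i).1
      ((DerivedCategory.isLE_iff _ b).1 inferInstance i hi)) x)))

/-- Over a flat base of finite presentation, perfect amplitude spreads out from one point. -/
theorem exists_nhd_of_at {T : Scheme.{u}} (q : T ⟶ Y) [Flat q] [LocallyOfFinitePresentation q]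
    (F : CochainComplex T.Modules ℤ) (a b : ℤ) [(DCoh.toD T F).IsGE a] [(DCoh.toD T F).IsLE b]
    (hpc : Approx (Set.Ici (a - 1)) (DCoh.toD T F)) (x : T) (hamp : DerSch.HasTorAmplitudeAt q a b F x) :
    ∃ V : T.Opens, x ∈ V ∧ (∀ t ∈ V, DerSch.HasTorAmplitudeAt q a b F t) ∧
      DerSch.IsPseudoCoherentRelAll (V.ι ≫ q) ((resD V.ι).obj (DCoh.toD T F)) := by
  obtain ⟨W, hxW, P, hP, ⟨e⟩⟩ := exists_trunc_model F a hpc x
  obtain ⟨⟨p₀, p₁, hv⟩, hf⟩ := hP
  let EW := P.truncGE a
  let w : (W : Scheme.{u}) := ⟨x, hxW⟩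
  let g := W.ι ≫ q
  haveI : Flat g := inferInstance
  haveI : LocallyOfFinitePresentation g := inferInstance
  have htop : ∀ i, max a p₁ < i → IsZero (EW.X i) := fun i hi =>
    (hv i (Or.inr (by omega))).of_iso (CochainComplex.truncGEXIso P a i (by omega))
  have hXi : ∀ i, a < i → FlatMod.IsFinLocFree (EW.X i) := fun i hi =>
    M2.isFinLocFree_of_iso (CochainComplex.truncGEXIso P a i hi).symm (hf i)
  let eb : EW.X a ≅ cokernel (P.d (a - 1) a) := CochainComplex.truncGEXIsoOpcycles P a ≪≫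
    (P.opcyclesIsCokernel (a - 1) a (by simp)).coconePointUniqueUpToIso (colimit.isColimit _)
  have h1 := M1.isFP_of_isFinLocFree (hf (a - 1))
  have hFP : CohB1.IsFP (cokernel (P.d (a - 1) a)) :=
    isFP_cokernel (M1.isFP_isQCoh h1) (M1.isFP_isFT h1) (M1.isFP_of_isFinLocFree (hf a)) _
  let C := cokernel (P.d (a - 1) a)
  have hflatAbove : ∀ i, a < i → FlatMod.IsFlatOver g (EW.X i) := fun i hi =>
    isFlatOver_of_isFlat g (KFlat.Sch.isFlat_of_isFinLocFree (hXi i hi))
  have hstalk : ∀ (v : (W : Scheme.{u})), DRing.toD ((DerSch.stalkCxOver g v).obj EW) ≅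
      DRing.toD ((DerSch.stalkCxOver g v).obj ((DCoh.restrictCx W).obj F)) := fun v => by
    haveI := (StalkId.preservesFiniteLimits_stalkOver g v).1
    haveI := (StalkId.preservesFiniteLimits_stalkOver g v).2
    exact StalkId.stalkToDIso v g e
  let Gw := (DerSch.stalkCxOver g w).obj EW
  haveI : CochainComplex.IsStrictlyGE Gw a := (CochainComplex.isStrictlyGE_iff _ a).2 fun i hi =>
    (DerSch.stalkOver g w).map_isZero (EW.isZero_of_isStrictlyGE a i hi)
  haveI : CochainComplex.IsStrictlyLE Gw (max a p₁) := (CochainComplex.isStrictlyLE_iff _ _).2 fun i hi =>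
    (DerSch.stalkOver g w).map_isZero (htop i hi)
  have hbot : Module.Flat _ ((DerSch.stalkOver g w).obj (EW.X a)) :=
    PerfPC.flat_bottom (B := max a p₁) Gw (fun i hi => hflatAbove i hi w) le_rfl
      (StalkTor.hasTorAmplitudeIn_congr (hstalk w).symm
        ((RestrictStalk.torAmplitudeAt_restrict_iff q W w a b F).2 hamp))
  haveI : Coh.IsQCoh C := M1.isFP_isQCoh hFP
  have hCw : FlatMod.IsFlatOverAt g C w :=
    StalkId.flat_of_iso ((DerSch.stalkOver g w).mapIso eb) hbot
  obtain ⟨O, hOdef⟩ : ∃ O : (W : Scheme.{u}).Opens, (O : Set (W : Scheme.{u})) = {v | FlatMod.IsFlatOverAt g C v} :=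
    ⟨⟨_, Groth.Agent.S4863.result g C hFP⟩, rfl⟩
  have hwO : w ∈ O := by
    show w ∈ (O : Set (W : Scheme.{u}))
    rw [hOdef]; exact hCw
  have hampO : ∀ v ∈ O, DerSch.HasTorAmplitudeAt g a b ((DCoh.restrictCx W).obj F) v := fun v hv' => by
    have hv'' : FlatMod.IsFlatOverAt g C v := by
      rw [← SetLike.mem_coe, hOdef] at hv'; exact hv'
    haveI := isLE_stalk (f := q) (F := F) (b := b) (W.ι v)
    have h2 : DerSch.HasTorAmplitudeAt q a (max a p₁) F (W.ι v) :=
      (RestrictStalk.torAmplitudeAt_restrict_iff q W v a _ F).1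
        (StalkTor.hasTorAmplitudeIn_congr (hstalk v) ⟨(DerSch.stalkCxOver g v).obj EW, fun i hi => (DerSch.stalkOver g v).map_isZero
          (by
            rcases hi with hi | hi
            · exact EW.isZero_of_isStrictlyGE a i hi
            · exact htop i hi), fun i => by
          rcases lt_trichotomy i a with hi | hi | hi
          · haveI := ModuleCat.subsingleton_of_isZero ((DerSch.stalkOver g v).map_isZero (EW.isZero_of_isStrictlyGE a i hi))
            exact (inferInstance : Module.Flat (Y.presheaf.stalk (g.base v)) ((DerSch.stalkOver g v).obj (EW.X i)))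
          · subst hi
            exact StalkId.flat_of_iso ((DerSch.stalkOver g v).mapIso eb).symm hv''
          · exact hflatAbove i hi v, ⟨Iso.refl _⟩⟩)
    exact (RestrictStalk.torAmplitudeAt_restrict_iff q W v a b F).2 (TorBal.amplitude_shrink b h2)
  obtain ⟨V, k, hk, hxV, hkV⟩ := DPerf.exists_opens (O.ι ≫ W.ι) (x := x) ⟨⟨w, hwO⟩, rfl⟩
  refine ⟨V, hxV, fun t ht => ?_, fun m => ?_⟩
  · have hval : W.ι (O.ι (k ⟨t, ht⟩)) = t := by
      rw [← Scheme.Hom.comp_apply, ← Scheme.Hom.comp_apply, hkV]; rfl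
    have h3 := (RestrictStalk.torAmplitudeAt_restrict_iff q W (O.ι (k ⟨t, ht⟩)) a b F).1
      (hampO _ (k ⟨t, ht⟩).2)
    rwa [hval] at h3
  · let E2 := (resX O.ι).obj EW
    haveI : Flat (O.ι ≫ g) := inferInstance
    haveI : LocallyOfFinitePresentation (O.ι ≫ g) := inferInstance
    have hfl : ∀ i, FlatMod.IsFlatOver (O.ι ≫ g) (E2.X i) := fun i => by
      rcases lt_trichotomy i a with hi | hi | hi
      · exact isFlatOver_of_isZero ((Scheme.Modules.restrictFunctor O.ι).map_isZero (EW.isZero_of_isStrictlyGE a i hi))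
      · subst hi
        intro z
        have hz : FlatMod.IsFlatOverAt g C (O.ι z) := by
          have := z.2
          rw [← SetLike.mem_coe, hOdef] at this; exact this
        let r := ModuleCat.restrictScalars.{u} (g.stalkMap (O.ι.base z)).hom
        show Module.Flat (Y.presheaf.stalk (g.base (O.ι.base z))) ((DerSch.stalkOver (O.ι ≫ g) z).obj (E2.X i))
        refine StalkId.flat_of_iso (A := Y.presheaf.stalk (g.base (O.ι.base z))) (M := (DerSch.stalkOver g (O.ι.base z)).obj C) ?_ hz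
        exact (r.mapIso ((RestrictStalk.restrictStalkOverIso O z).app C)).symm ≪≫
          ((StalkTor.stalkCompIso O.ι g z).app _).symm ≪≫
          (DerSch.stalkOver (O.ι ≫ g) z).mapIso ((Scheme.Modules.restrictFunctor O.ι).mapIso eb.symm)
      · exact isFlatOver_of_isFlat _ (KFlat.Sch.isFlat_of_isFinLocFree (M2.isFinLocFree_restrict O.ι (hXi i hi)))
    have hfp : ∀ i, DerSch.IsPseudoCoherentRel (O.ι ≫ g) (-1)
        (DCoh.toD _ ((HomologicalComplex.single _ (ComplexShape.up ℤ) 0).obj (E2.X i))) := fun i => by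
      refine rel_of_iso (singleToInD _).symm
        ((rel_iff_pc (fun n => nPseudoCoherent_of_flat n) (-1) _).2 (isPseudoCoherentD_of_approx ?_))
      rcases lt_trichotomy i a with hi | hi | hi
      · exact approx_inD_of_isZero ((Scheme.Modules.restrictFunctor O.ι).map_isZero (EW.isZero_of_isStrictlyGE a i hi))
      · subst hi
        exact Approx.of_iso ((DerivedCategory.singleFunctor _ 0).mapIso
          ((Scheme.Modules.restrictFunctor O.ι).mapIso eb.symm))
          (approx_res (approx_inD_of_isFP hFP) O.ι |>.of_iso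
            (((Scheme.Modules.restrictFunctor O.ι).mapDerivedCategorySingleFunctor 0).app _))
      · exact (approx_inD_of_isFinLocFree (M2.isFinLocFree_restrict O.ι (hXi i hi))).mono_set (Set.subset_univ _)
    have h2 := relAll_of_flat_terms (f := O.ι ≫ g) E2 (max a p₁)
      (fun i hi => (Scheme.Modules.restrictFunctor O.ι).map_isZero (htop i hi)) hfl hfp m
    have eF : (resD (O.ι ≫ W.ι)).obj (DCoh.toD T F) ≅ DCoh.toD _ E2 :=
      ((resDComp W.ι O.ι).app _).symm ≪≫ (resD O.ι).mapIso ((resFac W.ι).app F ≪≫ e.symm) ≪≫ (resFac O.ι).app EW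
    have h3 := rel_res k (rel_of_iso eF.symm h2)
    have hk' : k ≫ O.ι ≫ g = V.ι ≫ q := by
      show k ≫ O.ι ≫ W.ι ≫ q = _
      rw [← Category.assoc O.ι W.ι q, ← Category.assoc, hkV]
    rw [hk'] at h3
    exact rel_of_iso ((resDComp (O.ι ≫ W.ι) k).app _ ≪≫ eqToIso (by simp only [hkV])) h3

end Groth.Agent.RelPCS8.PerfAt
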