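import Mathlib
import Groth.Agent.Lib.RelPCS8.PerfAt

set_option autoImplicit false
set_option backward.isDefEq.respectTransparency false
set_option linter.style.haveILetI false
universe u
open CategoryTheory CategoryTheory.Limits AlgebraicGeometry
attribute [local instance] HasDerivedCategory.standard

namespace Groth.Agent.RelPCS8.PerfAt

open DPerf

variable {X Y : Scheme.{u}}

theorem exactAt_of_stalk (f : X ⟶ Y) {F : CochainComplex X.Modules ℤ} {i : ℤ}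
    (h : ∀ x, ((DerSch.stalkCxOver f x).obj F).ExactAt i) : F.ExactAt i := by
  rw [HomologicalComplex.exactAt_iff, M1.exact_iff_stalk]
  intro x
  have h1 := h x
  rw [HomologicalComplex.exactAt_iff] at h1
  have h2 : ((F.sc i).map (DerSch.stalkFunctor X x)).Exact :=
    (ShortComplex.exact_map_iff_of_faithful _ (ModuleCat.restrictScalars.{u} (f.stalkMap x).hom)).1 h1
  exact (ShortComplex.exact_map_iff_of_faithful _
    (forget₂ (ModuleCat.{u} (X.presheaf.stalk x)) AddCommGrpCat.{u})).2 h2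

theorem isZero_HD_of_torAmplitude (f : X ⟶ Y) {F : CochainComplex X.Modules ℤ} {a b : ℤ}
    (h : DerSch.HasTorAmplitude f a b F) (i : ℤ) (hi : i < a ∨ b < i) : IsZero (DCoh.HD (DCoh.toD X F) i) :=
  (KFlat.Sch.isZero_HD_toD_iff F i).2 (exactAt_of_stalk f fun x =>
    (HomologicalComplex.exactAt_iff_isZero_homology _ _).2 (@ModuleCat.isZero_of_subsingleton _ _ _
      ((DMod.subsingleton_HD_toD_iff _ i).1 (TorBal.homology_of_amplitude (h x) i hi))))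

set_option maxHeartbeats 1000000 in
theorem perfAmplitudeRel_nhd_iff (f : X ⟶ Y) [LocallyOfFiniteType f] (F : CochainComplex X.Modules ℤ) (a b : ℤ) (x : X) :
    (∃ U : X.Opens, x ∈ U ∧ DerSch.HasPerfAmplitudeRel (U.ι ≫ f) a b ((DCoh.restrictCx U).obj F)) ↔
      ((∃ U : X.Opens, x ∈ U ∧
          DerSch.IsPseudoCoherentRel (U.ι ≫ f) (a - 1) (DCoh.toD (U : Scheme.{u}) ((DCoh.restrictCx U).obj F)) ∧
          ∀ i : ℤ, i < a ∨ b < i → IsZero (DCoh.HD (DCoh.toD (U : Scheme.{u}) ((DCoh.restrictCx U).obj F)) i)) ∧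
        DerSch.HasTorAmplitudeAt f a b F x) := by
  constructor
  · rintro ⟨U, hxU, hrel, hamp⟩
    exact ⟨⟨U, hxU, hrel _, fun i hi => isZero_HD_of_torAmplitude _ hamp i hi⟩,
      (RestrictStalk.torAmplitudeAt_restrict_iff f U ⟨x, hxU⟩ a b F).1 (hamp _)⟩
  rintro ⟨⟨U₀, hxU₀, hpc, hz⟩, hx⟩
  obtain ⟨_, ⟨V, hV, rfl⟩, hxV, -⟩ :=
    Y.isBasis_affineOpens.exists_subset_of_mem_open (Set.mem_univ (f x)) isOpen_univ
  obtain ⟨U₁, hU₁, hxU₁, hU₁le⟩ : ∃ U₁ : X.Opens, IsAffineOpen U₁ ∧ x ∈ U₁ ∧ U₁ ≤ U₀ ⊓ f ⁻¹ᵁ V :=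
    TopologicalSpace.Opens.isBasis_iff_nbhd.1 X.isBasis_affineOpens
      (show x ∈ U₀ ⊓ f ⁻¹ᵁ V from ⟨hxU₀, hxV⟩)
  have hU₁0 : U₁ ≤ U₀ := hU₁le.trans inf_le_left
  have hle : U₁ ≤ f ⁻¹ᵁ V := hU₁le.trans inf_le_right
  obtain ⟨n, φ, hφ⟩ := exists_chart_of_lft (f := f) hU₁ hV hle
  let i := imm U₁ φ
  haveI : IsClosedImmersion i := isClosedImmersion_imm hU₁ φ hφ.1
  let c : CommRingCat.of Γ(Y, V) ⟶ CommRingCat.of (MvPolynomial (Fin n) Γ(Y, V)) := CommRingCat.ofHom MvPolynomial.C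
  let q : Spec (CommRingCat.of (MvPolynomial (Fin n) Γ(Y, V))) ⟶ Y := Spec.map c ≫ hV.fromSpec
  haveI : Flat (Spec.map c) := by
    rw [HasRingHomProperty.Spec_iff (P := @Flat)]
    exact RingHom.flat_algebraMap_iff.2 (inferInstance : Module.Flat Γ(Y, V) (MvPolynomial (Fin n) Γ(Y, V)))
  haveI : LocallyOfFinitePresentation (Spec.map c) := by
    rw [HasRingHomProperty.Spec_iff (P := @LocallyOfFinitePresentation)]
    exact RingHom.finitePresentation_algebraMap.2 inferInstance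
  haveI : Flat q := inferInstance
  haveI : LocallyOfFinitePresentation q := inferInstance
  have hiq : i ≫ q = U₁.ι ≫ f := by
    show (U₁.toSpecΓ ≫ Spec.map (CommRingCat.ofHom φ)) ≫ Spec.map c ≫ hV.fromSpec = _
    rw [Category.assoc, ← Spec.map_comp_assoc]
    have hc : c ≫ CommRingCat.ofHom φ = f.appLE V U₁ hle := CommRingCat.hom_ext hφ.2
    rw [hc, IsAffineOpen.SpecMap_appLE_fromSpec f hV hU₁ hle, ← Category.assoc, IsAffineOpen.toSpecΓ_fromSpec]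
  let F₁ := (DCoh.restrictCx U₁).obj F
  let j := X.homOfLE hU₁0
  let e₁ : DCoh.toD (U₁ : Scheme.{u}) F₁ ≅ (resD j).obj (DCoh.toD (U₀ : Scheme.{u}) ((DCoh.restrictCx U₀).obj F)) :=
    ((resFac U₁.ι).app F).symm ≪≫ (resDCongr (X.homOfLE_ι hU₁0).symm).app _ ≪≫
      ((resDComp U₀.ι j).app _).symm ≪≫ (resD j).mapIso ((resFac U₀.ι).app F)
  have hpc₁ : DerSch.IsPseudoCoherentRel (i ≫ q) (a - 1) (DCoh.toD (U₁ : Scheme.{u}) F₁) := by
    have h := rel_res j hpc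
    rw [← Category.assoc, X.homOfLE_ι hU₁0] at h
    rw [hiq]
    exact rel_of_iso e₁.symm h
  have hz₁ : ∀ k : ℤ, k < a ∨ b < k → IsZero (DCoh.HD (DCoh.toD (U₁ : Scheme.{u}) F₁) k) := fun k hk =>
    (KFlat.Sch.isZero_HD_iff_of_iso e₁ k).2
      (((Scheme.Modules.restrictFunctor j).map_isZero (hz k hk)).of_iso (hdResIso j _ k))
  let E₀ := ((Scheme.Modules.pushforward i).mapHomologicalComplex (ComplexShape.up ℤ)).obj F₁
  let e₀ : (pushD i).obj (DCoh.toD (U₁ : Scheme.{u}) F₁) ≅ DCoh.toD _ E₀ := (pushFac i).app F₁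
  have hz₀ : ∀ k : ℤ, k < a ∨ b < k → IsZero (DCoh.HD (DCoh.toD _ E₀) k) := fun k hk =>
    (KFlat.Sch.isZero_HD_iff_of_iso e₀ k).1 ((isZero_HD_push_iff i _ k).2 (hz₁ k hk))
  haveI : (DCoh.toD _ E₀).IsGE a := (DerivedCategory.isGE_iff _ a).2 fun k hk => hz₀ k (Or.inl hk)
  haveI : (DCoh.toD _ E₀).IsLE b := (DerivedCategory.isLE_iff _ b).2 fun k hk => hz₀ k (Or.inr hk)
  have hpc₀ : Approx (Set.Ici (a - 1)) (DCoh.toD _ E₀) :=
    approx_of_isPseudoCoherentD ((rel_iff_pc (fun m => nPseudoCoherent_of_flat m) (a - 1) _).1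
      (rel_of_iso e₀ ((rel_closed_iff (i := i) (q := q) (a - 1) _).1 hpc₁)))
  let z : (U₁ : Scheme.{u}) := ⟨x, hxU₁⟩
  have hx₀ : DerSch.HasTorAmplitudeAt q a b E₀ (i.base z) := by
    refine (LocPerf.torAmplitudeAt_push_iff i q z a b F₁).2 ?_
    rw [hiq]
    exact (RestrictStalk.torAmplitudeAt_restrict_iff f U₁ z a b F).2 hx
  obtain ⟨V₂, hzV₂, hamp₂, hrel₂⟩ := exists_nhd_of_at q E₀ a b hpc₀ (i.base z) hx₀
  let j₁ := (i ⁻¹ᵁ V₂).ι ≫ U₁.ι
  obtain ⟨U, k, hk, hxU, hkU⟩ := DPerf.exists_opens j₁ (x := x) ⟨⟨z, hzV₂⟩, rfl⟩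
  refine ⟨U, hxU, fun m => ?_, fun u => ?_⟩
  · have h := rel_of_iso ((resD V₂.ι).mapIso e₀.symm ≪≫
      (pushBC (isPullback_open i V₂)).app _) (hrel₂ m)
    have h' := (rel_closed_iff (i := i ∣_ V₂) (q := V₂.ι ≫ q) m _).2 h
    have h'' := rel_res k h'
    have hk' : k ≫ (i ∣_ V₂) ≫ V₂.ι ≫ q = U.ι ≫ f := by
      rw [← Category.assoc (i ∣_ V₂), morphismRestrict_ι, Category.assoc, hiq, ← hkU]
      simp [j₁]
    rw [hk'] at h''
    exact rel_of_iso ((resDComp (i ⁻¹ᵁ V₂).ι k).app _ ≪≫ (resD _).mapIso ((resFac U₁.ι).app F).symm ≪≫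
      (resDComp U₁.ι _).app _ ≪≫ (resDCongr (show (k ≫ (i ⁻¹ᵁ V₂).ι) ≫ U₁.ι = U.ι by
        rw [Category.assoc]; exact hkU)).app _ ≪≫ (resFac U.ι).app F) h''
  · refine (RestrictStalk.torAmplitudeAt_restrict_iff f U u a b F).2 ?_
    let w := (i ⁻¹ᵁ V₂).ι (k u)
    have hw : U₁.ι w = U.ι u := by
      show (k ≫ j₁) u = _
      rw [hkU]
    have h := hamp₂ (i.base w) (k u).2
    have h2 := (LocPerf.torAmplitudeAt_push_iff i q w a b F₁).1 h
    rw [hiq] at h2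
    have h3 := (RestrictStalk.torAmplitudeAt_restrict_iff f U₁ w a b F).1 h2
    rwa [hw] at h3

end Groth.Agent.RelPCS8.PerfAt
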