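import Mathlib
import Groth.Agent.Lib.RelPCS8.FlatTilde
import Groth.Agent.Lib.RelPCS8.SmoothAmp
import Groth.Agent.Lib.RelPCS8.PerfPC
import Groth.Agent.Lib.RelPCS8.PerfAtIff
import Groth.Agent.Lib.DPush9.Tilde
import Groth.Agent.Lib.SiteCmp16.WayOut
import Groth.Agent.Lib.DPerf.RelAmp

/-!
# Tor amplitude of direct images along morphisms of affine schemes
-/

set_option autoImplicit false
set_option backward.isDefEq.respectTransparency false
set_option linter.style.haveILetI false
universe u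
open CategoryTheory CategoryTheory.Limits AlgebraicGeometry
attribute [local instance] HasDerivedCategory.standard

namespace Groth.Agent.RelPCS8.TorPush


theorem torAmp_of_iso {X S : Scheme.{u}} (f : X ⟶ S) {F G : CochainComplex X.Modules ℤ} {a b : ℤ}
    (e : DCoh.toD X F ≅ DCoh.toD X G) (h : DerSch.HasTorAmplitude f a b F) : DerSch.HasTorAmplitude f a b G := fun x => by
  haveI := (StalkId.preservesFiniteLimits_stalkOver f x).1
  haveI := (StalkId.preservesFiniteLimits_stalkOver f x).2
  exact StalkTor.hasTorAmplitudeIn_congr (StalkId.stalkToDIso x f e) (h x)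

/-- `tilde` transports isomorphisms in the derived category. -/
noncomputable def tildeToDIso {R : CommRingCat.{u}} {K L : DRing.Cx R} (e : DRing.toD K ≅ DRing.toD L) :
    DCoh.toD (Spec R) ((DPerf.tildeX R).obj K) ≅ DCoh.toD (Spec R) ((DPerf.tildeX R).obj L) :=
  ((tilde.functor R).mapDerivedCategoryFactors.app K).symm ≪≫ (DPerf.tildeDD R).mapIso e ≪≫
    (tilde.functor R).mapDerivedCategoryFactors.app L

theorem exists_flat_model {R B : CommRingCat.{u}} (g : R ⟶ B) (hg : g.hom.Flat) (M : DRing.Cx B) {a b d : ℤ}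
    [(DRing.toD M).IsLE d] (h : DerSch.HasTorAmplitude (Spec.map g) a b ((DPerf.tildeX B).obj M)) :
    ∃ (T : DRing.Cx B) (d' : ℤ), DRing.VanishesOutside T a d' ∧ Nonempty (DRing.toD T ≅ DRing.toD M) ∧
      ∀ i, Module.Flat R ((ModuleCat.restrictScalars.{u} g.hom).obj (T.X i)) := by
  haveI : Flat (Spec.map g) := (HasRingHomProperty.Spec_iff (P := @Flat)).2 hg
  haveI : (DRing.toD M).IsLE (max a d) := (DerivedCategory.isLE_iff _ _).2 fun i hi =>
    DerivedCategory.isZero_of_isLE (DRing.toD M) d i (lt_of_le_of_lt (le_max_right a d) hi)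
  obtain ⟨P₀, hP₀, hfree, ⟨e₀⟩⟩ := DMod.exists_free_resolution (DRing.toD M) (max a d)
  have h2 : DerSch.HasTorAmplitude (Spec.map g) a b ((DPerf.tildeX B).obj P₀) :=
    torAmp_of_iso _ (tildeToDIso e₀.symm) h
  haveI : (DRing.toD P₀).IsGE a := (DerivedCategory.isGE_iff _ a).2 fun i hi =>
    DPerf.isZero_of_tilde ((PerfAt.isZero_HD_of_torAmplitude _ h2 i (Or.inl hi)).of_iso
      ((DPerf.hdTildeIso (DRing.toD P₀) i).symm ≪≫ (DerivedCategory.homologyFunctor _ i).mapIso
        ((tilde.functor B).mapDerivedCategoryFactors.app P₀)))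
  obtain ⟨e'⟩ := DMod.exists_truncFrom_iso P₀ a
  let T := DMod.truncFrom P₀ a
  have hv : DRing.VanishesOutside T a (max a d) := DMod.vanishesOutside_truncFrom P₀ a (max a d)
  have h3 : DerSch.HasTorAmplitude (Spec.map g) a b ((DPerf.tildeX B).obj T) :=
    torAmp_of_iso _ (tildeToDIso e'.symm) h2
  have habove : ∀ i, a < i → FlatMod.IsFlatOver (Spec.map g) ((tilde.functor B).obj (T.X i)) := fun i hi => by
    haveI := hfree i
    haveI : Module.Flat B (T.X i) := Module.Flat.of_linearEquiv (DMod.truncFromXEquiv P₀ hi).symm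
    exact DPerf.isFlatOver_of_isFlat _ DPerf.isFlat_tilde
  refine ⟨T, max a d, hv, ⟨e' ≪≫ e₀⟩, fun i => ?_⟩
  rcases lt_trichotomy i a with hi | hi | hi
  · haveI := ModuleCat.subsingleton_of_isZero ((ModuleCat.restrictScalars.{u} g.hom).map_isZero (hv i (Or.inl hi)))
    exact inferInstance
  · subst hi
    refine (FlatTilde.isFlatOver_iff g _).1 fun x => ?_
    let G := (DerSch.stalkCxOver (Spec.map g) x).obj ((DPerf.tildeX B).obj T)
    have hz : ∀ j, j < i ∨ max i d < j → IsZero (G.X j) := fun j hj =>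
      (DerSch.stalkOver (Spec.map g) x).map_isZero ((tilde.functor B).map_isZero (hv j hj))
    haveI : G.IsStrictlyGE i := (CochainComplex.isStrictlyGE_iff _ _).2 fun j hj => hz j (Or.inl hj)
    haveI : G.IsStrictlyLE (max i d) := (CochainComplex.isStrictlyLE_iff _ _).2 fun j hj => hz j (Or.inr hj)
    exact PerfPC.flat_bottom G (a := i) (B := max i d) (fun j hj => habove j hj x) le_rfl (h3 x)
  · exact (FlatTilde.isFlatOver_iff g _).1 (habove i hi)

/-- Tor amplitude over the base of a flat-termed tilde complex. -/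
theorem torAmp_tilde_of_flat {R C : CommRingCat.{u}} (g : R ⟶ C) (T : DRing.Cx C) {a b : ℤ}
    (hv : DRing.VanishesOutside T a b) (h : ∀ i, Module.Flat R ((ModuleCat.restrictScalars.{u} g.hom).obj (T.X i))) :
    DerSch.HasTorAmplitude (Spec.map g) a b ((DPerf.tildeX C).obj T) :=
  hasTorAmplitude_of_flat_terms _ a b (fun i hi => (tilde.functor C).map_isZero (hv i hi))
    fun i => (FlatTilde.isFlatOver_iff g _).2 (h i)

/-- Direct image along a morphism of affine schemes keeps the lower bound of the tor amplitude over the base. -/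
theorem torAmp_affine {R C B : CommRingCat.{u}} (σ : R ⟶ C) (φ : C ⟶ B) (M : DRing.Cx B) {a b d : ℤ}
    [(DRing.toD M).IsLE d] (h : DerSch.HasTorAmplitude (Spec.map φ ≫ Spec.map σ) a b ((DPerf.tildeX B).obj M)) :
    ∃ b' : ℤ, DerSch.HasTorAmplitude (Spec.map σ) a b'
      ((DPerf.tildeX C).obj (((ModuleCat.restrictScalars.{u} φ.hom).mapHomologicalComplex (ComplexShape.up ℤ)).obj M)) := by
  let C' := CommRingCat.of (MvPolynomial C R)
  let B' := CommRingCat.of (MvPolynomial (C ⊕ B) R)
  let πC : C' ⟶ C := CommRingCat.ofHom (MvPolynomial.eval₂Hom σ.hom id)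
  let πB : B' ⟶ B := CommRingCat.ofHom (MvPolynomial.eval₂Hom (φ.hom.comp σ.hom) (Sum.elim φ.hom id))
  let ι : C' ⟶ B' := CommRingCat.ofHom (MvPolynomial.rename Sum.inl).toRingHom
  let gC : R ⟶ C' := CommRingCat.ofHom MvPolynomial.C
  let gB : R ⟶ B' := CommRingCat.ofHom MvPolynomial.C
  have hc : ι ≫ πB = πC ≫ φ := by
    refine CommRingCat.hom_ext (MvPolynomial.ringHom_ext (fun r => ?_) fun i => ?_)
    · simp [ι, πB, πC, C', B']
    · simp [ι, πB, πC, C', B']
  have hC : gC ≫ πC = σ := by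
    ext r; simp [gC, πC, C']
  have hB : gB ≫ πB = σ ≫ φ := by
    ext r; simp [gB, πB, B']
  have hgι : gC ≫ ι = gB := by
    ext r; simp [gC, gB, ι, C', B']
  haveI : IsClosedImmersion (Spec.map πC) :=
    IsClosedImmersion.spec_of_surjective _ fun c => ⟨MvPolynomial.X c, by simp [πC, C']⟩
  haveI : IsClosedImmersion (Spec.map πB) :=
    IsClosedImmersion.spec_of_surjective _ fun c => ⟨MvPolynomial.X (Sum.inr c), by simp [πB, B']⟩
  haveI : DCoh.HasRpush (Spec.map πB) :=
    KInjLib.hasRightDerivedFunctor (A := (Spec B).Modules) KInjLib.enoughKInj_of_grothendieck _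
  haveI : DCoh.HasRpush (Spec.map πC) :=
    KInjLib.hasRightDerivedFunctor (A := (Spec C).Modules) KInjLib.enoughKInj_of_grothendieck _
  have h' : DerSch.HasTorAmplitude (Spec.map πB ≫ Spec.map gB) a b ((DPerf.tildeX B).obj M) := by
    rwa [← Spec.map_comp, hB, Spec.map_comp]
  let M' := ((ModuleCat.restrictScalars.{u} πB.hom).mapHomologicalComplex (ComplexShape.up ℤ)).obj M
  have h1 : DerSch.HasTorAmplitude (Spec.map gB) a b ((DPerf.tildeX B').obj M') :=
    torAmp_of_iso _ (DerivedCategory.Q.mapIso ((DPush9.tildePushXIso πB).app M))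
      (SmoothAmp.hasTorAmplitude_push_of_comp (Spec.map πB) (Spec.map gB) h')
  let r := ModuleCat.restrictScalars.{u} πB.hom
  haveI : (DRing.toD M').IsLE d := by
    haveI : ((DerivedCategory.Q ⋙ (ModuleCat.restrictScalars.{u} πB.hom).mapDerivedCategory).obj M).IsLE d :=
      WayOut.isLE_mapDerivedCategory (ModuleCat.restrictScalars.{u} πB.hom) (DRing.toD M) d
    exact DMod.exists_iso_of_isLE _ d ((ModuleCat.restrictScalars.{u} πB.hom).mapDerivedCategoryFactors.app M)
  obtain ⟨T, d', hv, ⟨eT⟩, hflat⟩ := exists_flat_model (d := d) gB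
    ((RingHom.flat_algebraMap_iff (R := R) (S := MvPolynomial (C ⊕ B) R)).2 inferInstance) M' h1
  refine ⟨d', ?_⟩
  let T' := ((ModuleCat.restrictScalars.{u} ι.hom).mapHomologicalComplex (ComplexShape.up ℤ)).obj T
  have h4 : DerSch.HasTorAmplitude (Spec.map gC) a d' ((DPerf.tildeX C').obj T') := by
    refine torAmp_tilde_of_flat gC T' (fun i hi => (ModuleCat.restrictScalars.{u} ι.hom).map_isZero (hv i hi)) fun i => ?_
    haveI := hflat i
    exact Module.Flat.of_linearEquiv ((ModuleCat.restrictScalarsComp' gC.hom ι.hom gB.hom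
      (by rw [← hgι]; rfl)).app (T.X i)).toLinearEquiv.symm
  let N := ((ModuleCat.restrictScalars.{u} φ.hom).mapHomologicalComplex (ComplexShape.up ℤ)).obj M
  let eN : DRing.toD T' ≅ DRing.toD (((ModuleCat.restrictScalars.{u} πC.hom).mapHomologicalComplex (ComplexShape.up ℤ)).obj N) :=
    ((ModuleCat.restrictScalars.{u} ι.hom).mapDerivedCategoryFactors.app T).symm ≪≫
      (DRing.restrictD ι.hom).mapIso eT ≪≫
      (ModuleCat.restrictScalars.{u} ι.hom).mapDerivedCategoryFactors.app M' ≪≫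
      DerivedCategory.Q.mapIso ((NatIso.mapHomologicalComplex
        ((ModuleCat.restrictScalarsComp' ι.hom πB.hom (ι ≫ πB).hom rfl).symm ≪≫
          ModuleCat.restrictScalarsComp' πC.hom φ.hom (ι ≫ πB).hom (by rw [hc]; rfl)) (ComplexShape.up ℤ)).app M)
  have h5 := torAmp_of_iso _ (tildeToDIso eN ≪≫ (DerivedCategory.Q.mapIso ((DPush9.tildePushXIso πC).app N)).symm) h4
  have h6 := ClosedPerf.hasTorAmplitude_comp_of_push (i := Spec.map πC) (Spec.map gC) h5
  rwa [← Spec.map_comp, hC] at h6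

end Groth.Agent.RelPCS8.TorPush
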