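import Mathlib
import Groth.Agent.Lib.RelPCS8.TorPush
import Groth.Agent.Lib.DMV.Restrict
import Groth.Agent.Lib.DBC9.Affine
import Groth.Agent.Lib.DPush.Comp
import Groth.Agent.Lib.RelPCS8.Noeth

/-!
# Tor amplitude over a base of derived direct images, by Mayer-Vietoris
-/

set_option autoImplicit false
set_option backward.isDefEq.respectTransparency false
set_option linter.style.haveILetI false
universe u
open CategoryTheory CategoryTheory.Limits AlgebraicGeometry Pretriangulated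
attribute [local instance] HasDerivedCategory.standard

namespace Groth.Agent.RelPCS8.TorMV

variable {X Y Z S S' : Scheme.{u}}

instance preservesFiniteLimits_st (q : Y ⟶ S) (y : Y) : PreservesFiniteLimits (DerSch.stalkOver q y) :=
  (StalkId.preservesFiniteLimits_stalkOver q y).1

instance preservesFiniteColimits_st (q : Y ⟶ S) (y : Y) : PreservesFiniteColimits (DerSch.stalkOver q y) :=
  (StalkId.preservesFiniteLimits_stalkOver q y).2

/-- The derived stalk over the base. -/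
noncomputable abbrev St (q : Y ⟶ S) (y : Y) : DCoh.D Y ⥤ Dual.D (S.presheaf.stalk (q.base y)) :=
  (DerSch.stalkOver q y).mapDerivedCategory

/-- Tor amplitude over the base, stalkwise, of an object of the derived category. -/
def TA (q : Y ⟶ S) (a b : ℤ) (K : DCoh.D Y) : Prop :=
  ∀ y : Y, DRing.HasTorAmplitudeIn (S.presheaf.stalk (q.base y)) a b ((St q y).obj K)

theorem ta_toD_iff (q : Y ⟶ S) (a b : ℤ) (F : CochainComplex Y.Modules ℤ) :
    TA q a b (DCoh.toD Y F) ↔ DerSch.HasTorAmplitude q a b F :=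
  ⟨fun h y => StalkTor.hasTorAmplitudeIn_congr ((DerSch.stalkOver q y).mapDerivedCategoryFactors.app F) (h y),
    fun h y => StalkTor.hasTorAmplitudeIn_congr ((DerSch.stalkOver q y).mapDerivedCategoryFactors.app F).symm (h y)⟩

theorem ta_iso (q : Y ⟶ S) {a b : ℤ} {K L : DCoh.D Y} (e : K ≅ L) (h : TA q a b K) : TA q a b L :=
  fun y => StalkTor.hasTorAmplitudeIn_congr ((St q y).mapIso e) (h y)

theorem ta_mono (q : Y ⟶ S) {a b a' b' : ℤ} {K : DCoh.D Y} (ha : a' ≤ a) (hb : b ≤ b') (h : TA q a b K) :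
    TA q a' b' K := fun y => DBaseChange.hasTorAmplitudeIn_mono ha hb (h y)

theorem hasTorAmplitudeD_of_ta (q : Y ⟶ S) {a b : ℤ} {K : DCoh.D Y} (h : TA q a b K) :
    DerSch.HasTorAmplitudeD q a b K := fun F ⟨e⟩ => (ta_toD_iff q a b F).1 (ta_iso q e.symm h)

theorem ta_triangle₁ (q : Y ⟶ S) {a B : ℤ} (T : Triangle (DCoh.D Y)) (hT : T ∈ distTriang (DCoh.D Y))
    (h₂ : TA q a B T.obj₂) (h₃ : TA q a B T.obj₃) : TA q a (B + 1) T.obj₁ := fun y => by
  have h := DBaseChange.torAmp_triangle₁ (a - 1) B ((St q y).mapTriangle.obj T) ((St q y).map_distinguished T hT)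
    (DBaseChange.hasTorAmplitudeIn_mono (by omega) (by omega) (h₂ y))
    (DBaseChange.hasTorAmplitudeIn_mono (by omega) (by omega) (h₃ y))
  simpa using h

theorem ta_biprod (q : Y ⟶ S) {a b : ℤ} (K L : DCoh.D Y) [HasBinaryBiproduct K L] (h₁ : TA q a b K)
    (h₂ : TA q a b L) : TA q a b (K ⊞ L) := fun y =>
  DBaseChange.torAmp_triangle₂ a b ((St q y).mapTriangle.obj (binaryBiproductTriangle K L))
    ((St q y).map_distinguished _ (binaryBiproductTriangle_distinguished K L)) (h₁ y) (h₂ y)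

theorem flat_restrict_of_bijective {A B : Type u} [CommRing A] [CommRing B] (ψ : A →+* B)
    (hψ : Function.Bijective ψ) (M : ModuleCat.{u} B) [Module.Flat B M] :
    Module.Flat A ((ModuleCat.restrictScalars.{u} ψ).obj M) := by
  letI := ψ.toAlgebra
  haveI : Module.Flat A B := RingHom.Flat.of_bijective hψ
  letI : Module A M := Module.compHom M ψ
  haveI : IsScalarTower A B M := IsScalarTower.of_algebraMap_smul fun _ _ => rfl
  exact Module.Flat.trans A B M

/-- A base change by a morphism bijective on stalks does not affect the amplitude. -/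
theorem torAmplitudeAt_comp_iff (f : X ⟶ Y) (j : Y ⟶ Z) (x : X)
    (hj : Function.Bijective (j.stalkMap (f.base x)).hom) (a b : ℤ) (F : CochainComplex X.Modules ℤ) :
    DerSch.HasTorAmplitudeAt (f ≫ j) a b F x ↔ DerSch.HasTorAmplitudeAt f a b F x := by
  let φ := (j.stalkMap (f.base x)).hom
  let ψ := (RingEquiv.ofBijective φ hj).symm.toRingHom
  have hψ : φ.comp ψ = RingHom.id _ := RingHom.ext fun z => (RingEquiv.ofBijective φ hj).apply_symm_apply z
  let eC := StalkTor.stalkCxCompIso f j x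
  have key : ∀ {A B : Type u} [CommRing A] [CommRing B] (θ : A →+* B), Function.Bijective θ →
      ∀ (G : DRing.Cx B), DRing.HasTorAmplitudeIn B a b (DRing.toD G) →
      DRing.HasTorAmplitudeIn A a b
        (DRing.toD (((ModuleCat.restrictScalars.{u} θ).mapHomologicalComplex (ComplexShape.up ℤ)).obj G)) := by
    intro A B _ _ θ hθ G hG
    obtain ⟨E, hv, hf, ⟨e⟩⟩ := hG
    refine ⟨((ModuleCat.restrictScalars.{u} θ).mapHomologicalComplex (ComplexShape.up ℤ)).obj E,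
      fun i hi => (ModuleCat.restrictScalars.{u} θ).map_isZero (hv i hi), fun i => ?_,
      ⟨((ModuleCat.restrictScalars.{u} θ).mapDerivedCategoryFactors.app E).symm ≪≫ (DRing.restrictD θ).mapIso e ≪≫
        (ModuleCat.restrictScalars.{u} θ).mapDerivedCategoryFactors.app G⟩⟩
    haveI := hf i
    exact flat_restrict_of_bijective θ hθ (E.X i)
  refine ⟨fun h => ?_, fun h => ?_⟩
  · refine StalkTor.hasTorAmplitudeIn_congr ?_ (key ψ (RingEquiv.ofBijective φ hj).symm.bijective _ h)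
    exact DerivedCategory.Q.mapIso (((ModuleCat.restrictScalars.{u} ψ).mapHomologicalComplex (ComplexShape.up ℤ)).mapIso
      (eC.app F) ≪≫ (NatIso.mapHomologicalComplex
        ((ModuleCat.restrictScalarsComp' ψ φ (RingHom.id _) hψ.symm).symm ≪≫ ModuleCat.restrictScalarsId' _ rfl)
        (ComplexShape.up ℤ)).app ((DerSch.stalkCxOver f x).obj F) ≪≫
      (Functor.mapHomologicalComplexIdIso _ _).app _)
  · exact StalkTor.hasTorAmplitudeIn_congr (DerivedCategory.Q.mapIso (eC.app F).symm) (key φ hj _ h)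

theorem bijective_stalkMap (j : Y ⟶ Z) [IsOpenImmersion j] (y : Y) : Function.Bijective (j.stalkMap y).hom :=
  ConcreteCategory.bijective_of_isIso (j.stalkMap y)

theorem ta_comp_openImmersion_iff (f : X ⟶ Y) (j : Y ⟶ Z) [IsOpenImmersion j] (a b : ℤ) (K : DCoh.D X) :
    TA (f ≫ j) a b K ↔ TA f a b K := by
  obtain ⟨I, hI, ⟨e⟩⟩ := KInjLib.exists_iso_kInjective K
  constructor <;> intro h <;> refine ta_iso _ e.symm ((ta_toD_iff _ a b I).2 fun x => ?_)
  · exact (torAmplitudeAt_comp_iff f j x (bijective_stalkMap j _) a b I).1 ((ta_toD_iff _ a b I).1 (ta_iso _ e h) x)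
  · exact (torAmplitudeAt_comp_iff f j x (bijective_stalkMap j _) a b I).2 ((ta_toD_iff _ a b I).1 (ta_iso _ e h) x)

noncomputable def rsEquiv {T : Scheme.{u}} (k : T ⟶ X) [IsOpenImmersion k] (F : X.Modules) (z : T) :
    (F.restrict k).presheaf.stalk z ≃+ F.presheaf.stalk (k.base z) :=
  ((Scheme.Modules.restrictStalkNatIso k z).app F).addCommGroupIsoToAddEquiv

theorem rsEquiv_smul {T : Scheme.{u}} (k : T ⟶ X) [IsOpenImmersion k] (F : X.Modules) (z : T)
    (r : X.presheaf.stalk (k.base z)) (v : (F.restrict k).presheaf.stalk z) :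
    rsEquiv k F z ((k.stalkMap z).hom r • v) = r • rsEquiv k F z v := by
  obtain ⟨W, hW, r, rfl⟩ := X.presheaf.exists_germ_eq r
  obtain ⟨W', hW', m, rfl⟩ := (F.restrict k).presheaf.exists_germ_eq v
  let V := k ⁻¹ᵁ W ⊓ W'
  have hV : z ∈ V := ⟨hW, hW'⟩
  have hkV : k ''ᵁ V ≤ W := by
    rintro _ ⟨w, hw, rfl⟩
    exact hw.1
  have key : ∀ (t : Γ(F.restrict k, V)), rsEquiv k F z ((F.restrict k).presheaf.germ V z hV t) =
      F.presheaf.germ (k ''ᵁ V) (k.base z) ⟨z, hV, rfl⟩ ((F.restrictAppIso k V).hom t) := fun t =>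
    ConcreteCategory.congr_hom (Scheme.Modules.germ_restrictStalkNatIso_hom_app k z F hV) t
  have hk : (k.stalkMap z).hom (X.presheaf.germ W (k.base z) hW r) = T.presheaf.germ V z hV (k.appLE W V inf_le_left r) := by
    erw [Scheme.Hom.germ_stalkMap_apply]
    exact (T.presheaf.germ_res_apply (homOfLE (inf_le_left : V ≤ k ⁻¹ᵁ W)) z hV _).symm
  rw [hk, ← TopCat.Presheaf.germ_res_apply (F.restrict k).presheaf (homOfLE (inf_le_right : V ≤ W')) z hV m,
    ← M1.germ_smul, key, key, ← TopCat.Presheaf.germ_res_apply X.presheaf (homOfLE hkV) (k.base z) ⟨z, hV, rfl⟩ r,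
    ← M1.germ_smul]
  congr 1
  have h2 : (k.appIso V).inv (k.appLE W V inf_le_left r) = X.presheaf.map (homOfLE hkV).op r :=
    ConcreteCategory.congr_hom (Scheme.Hom.appLE_appIso_inv (f := k) (inf_le_left : V ≤ k ⁻¹ᵁ W)) r
  exact congrArg (fun c : Γ(X, k ''ᵁ V) => c • (F.restrictAppIso k V).hom _) h2

/-- Stalks of a restriction along an open immersion, over the stalks of the target. -/
noncomputable def rsOverIso {T : Scheme.{u}} (k : T ⟶ X) [IsOpenImmersion k] (z : T) :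
    Scheme.Modules.restrictFunctor k ⋙ DerSch.stalkOver k z ≅ DerSch.stalkFunctor X (k.base z) :=
  NatIso.ofComponents
    (fun F => LinearEquiv.toModuleIso
      (({ rsEquiv k F z with map_smul' := fun r v => rsEquiv_smul k F z r v } :
        ((DerSch.stalkOver k z).obj (F.restrict k)) ≃ₗ[X.presheaf.stalk (k.base z)]
          ((DerSch.stalkFunctor X (k.base z)).obj F))))
    fun {F G} φ => ModuleCat.hom_ext (LinearMap.ext fun a =>
      ConcreteCategory.congr_hom ((Scheme.Modules.restrictStalkNatIso k z).hom.naturality φ) a)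

/-- Restriction to an open. -/
theorem ta_resD (p : X ⟶ S) {T : Scheme.{u}} (k : T ⟶ X) [IsOpenImmersion k] {a b : ℤ} {K : DCoh.D X}
    (h : TA p a b K) : TA (k ≫ p) a b ((DPerf.resD k).obj K) := by
  obtain ⟨I, hI, ⟨e⟩⟩ := KInjLib.exists_iso_kInjective K
  refine ta_iso _ (((DPerf.resFac k).app I).symm ≪≫ (DPerf.resD k).mapIso e.symm) ?_
  refine (ta_toD_iff _ a b _).2 fun z => ?_
  let r := ModuleCat.restrictScalars.{u} (p.stalkMap (k.base z)).hom
  have i : (DerSch.stalkCxOver (k ≫ p) z).obj ((DPerf.resX k).obj I) ≅ (DerSch.stalkCxOver p (k.base z)).obj I :=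
    (NatIso.mapHomologicalComplex (Functor.isoWhiskerLeft (Scheme.Modules.restrictFunctor k) (StalkTor.stalkCompIso k p z) ≪≫
      (Functor.associator _ _ r).symm ≪≫ Functor.isoWhiskerRight (rsOverIso k z) r) (ComplexShape.up ℤ)).app I
  exact StalkTor.hasTorAmplitudeIn_congr (DerivedCategory.Q.mapIso i).symm
    ((ta_toD_iff _ a b I).1 (ta_iso _ e h) (k.base z))

/-- The affine case on spectra. -/
theorem ta_rpush_spec {R C B : CommRingCat.{u}} (σ : R ⟶ C) (φ : C ⟶ B) [DCoh.HasRpush (Spec.map φ)] {a b d : ℤ}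
    (L : DCoh.D (Spec B)) (hq : DCoh.IsQCohD L) [L.IsLE d] (h : TA (Spec.map φ ≫ Spec.map σ) a b L) :
    ∃ b', TA (Spec.map σ) a b' ((DCoh.Rpush (Spec.map φ)).obj L) := by
  obtain ⟨M, ⟨e⟩⟩ := DQC.exists_iso_of_isQCohD L hq
  let Mc := (DerivedCategory.Q (C := ModuleCat.{u} B)).objPreimage M
  let eM : DRing.toD Mc ≅ M := (DerivedCategory.Q (C := ModuleCat.{u} B)).objObjPreimageIso M
  let eL : DCoh.toD (Spec B) ((DPerf.tildeX B).obj Mc) ≅ L :=
    ((tilde.functor B).mapDerivedCategoryFactors.app Mc).symm ≪≫ (DPerf.tildeDD B).mapIso eM ≪≫ e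
  haveI : (DRing.toD Mc).IsLE d := (DerivedCategory.isLE_iff _ d).2 fun i hi =>
    DPerf.isZero_of_tilde ((DerivedCategory.isZero_of_isLE L d i hi).of_iso
      ((DPerf.hdTildeIso (DRing.toD Mc) i).symm ≪≫ (DerivedCategory.homologyFunctor _ i).mapIso
        ((DPerf.tildeDD B).mapIso eM ≪≫ e)))
  obtain ⟨b', hb'⟩ := TorPush.torAmp_affine σ φ Mc (d := d) ((ta_toD_iff _ a b _).1 (ta_iso _ eL.symm h))
  exact ⟨b', ta_iso _ (((DPush9.tildeXRpushIso φ).app Mc).symm ≪≫ (DCoh.Rpush (Spec.map φ)).mapIso eL)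
    ((ta_toD_iff _ a b' _).2 hb')⟩

theorem ta_push_iso (e : X ≅ Y) (q : Y ⟶ S) [DCoh.HasRpush e.hom] {a b : ℤ} {K : DCoh.D X}
    (h : TA (e.hom ≫ q) a b K) : TA q a b ((DCoh.Rpush e.hom).obj K) := by
  obtain ⟨I, hI, ⟨ei⟩⟩ := KInjLib.exists_iso_kInjective K
  obtain ⟨eR⟩ := RHom.nonempty_rpushIso e.hom
  exact ta_iso _ (((Scheme.Modules.pushforward e.hom).mapDerivedCategoryFactors.app I).symm ≪≫
      (eR.app _).symm ≪≫ (DCoh.Rpush e.hom).mapIso ei.symm)
    ((ta_toD_iff q a b _).2 (SmoothAmp.hasTorAmplitude_push_of_comp e.hom q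
      ((ta_toD_iff _ a b I).1 (ta_iso _ ei h))))

theorem isQCohD_rpush_iso (e : X ≅ Y) [DCoh.HasRpush e.hom] {K : DCoh.D X} (h : DCoh.IsQCohD K) :
    DCoh.IsQCohD ((DCoh.Rpush e.hom).obj K) := fun i => by
  obtain ⟨eR⟩ := RHom.nonempty_rpushIso e.hom
  exact M1.isQCoh_of_isIso ((DerivedCategory.homologyFunctor _ i).mapIso (eR.app K) ≪≫ hdPushDIso e.hom K i).symm
    (M1.isQCoh_push e.hom (h i))

theorem isLE_rpush_iso (e : X ≅ Y) [DCoh.HasRpush e.hom] {K : DCoh.D X} {d : ℤ} [K.IsLE d] :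
    ((DCoh.Rpush e.hom).obj K).IsLE d := (DerivedCategory.isLE_iff _ d).2 fun i hi => by
  obtain ⟨eR⟩ := RHom.nonempty_rpushIso e.hom
  exact ((Scheme.Modules.pushforward e.hom).map_isZero (DerivedCategory.isZero_of_isLE K d i hi)).of_iso
    ((DerivedCategory.homologyFunctor _ i).mapIso (eR.app K) ≪≫ hdPushDIso e.hom K i)

/-- The affine case. -/
theorem ta_rpush_affine {R C : CommRingCat.{u}} (σ : R ⟶ C) {T : Scheme.{u}} [IsAffine T] (g : T ⟶ Spec C)
    [DCoh.HasRpush g] {a b d : ℤ} (L : DCoh.D T) (hq : DCoh.IsQCohD L) [L.IsLE d] (h : TA (g ≫ Spec.map σ) a b L) :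
    ∃ b', TA (Spec.map σ) a b' ((DCoh.Rpush g).obj L) := by
  let e := T.isoSpec
  obtain ⟨φ, hφ⟩ := Spec.map_surjective (e.inv ≫ g)
  have hg : g = e.hom ≫ Spec.map φ := by rw [hφ, Iso.hom_inv_id_assoc]
  subst hg
  haveI : DCoh.HasRpush e.hom := DBC9.hasRpush _
  haveI : DCoh.HasRpush (Spec.map φ) := DBC9.hasRpush _
  rw [Category.assoc] at h
  haveI := isLE_rpush_iso e (K := L) (d := d)
  obtain ⟨b', hb'⟩ := ta_rpush_spec σ φ ((DCoh.Rpush e.hom).obj L) (d := d) (isQCohD_rpush_iso e hq)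
    (ta_push_iso e _ h)
  exact ⟨b', ta_iso _ ((DPush.compIso e.hom (Spec.map φ)).app L) hb'⟩

/-- Restriction along the identity. -/
noncomputable def resDIdIso (K : DCoh.D X) : (DPerf.resD (𝟙 X)).obj K ≅ K :=
  let G := (DerivedCategory.Q (C := X.Modules)).objPreimage K
  let e : DerivedCategory.Q.obj G ≅ K := (DerivedCategory.Q (C := X.Modules)).objObjPreimageIso K
  (DPerf.resD (𝟙 X)).mapIso e.symm ≪≫ (DPerf.resFac (𝟙 X)).app G ≪≫
    DerivedCategory.Q.mapIso ((NatIso.mapHomologicalComplex Scheme.Modules.restrictFunctorId (ComplexShape.up ℤ)).app G ≪≫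
      (Functor.mapHomologicalComplexIdIso _ _).app G) ≪≫ e

theorem isAffineOpen_inf {U V W : X.Opens} (hU : IsAffineOpen U) (hV : IsAffineOpen V) (hW : IsAffineOpen W)
    (hUW : U ≤ W) (hVW : V ≤ W) : IsAffineOpen (U ⊓ V) := by
  haveI : IsAffine W.toScheme := hW
  have h1 : IsAffineOpen (W.ι ⁻¹ᵁ U) :=
    hU.preimage_of_isOpenImmersion W.ι (by rwa [Scheme.Opens.opensRange_ι])
  have h2 : IsAffineOpen (W.ι ⁻¹ᵁ V) :=
    hV.preimage_of_isOpenImmersion W.ι (by rwa [Scheme.Opens.opensRange_ι])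
  have h3 := (h1.inf h2).image_of_isOpenImmersion W.ι
  rw [← Scheme.Hom.preimage_inf, Scheme.Hom.image_preimage_eq_opensRange_inf, Scheme.Opens.opensRange_ι,
    inf_eq_right.2 (inf_le_left.trans hUW)] at h3
  exact h3

section Induction

variable {R C : CommRingCat.{u}} (σ : R ⟶ C) (f : X ⟶ Spec C) (K : DCoh.D X)

/-- The statement over opens with underlying open `O`. -/
def OK (a : ℤ) (O : X.Opens) : Prop :=
  ∀ (T : Scheme.{u}) (k : T ⟶ X) (_ : IsOpenImmersion k), k.opensRange = O → ∀ [DCoh.HasRpush (k ≫ f)],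
    ∃ b', TA (Spec.map σ) a b' ((DCoh.Rpush (k ≫ f)).obj ((DPerf.resD k).obj K))

variable {a b d : ℤ}

theorem ok_affine (hq : DCoh.IsQCohD K) [K.IsLE d] (h : TA (f ≫ Spec.map σ) a b K) {V : X.Opens}
    (hV : IsAffineOpen V) : OK σ f K a V := by
  intro T k _ hr _
  haveI : IsAffine (V : Scheme.{u}) := hV
  haveI : IsAffine T := isAffine_of_isAffineHom (IsOpenImmersion.isoOfRangeEq k V.ι (by
    rw [Scheme.Opens.range_ι, ← hr]; rfl)).hom
  haveI := Noeth.isLE_res k (K := K) (b := d)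
  exact ta_rpush_affine σ (k ≫ f) (d := d) _ (DQC.isQCohD_resD k hq) (by
    rw [Category.assoc]; exact ta_resD _ k h)

theorem ok_union {O V : X.Opens} (h₁ : OK σ f K a O) (h₂ : OK σ f K a V) (h₃ : OK σ f K a (O ⊓ V)) :
    OK σ f K a (O ⊔ V) := by
  intro T k _ hr _
  have hpq : k ⁻¹ᵁ O ⊔ k ⁻¹ᵁ V = ⊤ := by
    rw [← Scheme.Hom.preimage_sup, ← hr]
    exact k.preimage_opensRange
  have piece : ∀ (r : T.Opens) (O' : X.Opens), r = k ⁻¹ᵁ O' → O' ≤ O ⊔ V → OK σ f K a O' →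
      ∀ [DCoh.HasRpush (r.ι ≫ k ≫ f)],
      ∃ b', TA (Spec.map σ) a b'
        ((DCoh.Rpush (r.ι ≫ k ≫ f)).obj ((DCoh.restrictD r.ι).obj ((DPerf.resD k).obj K))) := by
    intro r O' hr' hle hO' _
    haveI : DCoh.HasRpush ((r.ι ≫ k) ≫ f) := DBC9.hasRpush _
    obtain ⟨b', hb'⟩ := hO' _ (r.ι ≫ k) inferInstance (by
      rw [Scheme.Hom.opensRange_comp, Scheme.Opens.opensRange_ι, hr', Scheme.Hom.image_preimage_eq_opensRange_inf,
        hr, inf_eq_right.2 hle])
    refine ⟨b', ?_⟩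
    have e1 := ta_iso _ ((DCoh.Rpush ((r.ι ≫ k) ≫ f)).mapIso ((DPerf.resDComp k r.ι).app K).symm) hb'
    simp only [Category.assoc] at e1
    exact e1
  haveI : DCoh.HasRpush ((k ⁻¹ᵁ O).ι ≫ k ≫ f) := DBC9.hasRpush _
  haveI : DCoh.HasRpush ((k ⁻¹ᵁ V).ι ≫ k ≫ f) := DBC9.hasRpush _
  haveI : DCoh.HasRpush ((k ⁻¹ᵁ O ⊓ k ⁻¹ᵁ V).ι ≫ k ≫ f) := DBC9.hasRpush _
  obtain ⟨b₁, hb₁⟩ := piece (k ⁻¹ᵁ O) O rfl le_sup_left h₁
  obtain ⟨b₂, hb₂⟩ := piece (k ⁻¹ᵁ V) V rfl le_sup_right h₂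
  obtain ⟨b₃, hb₃⟩ := piece (k ⁻¹ᵁ O ⊓ k ⁻¹ᵁ V) (O ⊓ V) rfl (inf_le_left.trans le_sup_left) h₃
  obtain ⟨_, _, _, hT⟩ := DMV.exists_relative_triangle (k ≫ f) _ _ hpq ((DPerf.resD k).obj K)
  refine ⟨max (max b₁ b₂) b₃ + 1, ta_triangle₁ (Spec.map σ) _ hT ?_ ?_⟩
  · exact ta_biprod _ _ _ (ta_mono _ le_rfl (le_trans (le_max_left _ _) (le_max_left _ _)) hb₁)
      (ta_mono _ le_rfl (le_trans (le_max_right _ _) (le_max_left _ _)) hb₂)
  · exact ta_mono _ le_rfl (le_max_right _ _) hb₃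

theorem ok_compact [QuasiSeparatedSpace X] (hq : DCoh.IsQCohD K) [K.IsLE d] (h : TA (f ≫ Spec.map σ) a b K)
    (O : X.Opens) (hO : IsCompact (O : Set X)) : OK σ f K a O := by
  have aff : ∀ V : X.Opens, IsAffineOpen V → OK σ f K a V := fun V hV => ok_affine σ f K (b := b) (d := d) hq h hV
  have bot : OK σ f K a ⊥ := aff ⊥ (isAffineOpen_bot X)
  have sep : ∀ V₀ : X.Opens, IsAffineOpen V₀ → ∀ O : X.Opens, IsCompact (O : Set X) →
      O ≤ V₀ → ∀ D : X.Opens, IsAffineOpen D → D ≤ V₀ → OK σ f K a (O ⊓ D) := by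
    intro V₀ hV₀ O hO
    refine compact_open_induction_on (P := fun O => O ≤ V₀ → ∀ D : X.Opens, IsAffineOpen D → D ≤ V₀ →
      OK σ f K a (O ⊓ D)) O hO (fun _ D _ _ => by rw [bot_inf_eq]; exact bot) ?_
    intro O hO W hP hle₀ D hD hD₀
    have hW₀ : (W : X.Opens) ≤ V₀ := le_sup_right.trans hle₀
    have hWD : IsAffineOpen ((W : X.Opens) ⊓ D) := isAffineOpen_inf W.2 hD hV₀ hW₀ hD₀
    rw [inf_sup_right]
    refine ok_union σ f K (hP (le_sup_left.trans hle₀) D hD hD₀) (aff _ hWD) ?_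
    rw [show O ⊓ D ⊓ ((W : X.Opens) ⊓ D) = O ⊓ ((W : X.Opens) ⊓ D) by ac_rfl]
    exact hP (le_sup_left.trans hle₀) _ hWD (inf_le_left.trans hW₀)
  refine compact_open_induction_on (P := fun O => OK σ f K a O) O hO bot ?_
  intro O hO W hP
  have hOW : IsCompact ((O ⊓ (W : X.Opens) : X.Opens) : Set X) :=
    QuasiSeparatedSpace.inter_isCompact _ _ O.2 hO (W : X.Opens).2 W.2.isCompact
  refine ok_union σ f K hP (aff _ W.2) ?_
  rw [show O ⊓ (W : X.Opens) = O ⊓ (W : X.Opens) ⊓ (W : X.Opens) by rw [inf_assoc, inf_idem]]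
  exact sep _ W.2 _ hOW inf_le_right _ W.2 le_rfl

theorem ta_rpush_to_spec [QuasiCompact f] [QuasiSeparated f] [DCoh.HasRpush f] (hq : DCoh.IsQCohD K) [K.IsLE d]
    (h : TA (f ≫ Spec.map σ) a b K) : ∃ b', TA (Spec.map σ) a b' ((DCoh.Rpush f).obj K) := by
  haveI : CompactSpace X := QuasiCompact.compactSpace_of_compactSpace f
  haveI : QuasiSeparatedSpace X := quasiSeparatedSpace_of_quasiSeparated f
  haveI : DCoh.HasRpush (𝟙 X ≫ f) := DBC9.hasRpush _
  obtain ⟨b', hb'⟩ := ok_compact σ f K (b := b) (d := d) hq h ⊤ CompactSpace.isCompact_univ X (𝟙 X) inferInstance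
    (top_le_iff.1 fun x _ => ⟨x, rfl⟩)
  refine ⟨b', ?_⟩
  have h' := hb'
  simp only [Category.id_comp] at h'
  exact ta_iso _ ((DCoh.Rpush f).mapIso (resDIdIso K)) h'

end Induction

end Groth.Agent.RelPCS8.TorMV
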