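import Mathlib
import Groth.Agent.Lib.RelPCS8.TorMV
import Groth.Agent.Lib.PCMor4.Perfect
import Groth.Agent.Lib.DPerf.Amp
import Groth.Agent.Lib.KFlat.LTor
import Groth.Agent.Lib.DMV.Perfect

/-!
# Tor amplitude of derived direct images
-/

set_option autoImplicit false
set_option backward.isDefEq.respectTransparency false
set_option linter.style.haveILetI false
universe u
open CategoryTheory CategoryTheory.Limits AlgebraicGeometry Pretriangulated
attribute [local instance] HasDerivedCategory.standard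

namespace Groth.Agent.RelPCS8.TorRpush

open TorMV

variable {X Y S : Scheme.{u}}

theorem ta_at_res (p : X ⟶ S) {T : Scheme.{u}} (k : T ⟶ X) [IsOpenImmersion k] (z : T) {a b : ℤ} {K : DCoh.D X} :
    DRing.HasTorAmplitudeIn (S.presheaf.stalk ((k ≫ p).base z)) a b ((St (k ≫ p) z).obj ((DPerf.resD k).obj K)) ↔
      DRing.HasTorAmplitudeIn (S.presheaf.stalk (p.base (k.base z))) a b ((St p (k.base z)).obj K) := by
  obtain ⟨I, hI, ⟨e⟩⟩ := KInjLib.exists_iso_kInjective K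
  let r := ModuleCat.restrictScalars.{u} (p.stalkMap (k.base z)).hom
  have i : (DerSch.stalkCxOver (k ≫ p) z).obj ((DPerf.resX k).obj I) ≅ (DerSch.stalkCxOver p (k.base z)).obj I :=
    (NatIso.mapHomologicalComplex (Functor.isoWhiskerLeft (Scheme.Modules.restrictFunctor k) (StalkTor.stalkCompIso k p z) ≪≫
      (Functor.associator _ _ r).symm ≪≫ Functor.isoWhiskerRight (rsOverIso k z) r) (ComplexShape.up ℤ)).app I
  let e₁ : (St (k ≫ p) z).obj ((DPerf.resD k).obj K) ≅ DRing.toD ((DerSch.stalkCxOver (k ≫ p) z).obj ((DPerf.resX k).obj I)) :=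
    (St (k ≫ p) z).mapIso ((DPerf.resD k).mapIso e ≪≫ (DPerf.resFac k).app I) ≪≫
      (DerSch.stalkOver (k ≫ p) z).mapDerivedCategoryFactors.app _
  let e₂ : (St p (k.base z)).obj K ≅ DRing.toD ((DerSch.stalkCxOver p (k.base z)).obj I) :=
    (St p (k.base z)).mapIso e ≪≫ (DerSch.stalkOver p (k.base z)).mapDerivedCategoryFactors.app _
  exact ⟨StalkTor.hasTorAmplitudeIn_congr (e₁ ≪≫ DerivedCategory.Q.mapIso i ≪≫ e₂.symm),
    StalkTor.hasTorAmplitudeIn_congr (e₁ ≪≫ DerivedCategory.Q.mapIso i ≪≫ e₂.symm).symm⟩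

theorem ta_isLE (q : Y ⟶ S) {a b : ℤ} {K : DCoh.D Y} (h : TA q a b K) : K.IsLE b := by
  obtain ⟨I, hI, ⟨e⟩⟩ := KInjLib.exists_iso_kInjective K
  refine (DerivedCategory.isLE_iff K b).2 fun i hi => ?_
  exact (PerfAt.isZero_HD_of_torAmplitude q ((ta_toD_iff q a b I).1 (ta_iso q e h)) i (Or.inr hi)).of_iso
    ((DerivedCategory.homologyFunctor _ i).mapIso e)

theorem ta_shrink (q : Y ⟶ S) {a b : ℤ} (c : ℤ) {K : DCoh.D Y} [K.IsLE c] (y : Y)
    (h : DRing.HasTorAmplitudeIn (S.presheaf.stalk (q.base y)) a b ((St q y).obj K)) :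
    DRing.HasTorAmplitudeIn (S.presheaf.stalk (q.base y)) a c ((St q y).obj K) := by
  haveI : ((St q y).obj K).IsLE c := WayOut.isLE_mapDerivedCategory (DerSch.stalkOver q y) K c
  exact TorBal.amplitude_shrink c h

theorem ta_of_push_iso (e : X ≅ Y) (q : Y ⟶ S) [DCoh.HasRpush e.hom] {a b : ℤ} {K : DCoh.D X}
    (h : TA q a b ((DCoh.Rpush e.hom).obj K)) : TA (e.hom ≫ q) a b K := by
  obtain ⟨I, hI, ⟨ei⟩⟩ := KInjLib.exists_iso_kInjective K
  obtain ⟨eR⟩ := RHom.nonempty_rpushIso e.hom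
  refine ta_iso _ ei.symm ((ta_toD_iff _ a b I).2 (ClosedPerf.hasTorAmplitude_comp_of_push (i := e.hom) q
    ((ta_toD_iff q a b _).1 (ta_iso _ ((DCoh.Rpush e.hom).mapIso ei ≪≫ eR.app _ ≪≫
      (Scheme.Modules.pushforward e.hom).mapDerivedCategoryFactors.app I) h))))

variable (p : X ⟶ S) (q : Y ⟶ S) (f : X ⟶ Y) (w : f ≫ q = p)

include w in
/-- Over an affine open of the target lying over an affine open of the base. -/
theorem ta_rpush_open [QuasiCompact f] [QuasiSeparated f] [DCoh.HasRpush f] {K : DCoh.D X} (hq : DCoh.IsQCohD K)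
    {V : Y.Opens} {R : S.Opens} (hV : IsAffineOpen V) (hR : IsAffineOpen R) (hVR : V ≤ q ⁻¹ᵁ R) {a b : ℤ}
    (h : TA ((f ⁻¹ᵁ V).ι ≫ p) a b ((DPerf.resD (f ⁻¹ᵁ V).ι).obj K)) :
    ∃ b', ∀ y ∈ V, DRing.HasTorAmplitudeIn (S.presheaf.stalk (q.base y)) a b' ((St q y).obj ((DCoh.Rpush f).obj K)) := by
  haveI : DCoh.HasRpush (f ∣_ V) := DBC9.hasRpush _
  obtain ⟨e0⟩ := DMV.nonempty_restrictD_rpush f V
  let e := hV.isoSpec
  haveI : DCoh.HasRpush e.hom := DBC9.hasRpush _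
  haveI : DCoh.HasRpush ((f ∣_ V) ≫ e.hom) := DBC9.hasRpush _
  let σ := q.appLE R V hVR
  let K' := (DPerf.resD (f ⁻¹ᵁ V).ι).obj K
  have hj : (f ⁻¹ᵁ V).ι ≫ p = (((f ∣_ V) ≫ e.hom) ≫ Spec.map σ) ≫ hR.fromSpec := by
    rw [Category.assoc, Category.assoc, hR.SpecMap_appLE_fromSpec q hV hVR, ← w, IsAffineOpen.isoSpec_hom,
      IsAffineOpen.toSpecΓ_fromSpec_assoc, morphismRestrict_ι_assoc]
  rw [hj, ta_comp_openImmersion_iff] at h
  haveI : K'.IsLE b := ta_isLE _ h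
  obtain ⟨b', hb'⟩ := ta_rpush_to_spec σ ((f ∣_ V) ≫ e.hom) K' (d := b) (DQC.isQCohD_resD _ hq) h
  refine ⟨b', fun y hy => ?_⟩
  have h1 := ta_of_push_iso e (Spec.map σ) (ta_iso _ ((DPush.compIso (f ∣_ V) e.hom).app K').symm hb')
  have h2 := (ta_comp_openImmersion_iff (e.hom ≫ Spec.map σ) hR.fromSpec a b' _).2 h1
  have hj' : (e.hom ≫ Spec.map σ) ≫ hR.fromSpec = V.ι ≫ q := by
    rw [Category.assoc, hR.SpecMap_appLE_fromSpec q hV hVR, IsAffineOpen.isoSpec_hom,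
      IsAffineOpen.toSpecΓ_fromSpec_assoc]
  rw [hj'] at h2
  exact (ta_at_res q V.ι (⟨y, hy⟩ : (V : Scheme.{u}))).1 (ta_iso _ (e0.app K).symm h2 ⟨y, hy⟩)

theorem exists_affine_over (y : Y) : ∃ (V : Y.Opens) (R : S.Opens), y ∈ V ∧ IsAffineOpen V ∧ IsAffineOpen R ∧
    V ≤ q ⁻¹ᵁ R := by
  obtain ⟨R, hR, hyR, -⟩ := exists_isAffineOpen_mem_and_subset (x := q y) (U := ⊤) trivial
  obtain ⟨V, hV, hyV, hle⟩ := exists_isAffineOpen_mem_and_subset (U := q ⁻¹ᵁ R) hyR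
  exact ⟨V, R, hyV, hV, hR, hle⟩

/-- Finitely many intervals on a quasi-compact open. -/
theorem exists_uniform {K : DCoh.D X} (O : X.Opens) (hO : IsCompact (O : Set X))
    (h : ∀ x ∈ O, ∃ (U : X.Opens) (a b : ℤ), x ∈ U ∧ ∀ x' ∈ U,
      DRing.HasTorAmplitudeIn (S.presheaf.stalk (p.base x')) a b ((St p x').obj K)) :
    ∃ a b : ℤ, TA (O.ι ≫ p) a b ((DPerf.resD O.ι).obj K) := by
  choose U a b hxU hU using h
  obtain ⟨t, ht⟩ := hO.elim_finite_subcover (fun x : O => (U x.1 x.2 : Set X)) (fun x => (U x.1 x.2).2)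
    fun x hx => Set.mem_iUnion.2 ⟨⟨x, hx⟩, hxU x hx⟩
  obtain ⟨a₀, ha⟩ : ∃ a₀ : ℤ, ∀ x ∈ t, a₀ ≤ a x.1 x.2 := by
    obtain ⟨m, hm⟩ := (t.image fun x : O => a x.1 x.2).bddBelow
    exact ⟨m, fun x hx => hm (Finset.mem_image_of_mem _ hx)⟩
  obtain ⟨b₀, hb⟩ : ∃ b₀ : ℤ, ∀ x ∈ t, b x.1 x.2 ≤ b₀ := by
    obtain ⟨m, hm⟩ := (t.image fun x : O => b x.1 x.2).bddAbove
    exact ⟨m, fun x hx => hm (Finset.mem_image_of_mem _ hx)⟩
  refine ⟨a₀, b₀, fun z => (ta_at_res p O.ι z).2 ?_⟩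
  obtain ⟨x, hx, hzx⟩ := Set.mem_iUnion₂.1 (ht z.2)
  exact DBaseChange.hasTorAmplitudeIn_mono (ha x hx) (hb x hx) (hU x.1 x.2 _ hzx)

theorem locTA_of_toD {F : CochainComplex X.Modules ℤ} (hF : DerSch.LocFiniteTorAmplitude p F) (x : X) :
    ∃ (U : X.Opens) (a b : ℤ), x ∈ U ∧ ∀ x' ∈ U,
      DRing.HasTorAmplitudeIn (S.presheaf.stalk (p.base x')) a b ((St p x').obj (DCoh.toD X F)) := by
  obtain ⟨U, a, b, hx, h⟩ := hF x
  exact ⟨U, a, b, hx, fun x' hx' =>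
    StalkTor.hasTorAmplitudeIn_congr ((DerSch.stalkOver p x').mapDerivedCategoryFactors.app F).symm (h x' hx')⟩

include w in
theorem locTA_rpush [QuasiCompact f] [QuasiSeparated f] [DCoh.HasRpush f] {K : DCoh.D X} (hq : DCoh.IsQCohD K)
    (h : ∀ x, ∃ (U : X.Opens) (a b : ℤ), x ∈ U ∧ ∀ x' ∈ U,
      DRing.HasTorAmplitudeIn (S.presheaf.stalk (p.base x')) a b ((St p x').obj K)) (y : Y) :
    ∃ (V : Y.Opens) (a b : ℤ), y ∈ V ∧ ∀ y' ∈ V,
      DRing.HasTorAmplitudeIn (S.presheaf.stalk (q.base y')) a b ((St q y').obj ((DCoh.Rpush f).obj K)) := by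
  obtain ⟨V, R, hyV, hV, hR, hle⟩ := exists_affine_over q y
  obtain ⟨a, b, hab⟩ := exists_uniform p (f ⁻¹ᵁ V) (QuasiCompact.isCompact_preimage (f := f) _ V.2 hV.isCompact)
    (fun x _ => h x)
  obtain ⟨b', hb'⟩ := ta_rpush_open p q f w hq hV hR hle hab
  exact ⟨V, a, b', hyV, hb'⟩

theorem locFiniteTorAmplitudeD_of_locTA {K : DCoh.D Y}
    (h : ∀ y, ∃ (V : Y.Opens) (a b : ℤ), y ∈ V ∧ ∀ y' ∈ V,
      DRing.HasTorAmplitudeIn (S.presheaf.stalk (q.base y')) a b ((St q y').obj K)) :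
    DerSch.LocFiniteTorAmplitudeD q K := fun F ⟨e⟩ y => by
  obtain ⟨V, a, b, hy, hV⟩ := h y
  exact ⟨V, a, b, hy, fun y' hy' => StalkTor.hasTorAmplitudeIn_congr
    ((St q y').mapIso e.symm ≪≫ (DerSch.stalkOver q y').mapDerivedCategoryFactors.app F) (hV y' hy')⟩

theorem isLE_rpush_aux [DCoh.HasRpush f] (N : ℕ)
    (hN : ∀ M : X.Modules, Coh.IsQCoh M → ∀ i : ℤ, (N : ℤ) < i → IsZero (DCoh.HD ((DCoh.Rpush f).obj (DCoh.inD X M)) i))
    (b : ℤ) : ∀ (k : ℕ) (K : DCoh.D X), DCoh.IsQCohD K → K.IsLE b → K.IsGE (b + 1 - k) →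
      ((DCoh.Rpush f).obj K).IsLE (b + N) := by
  obtain ⟨_, _⟩ := DPush.exists_commShift_isTriangulated f
  intro k
  induction k generalizing b with
  | zero =>
    intro K _ hb ha
    refine (DerivedCategory.isLE_iff _ _).2 fun i _ => ?_
    refine (DerivedCategory.homologyFunctor _ i).map_isZero ((DCoh.Rpush f).map_isZero ?_)
    exact DMV.isZero_of_hd fun j => by
      by_cases hj : b < j
      · exact DerivedCategory.isZero_of_isLE K b j hj
      · exact DerivedCategory.isZero_of_isGE K (b + 1 - ((0 : ℕ) : ℤ)) j (by simp; omega)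
  | succ k ih =>
    intro K hK hb ha
    let t : Triangulated.TStructure (DCoh.D X) := DerivedCategory.TStructure.t
    haveI : t.IsLE K b := hb
    haveI : t.IsGE K (b - k) := by
      rw [show b - (k : ℤ) = b + 1 - ((k + 1 : ℕ) : ℤ) by push_cast; omega]; exact ha
    let T : Triangle (DCoh.D X) := (t.triangleLTGE b).obj K
    have hT : T ∈ distTriang (DCoh.D X) := t.triangleLTGE_distinguished b K
    haveI : DerivedCategory.IsLE T.obj₃ b := (inferInstance : t.IsLE ((t.truncGE b).obj K) b)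
    haveI : DerivedCategory.IsGE T.obj₃ b := (inferInstance : t.IsGE ((t.truncGE b).obj K) b)
    haveI h1 : DerivedCategory.IsLE T.obj₁ (b - 1) := (inferInstance : t.IsLE ((t.truncLT b).obj K) (b - 1))
    haveI h1' : DerivedCategory.IsGE T.obj₁ (b - k) := (inferInstance : t.IsGE ((t.truncLT b).obj K) (b - k))
    have hq1 : DCoh.IsQCohD T.obj₁ := DMV.isQCohD_truncLT K hK b
    have hq3 : DCoh.IsQCohD T.obj₃ := DMV.isQCohD_truncGE K hK b
    haveI hL1 : ((DCoh.Rpush f).obj T.obj₁).IsLE (b - 1 + N) := by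
      refine ih (b - 1) T.obj₁ hq1 h1 ?_
      rw [show b - 1 + 1 - (k : ℤ) = b - k by omega]; exact h1'
    obtain ⟨M, ⟨e⟩⟩ := DerivedCategory.exists_iso_singleFunctor_obj_of_isGE_of_isLE T.obj₃ b
    have hM : Coh.IsQCoh M := M1.isQCoh_of_isIso
      ((DerivedCategory.homologyFunctor X.Modules b).mapIso e ≪≫
        (DerivedCategory.singleFunctorCompHomologyFunctorIso X.Modules b).app M) (hq3 b)
    refine (DerivedCategory.isLE_iff _ _).2 fun i hi => ?_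
    have h3 : IsZero (DCoh.HD ((DCoh.Rpush f).obj T.obj₃) i) := by
      refine (hN M hM (-b + i) (by omega)).of_iso ?_
      exact (DerivedCategory.homologyFunctor _ i).mapIso ((DCoh.Rpush f).mapIso (e ≪≫
          (((DerivedCategory.singleFunctors X.Modules).shiftIso (-b) b 0 (by omega)).app M).symm) ≪≫
          ((DCoh.Rpush f).commShiftIso (-b)).app _) ≪≫
        ((DerivedCategory.homologyFunctor Y.Modules 0).shiftIso (-b) i (-b + i) rfl).app _
    have h1z : IsZero (DCoh.HD ((DCoh.Rpush f).obj T.obj₁) i) :=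
      DerivedCategory.isZero_of_isLE _ (b - 1 + N) i (by omega)
    have hex := DerivedCategory.HomologySequence.exact₂ _ ((DCoh.Rpush f).map_distinguished T hT) i
    exact hex.isZero_of_both_zeros (h1z.eq_of_src _ _) (h3.eq_of_tgt _ _)

/-- Cohomological dimension bound for a bounded object. -/
theorem isLE_rpush [DCoh.HasRpush f] (N : ℕ)
    (hN : ∀ M : X.Modules, Coh.IsQCoh M → ∀ i : ℤ, (N : ℤ) < i → IsZero (DCoh.HD ((DCoh.Rpush f).obj (DCoh.inD X M)) i))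
    (K : DCoh.D X) (hq : DCoh.IsQCohD K) (c b : ℤ) [K.IsGE c] [K.IsLE b] : ((DCoh.Rpush f).obj K).IsLE (b + N) := by
  refine isLE_rpush_aux f N hN b (b + 1 - c).toNat K hq inferInstance ((DerivedCategory.isGE_iff _ _).2 fun i hi => ?_)
  by_cases h : b < i
  · exact DerivedCategory.isZero_of_isLE K b i h
  · exact DerivedCategory.isZero_of_isGE K c i (by omega)

include w in
/-- The sharp interval. -/
theorem ta_rpush [QuasiCompact f] [QuasiSeparated f] [DCoh.HasRpush f] (N : ℕ)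
    (hN : ∀ M : X.Modules, Coh.IsQCoh M → ∀ i : ℤ, (N : ℤ) < i → IsZero (DCoh.HD ((DCoh.Rpush f).obj (DCoh.inD X M)) i))
    {K : DCoh.D X} (hq : DCoh.IsQCohD K) (c : ℤ) [K.IsGE c] {a b : ℤ} (h : TA p a b K) :
    TA q a (b + N) ((DCoh.Rpush f).obj K) := fun y => by
  haveI := ta_isLE p h
  haveI := isLE_rpush f N hN K hq c b
  obtain ⟨V, R, hyV, hV, hR, hle⟩ := exists_affine_over q y
  obtain ⟨b', hb'⟩ := ta_rpush_open p q f w hq hV hR hle (ta_resD p _ h)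
  exact ta_shrink q (b + N) y (hb' y hyV)

/-- Absolute local finite flat amplitude from stalks. -/
theorem flatAmplitude_res {K : DCoh.D X} {V : X.Opens} {a b : ℤ}
    (h : ∀ x ∈ V, DRing.HasTorAmplitudeIn (X.presheaf.stalk x) a b ((St (𝟙 X) x).obj K)) :
    DCoh.HasFlatAmplitudeIn a b ((DPerf.resD V.ι).obj K) := by
  obtain ⟨I, hI, ⟨e⟩⟩ := KInjLib.exists_iso_kInjective ((DPerf.resD V.ι).obj K)
  have h' : TA (V.ι ≫ 𝟙 X) a b ((DPerf.resD V.ι).obj K) := fun z => (ta_at_res (𝟙 X) V.ι z).2 (h _ z.2)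
  rw [show V.ι ≫ 𝟙 X = 𝟙 (V : Scheme.{u}) ≫ V.ι by simp, ta_comp_openImmersion_iff] at h'
  haveI := ta_isLE _ h'
  haveI : (DCoh.toD (V : Scheme.{u}) I).IsLE b :=
    (DerivedCategory.isLE_iff _ b).2 fun i hi => (DerivedCategory.isZero_of_isLE _ b i hi).of_iso
      ((DerivedCategory.homologyFunctor _ i).mapIso e.symm)
  obtain ⟨E, hv, hf, ⟨e'⟩⟩ := (StalkId.flatAmplitude_iff_torAmp_stalks I b a b).2 ((ta_toD_iff _ a b I).1 (ta_iso _ e h'))
  exact ⟨E, hv, hf, ⟨e' ≪≫ e.symm⟩⟩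

/-- Absolute local amplitude transported along a morphism locally of finite tor dimension. -/
theorem locTA_of_flatAmplitude (hf : DerSch.LocFiniteTorDim f) {K : DCoh.D X}
    (h : ∀ x : X, ∃ (V : X.Opens) (a b : ℤ), x ∈ V ∧ DCoh.HasFlatAmplitudeIn a b ((DPerf.resD V.ι).obj K)) (x : X) :
    ∃ (U : X.Opens) (a b : ℤ), x ∈ U ∧ ∀ x' ∈ U,
      DRing.HasTorAmplitudeIn (Y.presheaf.stalk (f.base x')) a b ((St f x').obj K) := by
  obtain ⟨V, a, b, hxV, hV⟩ := h x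
  obtain ⟨W, m₀, m₁, hxW, hW⟩ := hf x
  obtain ⟨I, hI, ⟨e⟩⟩ := KInjLib.exists_iso_kInjective ((DPerf.resD V.ι).obj K)
  obtain ⟨E, hv, hfl, ⟨e'⟩⟩ := hV
  have hI' : DerSch.HasTorAmplitude (𝟙 (V : Scheme.{u})) a b I :=
    StalkId.torAmp_stalks_of_flatAmplitude ⟨E, hv, hfl, ⟨e' ≪≫ e⟩⟩
  refine ⟨V ⊓ W, a - (-m₀).toNat, b, ⟨hxV, hxW⟩, fun x' hx' => ?_⟩
  let z : (V : Scheme.{u}) := ⟨x', hx'.1⟩
  haveI hzero : (DerSch.unitCx X).IsStrictlyLE 0 := inferInstanceAs (CochainComplex.IsStrictlyLE ((HomologicalComplex.single _ _ 0).obj _) 0)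
  haveI : (DRing.toD ((DerSch.stalkCxOver f x').obj (DerSch.unitCx X))).IsLE 0 :=
    DMod.isLE_toD (a := 0) (b := 0) fun i hi => (DerSch.stalkOver f x').map_isZero
      (HomologicalComplex.isZero_single_obj_X _ _ _ _ (by omega))
  have hu : DerSch.HasTorAmplitudeAt f (-((-m₀).toNat : ℤ)) 0 (DerSch.unitCx X) x' :=
    TorBal.amplitude_shrink 0 (DBaseChange.hasTorAmplitudeIn_mono (by omega) le_rfl (hW x' hx'.2))
  have hz : DerSch.HasTorAmplitudeAt (V.ι ≫ 𝟙 X) a b I z := by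
    rw [show V.ι ≫ 𝟙 X = 𝟙 (V : Scheme.{u}) ≫ V.ι by simp]
    exact (torAmplitudeAt_comp_iff (𝟙 _) V.ι z (bijective_stalkMap V.ι _) a b I).2 (hI' z)
  have hx : DRing.HasTorAmplitudeIn (X.presheaf.stalk ((𝟙 X : X ⟶ X).base x')) a b ((St (𝟙 X) x').obj K) :=
    (ta_at_res (𝟙 X) V.ι z).1 (StalkTor.hasTorAmplitudeIn_congr
      (((DerSch.stalkOver (V.ι ≫ 𝟙 X) z).mapDerivedCategoryFactors.app I).symm ≪≫ (St (V.ι ≫ 𝟙 X) z).mapIso e.symm) hz)
  obtain ⟨J, hJ, ⟨eJ⟩⟩ := KInjLib.exists_iso_kInjective K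
  have hxJ : DerSch.HasTorAmplitudeAt (𝟙 X) a b J x' := StalkTor.hasTorAmplitudeIn_congr
    ((St (𝟙 X) x').mapIso eJ ≪≫ (DerSch.stalkOver (𝟙 X) x').mapDerivedCategoryFactors.app J) hx
  have hfin := StalkTor.hasTorAmplitudeAt_comp (𝟙 X) f x' hu hxJ
  rw [Category.id_comp] at hfin
  exact StalkTor.hasTorAmplitudeIn_congr
    (((DerSch.stalkOver f x').mapDerivedCategoryFactors.app J).symm ≪≫ (St f x').mapIso eJ.symm) hfin

theorem locFiniteTorDim_of_isPerfectMor (hf : MoreMor.IsPerfectMor f) : DerSch.LocFiniteTorDim f := fun x => by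
  obtain ⟨U, V, hxU, hU, hV, hle⟩ := exists_affine_pair f x
  letI := (f.appLE V U hle).hom.toAlgebra
  obtain ⟨d, hd⟩ := (hf U V hU hV hle).2
  refine ⟨U, -(d : ℤ), 0, hxU, fun x' hx' => ?_⟩
  let L := X.presheaf.stalk x'
  let A' := Y.presheaf.stalk (f.base x')
  letI : Algebra Γ(X, U) L := X.presheaf.algebra_section_stalk ⟨x', hx'⟩
  haveI : IsLocalization.AtPrime L (hU.primeIdealOf ⟨x', hx'⟩).asIdeal := hU.isLocalization_stalk ⟨x', hx'⟩
  haveI : Module.Flat Γ(X, U) L := IsLocalization.flat L (hU.primeIdealOf ⟨x', hx'⟩).asIdeal.primeCompl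
  letI : Algebra Γ(Y, V) A' := Y.presheaf.algebra_section_stalk ⟨f.base x', hle hx'⟩
  haveI : IsLocalization.AtPrime A' (hV.primeIdealOf ⟨f.base x', hle hx'⟩).asIdeal :=
    hV.isLocalization_stalk ⟨f.base x', hle hx'⟩
  letI : Algebra A' L := (f.stalkMap x').hom.toAlgebra
  letI : Algebra Γ(Y, V) L := ((algebraMap Γ(X, U) L).comp (algebraMap Γ(Y, V) Γ(X, U))).toAlgebra
  haveI : IsScalarTower Γ(Y, V) Γ(X, U) L := IsScalarTower.of_algebraMap_eq fun _ => rfl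
  haveI : IsScalarTower Γ(Y, V) A' L := IsScalarTower.of_algebraMap_eq fun r => by
    show X.presheaf.germ U x' hx' (f.appLE V U hle r) = f.stalkMap x' (Y.presheaf.germ V (f x') (hle hx') r)
    rw [Scheme.Hom.germ_stalkMap_apply]
    exact X.presheaf.germ_res_apply (homOfLE hle) x' hx' _
  have h1 : DRing.HasTorDimLE Γ(Y, V) d L := PCMor4.td_flat_over L hd
  have h2 : DRing.HasTorDimLE A' d L :=
    (PCMor4.td_localization_iff (hV.primeIdealOf ⟨f.base x', hle hx'⟩).asIdeal.primeCompl A' L).2 h1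
  exact StalkTor.hasTorAmplitudeIn_congr (StalkTor.unitCxIso f x').symm (TorBal.amplitude_of_hasTorDimLE _ d h2)

/-- Perfectness of direct images under proper perfect morphisms to locally Noetherian schemes. -/
theorem isPerfect_rpush [IsLocallyNoetherian Y] [IsProper f] [DCoh.HasRpush f] (hf : MoreMor.IsPerfectMor f)
    (E : DCoh.D X) (c : ℤ) [E.IsGE c] (hE : DCoh.IsPerfect E) : DCoh.IsPerfect ((DCoh.Rpush f).obj E) := by
  haveI : IsLocallyNoetherian X := LocallyOfFiniteType.isLocallyNoetherian f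
  have hm : ∀ m : ℤ, DCoh.IsPseudoCoherentD m E := fun m =>
    DPerf.isPseudoCoherentD_of_approx ((DPerf.isPerfect_iff_approx.1 hE).mono_set (Set.subset_univ _))
  have hq : DCoh.IsQCohD E := fun i => DPerf.isQCoh_HD (hm (i - 1)) (by omega)
  have hc : DCoh.IsCohD E := fun i => DPerf.isCoh_HD_of_pseudoCoherent (hm i) (hq i) le_rfl
  refine DPerf.isPerfect_of_pc_locFlat
    (fun m => DPerf.approx_of_isPseudoCoherentD (Noeth.pc_rpush f E c hc hm m)) fun y => ?_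
  obtain ⟨V, a, b, hy, hV⟩ := locTA_rpush f (𝟙 Y) f (Category.comp_id f) hq
    (locTA_of_flatAmplitude f (locFiniteTorDim_of_isPerfectMor f hf) fun x => by
      obtain ⟨V, a, b, hx, -, h⟩ := DPerf.exists_flatAmplitude_of_isPerfect hE x
      exact ⟨V, a, b, hx, h⟩) y
  exact ⟨V, a, b, hy, flatAmplitude_res hV⟩

end Groth.Agent.RelPCS8.TorRpush
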