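import Mathlib
import Groth.Agent.Lib.RelPCS8.TorRpush
import Groth.Agent.Lib.KFlat.LpullPC
import Groth.Agent.Lib.RHom.TensorRes
import Groth.Agent.Lib.TensorMod.QCohTensor
import Groth.Agent.Lib.FlatH4.FlatComp
import Groth.Agent.Lib.DPush9.Coh
import Groth.Agent.Lib.DBaseChange.TorAmp

/-!
# Perfectness of direct images of objects with proper support
-/

set_option autoImplicit false
set_option backward.isDefEq.respectTransparency false
set_option linter.style.haveILetI false
universe u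
open CategoryTheory CategoryTheory.Limits AlgebraicGeometry Pretriangulated
attribute [local instance] HasDerivedCategory.standard

namespace Groth.Agent.RelPCS8.TorTensor

open TorMV TorRpush

variable {X Y S : Scheme.{u}}

/-- Bounded coherent objects of finite amplitude over a Noetherian base, with proper supports. -/
theorem isPerfect_rpush_of_support [IsNoetherian S] (f : X ⟶ S) [LocallyOfFiniteType f] [DCoh.HasRpush f]
    (E : DCoh.D X) (hc : DCoh.IsCohD E) (T : Set X) (hT : ClSub.IsProperOver f T)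
    (hET : ∀ i, CohB1.support (DCoh.HD E i) ⊆ T)
    (h : ∀ x : X, ∃ (U : X.Opens) (a b : ℤ), x ∈ U ∧ ∀ x' ∈ U,
      DRing.HasTorAmplitudeIn (S.presheaf.stalk (f.base x')) a b ((St f x').obj E))
    (c d : ℤ) [E.IsGE c] [E.IsLE d] : DCoh.IsPerfect ((DCoh.Rpush f).obj E) := by
  haveI : IsLocallyNoetherian X := LocallyOfFiniteType.isLocallyNoetherian f
  have hs : ∀ i, ClSub.IsProperOver f (CohB1.support (DCoh.HD E i)) := fun i =>
    ClSub24.isProperOver_subset f (hET i) (M1.isClosed_support (hc i).2) hT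
  have hcR := DPush9.isCohD_rpush f E c inferInstance hc hs
  obtain ⟨b', hb'⟩ := DPush9.exists_isLE_rpush f E c d inferInstance inferInstance hc hs
  haveI := hb'
  refine DPerf.isPerfect_of_pc_locFlat
    (fun m => DPerf.approx_of_isPseudoCoherentD (DPerf.isPseudoCoherentD_of_coherent (fun i _ => hcR i) b')) fun y => ?_
  have hTc : IsCompact T := by
    obtain ⟨W, i, _, hr, _⟩ := (ClSub24.isProperOver_iff_exists f T).1 hT
    haveI : CompactSpace W := QuasiCompact.compactSpace_of_compactSpace (i ≫ f)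
    rw [← hr]
    exact isCompact_range i.continuous
  have hcov : ∀ x : X, ∃ V : X.Opens, IsAffineOpen V ∧ x ∈ V := fun x => by
    obtain ⟨V, hV, hx, -⟩ := TopologicalSpace.Opens.isBasis_iff_nbhd.1 X.isBasis_affineOpens
      (TopologicalSpace.Opens.mem_top x)
    exact ⟨V, hV, hx⟩
  choose V hV hxV using hcov
  obtain ⟨t, ht⟩ := hTc.elim_finite_subcover (fun x => (V x : Set X)) (fun x => (V x).2)
    fun x _ => Set.mem_iUnion.2 ⟨x, hxV x⟩
  let U : X.Opens := t.sup V
  have hTU : T ⊆ (U : Set X) := fun x hx => by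
    obtain ⟨z, hz, hxz⟩ := Set.mem_iUnion₂.1 (ht hx)
    exact SetLike.coe_subset_coe.2 (Finset.le_sup (f := V) hz) hxz
  haveI : CompactSpace U.toScheme := isCompact_iff_compactSpace.1 (show IsCompact (U : Set X) by
    rw [show (U : Set X) = ⋃ x ∈ t, (V x : Set X) by
      simp only [U, Finset.sup_eq_iSup, TopologicalSpace.Opens.coe_iSup]]
    exact t.isCompact_biUnion fun x _ => (hV x).isCompact)
  haveI : DCoh.HasRpush U.ι := DBC9.hasRpush _
  haveI : DCoh.HasRpush (U.ι ≫ f) := DBC9.hasRpush _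
  obtain ⟨e⟩ := DMV.nonempty_iso_rpush_restrict U T hT.1 hTU E hET
  let F := (DPerf.resD U.ι).obj E
  haveI : IsLocallyNoetherian U.toScheme := isLocallyNoetherian_of_isOpenImmersion U.ι
  haveI : IsNoetherian U.toScheme := {}
  haveI : QuasiCompact (U.ι ≫ f) := inferInstance
  have hloc : ∀ z : U.toScheme, ∃ (W : U.toScheme.Opens) (a b : ℤ), z ∈ W ∧ ∀ z' ∈ W,
      DRing.HasTorAmplitudeIn (S.presheaf.stalk ((U.ι ≫ f).base z')) a b ((St (U.ι ≫ f) z').obj F) := fun z => by
    obtain ⟨W, a, b, hz, hW⟩ := h (U.ι z)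
    exact ⟨U.ι ⁻¹ᵁ W, a, b, hz, fun z' hz' => (ta_at_res f U.ι z').2 (hW _ hz')⟩
  obtain ⟨W, a, b, hy, hW⟩ := locTA_rpush (U.ι ≫ f) (𝟙 S) (U.ι ≫ f) (Category.comp_id _)
    (DQC.isQCohD_resD U.ι fun i => (hc i).1) hloc y
  exact ⟨W, a, b, hy, flatAmplitude_res fun y' hy' => StalkTor.hasTorAmplitudeIn_congr
    ((St (𝟙 S) y').mapIso (((DPush.compIso U.ι f).app F).symm ≪≫ (DCoh.Rpush f).mapIso e.symm)) (hW y' hy')⟩

noncomputable def stalkFunctorIso (x : X) : DerSch.stalkFunctor X x ≅ KFlat.Sch.stF x :=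
  NatIso.ofComponents (fun M => LinearEquiv.toModuleIso
    (({ AddEquiv.refl (M.presheaf.stalk x : Type u) with
        map_smul' := fun r m => rfl } :
      (DerSch.stalkFunctor X x).obj M ≃ₗ[X.presheaf.stalk x] (KFlat.Sch.stF x).obj M)))
    fun {M N} φ => rfl

section
open TensorProduct

variable {A B C M : Type u} [CommRing A] [CommRing B] [Algebra A B] [AddCommGroup C] [Module B C] [Module A C]
  [IsScalarTower A B C] [AddCommGroup M] [Module A M] [Module B M] [IsScalarTower A B M]

theorem flat_tensor_of_flat [Module.Flat B C] [Module.Flat A M] : Module.Flat A (C ⊗[B] M) := by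
  rw [Module.Flat.iff_lTensor_preserves_injective_linearMap]
  intro N N' _ _ _ _ g hg a b hab
  have h := Module.Flat.lTensor_preserves_injective_linearMap (M := C)
    (AlgebraTensorModule.lTensor B M g) (Module.Flat.lTensor_preserves_injective_linearMap g hg)
  have key : ∀ z : (C ⊗[B] M) ⊗[A] N,
      (AlgebraTensorModule.lTensor B M g).lTensor C (AlgebraTensorModule.assoc A B B C M N z) =
        AlgebraTensorModule.assoc A B B C M N' (g.lTensor (C ⊗[B] M) z) := fun z => by
    induction z using TensorProduct.induction_on with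
    | zero => simp
    | tmul y n =>
      induction y using TensorProduct.induction_on with
      | zero => simp
      | tmul c m => rfl
      | add a b ha hb => simp only [TensorProduct.add_tmul, map_add, ha, hb]
    | add a b ha hb => simp only [map_add, ha, hb]
  apply (AlgebraTensorModule.assoc A B B C M N).injective
  apply h
  rw [key, key, hab]

end

theorem hasLTensor {O : Type u} [CommRing O] (M : ModuleCat.{u} O) : DRing.HasLTensor O M :=
  KFlat.hasLeftDerivedFunctor_mapHomotopyCategory (KFlat.Module.cover (R := O)) (MonoidalCategory.tensorRight M)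
    DBaseChange.Adapted
    (fun K => ⟨KFlat.isKFlat_resObj _ K KFlat.Module.isFlat_cover, KFlat.isKFlat_flip_resObj _ K KFlat.Module.isFlat_cover,
      fun n => KFlat.isFlat_resObj_X _ K KFlat.Module.isFlat_cover n⟩)
    fun g _ hK hK' => DBaseChange.quasiIso_tm M g hK hK'

variable (f : X ⟶ S) (G : X.Modules)

/-- The amplitude over the base of a tensor product with a flat module. -/
theorem amplitude_tensor {A O : Type u} [CommRing A] [CommRing O] (φ : A →+* O) (P : DRing.Cx O)
    (hP : DBaseChange.Adapted P) {a b : ℤ} (h : DRing.HasTorAmplitudeIn O a b (DRing.toD P)) (M : ModuleCat.{u} O)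
    (hM : Module.Flat A ((ModuleCat.restrictScalars.{u} φ).obj M)) :
    DRing.HasTorAmplitudeIn A a b (DRing.toD (((ModuleCat.restrictScalars.{u} φ).mapHomologicalComplex
      (ComplexShape.up ℤ)).obj ((DBaseChange.tm M).obj P))) := by
  obtain ⟨E, hv, hf, ⟨e⟩⟩ := h
  haveI : DRing.HasLTensor O M := hasLTensor M
  haveI : E.IsStrictlyLE b := (CochainComplex.isStrictlyLE_iff _ _).2 fun i hi => hv i (Or.inr hi)
  obtain ⟨e₁⟩ := DBaseChange.nonempty_lTensor_iso M P hP
  obtain ⟨e₂⟩ := DBaseChange.nonempty_lTensor_iso M E (DBaseChange.adapted_of_flat E b hf)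
  let r := ModuleCat.restrictScalars.{u} φ
  refine ⟨(r.mapHomologicalComplex (ComplexShape.up ℤ)).obj ((DBaseChange.tm M).obj E),
    fun i hi => r.map_isZero ((MonoidalCategory.tensorRight M).map_isZero (hv i hi)), fun i => ?_,
    ⟨(r.mapDerivedCategoryFactors.app _).symm ≪≫
      (DRing.restrictD φ).mapIso (e₂.symm ≪≫ (DRing.LTensor O M).mapIso e ≪≫ e₁) ≪≫
      r.mapDerivedCategoryFactors.app _⟩⟩
  letI := φ.toAlgebra
  letI : Module A M := Module.compHom M φ
  haveI : IsScalarTower A O M := IsScalarTower.of_algebraMap_smul fun _ _ => rfl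
  haveI : Module.Flat A M := hM
  haveI := hf i
  letI : Module O (E.X i) := inferInstance
  letI : Module A (E.X i) := Module.compHom (E.X i) φ
  haveI : IsScalarTower A O (E.X i) := IsScalarTower.of_algebraMap_smul fun _ _ => rfl
  exact flat_tensor_of_flat (A := A) (B := O) (C := E.X i) (M := M)

theorem stalk_amplitude (hflat : FlatMod.IsFlatOver f G) (K : CochainComplex X.Modules ℤ)
    (hK : KFlat.Sch.IsAdapted K) {a b : ℤ} (x : X) (h : DerSch.HasTorAmplitudeAt (𝟙 X) a b K x) :
    DerSch.HasTorAmplitudeAt f a b (((DCoh.tensorRightMod G).mapHomologicalComplex (ComplexShape.up ℤ)).obj K) x := by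
  let φ := (f.stalkMap x).hom
  let P := ((KFlat.Sch.stF x).mapHomologicalComplex (ComplexShape.up ℤ)).obj K
  let Gx := (KFlat.Sch.stF x).obj G
  have hP : DBaseChange.Adapted P :=
    ⟨KFlat.Sch.isKFlat_stF hK.1 x,
      KFlat.DT.isKFlat_flip ((KFlat.Module.isKFlat_iff _).1 (KFlat.Sch.isKFlat_stF hK.1 x)),
      fun n => (KFlat.Module.isFlat_iff _).2 ((KFlat.Sch.isFlat_iff _).1 (hK.2.2 n) x)⟩
  have hPamp : DRing.HasTorAmplitudeIn (X.presheaf.stalk x) a b (DRing.toD P) :=
    StalkTor.hasTorAmplitudeIn_congr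
      (DerivedCategory.Q.mapIso ((NatIso.mapHomologicalComplex (StalkId.stOverIdIso x) (ComplexShape.up ℤ)).app K)) h
  refine StalkTor.hasTorAmplitudeIn_congr ?_ (amplitude_tensor φ P hP hPamp Gx (hflat x))
  exact DerivedCategory.Q.mapIso (((NatIso.mapHomologicalComplex
    (Functor.isoWhiskerRight (StalkId.stTensorRightIso x G).symm (ModuleCat.restrictScalars.{u} φ) ≪≫
      Functor.associator _ _ _ ≪≫ Functor.isoWhiskerLeft (DCoh.tensorRightMod G)
        (Functor.isoWhiskerRight (stalkFunctorIso x).symm (ModuleCat.restrictScalars.{u} φ)))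
    (ComplexShape.up ℤ)).app K))

/-- `E ⊗ G` is coherent for perfect `E`. -/
theorem isCoh_HD_tensor [IsLocallyNoetherian X] (hG : Coh.IsCoh G) (K : CochainComplex X.Modules ℤ)
    (hK : KFlat.Sch.IsAdapted K) (hE : DCoh.IsPerfect (DCoh.toD X K)) (i : ℤ) :
    Coh.IsCoh (DCoh.HD (DCoh.toD X (((DCoh.tensorRightMod G).mapHomologicalComplex (ComplexShape.up ℤ)).obj K)) i) := by
  let H := DCoh.HD (DCoh.toD X (((DCoh.tensorRightMod G).mapHomologicalComplex (ComplexShape.up ℤ)).obj K)) i
  have key : ∀ x : X, ∃ (V : X.Opens), x ∈ V ∧ Coh.IsCoh (H.restrict V.ι) := fun x => by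
    obtain ⟨V, hxV, hV⟩ := (DPerf.isPerfect_iff_approx.1 hE).exists_opens x
    obtain ⟨P, hP, α, hα⟩ := hV V le_rfl
    have := DPerf.isIso_of_dcond_univ hα
    refine ⟨V, hxV, ?_⟩
    haveI : IsLocallyNoetherian (V : Scheme.{u}) := isLocallyNoetherian_of_isOpenImmersion V.ι
    let G' := G.restrict V.ι
    haveI := KFlat.Sch.hasLTensorMod G'
    let nat : DCoh.tensorRightMod G ⋙ Scheme.Modules.restrictFunctor V.ι ≅
        Scheme.Modules.restrictFunctor V.ι ⋙ DCoh.tensorRightMod G' :=
      Functor.isoWhiskerRight (KFlat.Sch.tensorRightModIso G).symm _ ≪≫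
        (NatIso.ofComponents (fun L => M2.restrictTensorIso V.ι L G)
          (fun {L L'} g => (RHom.natural_restrictTensorIso V).left g G) :
        (KFlat.Sch.TX X).flip.obj G ⋙ Scheme.Modules.restrictFunctor V.ι ≅
          Scheme.Modules.restrictFunctor V.ι ⋙ (KFlat.Sch.TX (V : Scheme.{u})).flip.obj G') ≪≫
        Functor.isoWhiskerLeft _ (KFlat.Sch.tensorRightModIso G')
    let TG := (DCoh.tensorRightMod G).mapHomologicalComplex (ComplexShape.up ℤ)
    let TG' := (DCoh.tensorRightMod G').mapHomologicalComplex (ComplexShape.up ℤ)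
    let e : DCoh.toD (V : Scheme.{u}) ((DCoh.restrictCx V).obj (TG.obj K)) ≅ DCoh.toD (V : Scheme.{u}) (TG'.obj P) :=
      DerivedCategory.Q.mapIso ((NatIso.mapHomologicalComplex nat (ComplexShape.up ℤ)).app K) ≪≫
        (KFlat.Sch.lTensorModObjIso G' _ (KFlat.Sch.isAdapted_restrict hK V)).symm ≪≫
        (DCoh.LTensorMod G').mapIso (((DPerf.resFac V.ι).app K).symm ≪≫ (asIso α).symm) ≪≫
        KFlat.Sch.lTensorModObjIso G' P (KFlat.Sch.isAdapted_of_isStrictlyPerfect hP)
    have hterm : ∀ j, Coh.IsCoh ((TG'.obj P).X j) := fun j =>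
      have hPj : Coh.IsCoh (P.X j) := (M1.isCoh_iff_isFP _).2 (M1.isFP_of_isFinLocFree (hP.2 j))
      have hG' := DPerf.isCoh_restrict hG V.ι
      have h := (⟨M2.isQCoh_tensor hPj.1 hG'.1, M2.isFT_tensor hPj.1 hG'.1 hPj.2 hG'.2⟩ :
        Coh.IsCoh (CohB1.tensorMod (P.X j) G'))
      ⟨M1.isQCoh_of_isIso ((KFlat.Sch.tensorRightModIso G').app (P.X j)) h.1,
        M1.isFT_of_isIso ((KFlat.Sch.tensorRightModIso G').app (P.X j)) h.2⟩
    let eH : (TG'.obj P).homology i ≅ H.restrict V.ι :=
      ((DerivedCategory.homologyFunctorFactors _ i).app (TG'.obj P)).symm ≪≫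
        (DerivedCategory.homologyFunctor _ i).mapIso (e.symm ≪≫ ((DPerf.resFac V.ι).app (TG.obj K)).symm) ≪≫
        DPerf.hdResIso V.ι _ i
    have hh := DPerf.isCoh_homology hterm i
    exact ⟨M1.isQCoh_of_isIso eH hh.1, M1.isFT_of_isIso eH hh.2⟩
  choose V hxV hV using key
  exact ⟨M1.isQCoh_of_openImmersion_cover (fun x => (V x).ι) (fun x => ⟨x, ⟨⟨x, hxV x⟩, rfl⟩⟩) fun x => (hV x).1,
    M1.isFT_of_openImmersion_cover (fun x => (V x).ι) (fun x => ⟨x, ⟨⟨x, hxV x⟩, rfl⟩⟩) fun x => (hV x).2⟩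

end Groth.Agent.RelPCS8.TorTensor
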