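import Mathlib
import Groth.Agent.Lib.RelPCS8.TorTensor
import Groth.Agent.Lib.RelPCS8.PerfAt
import Groth.Agent.Lib.RHom.SingleTensor
import Groth.Agent.Lib.RHom.LeftUnit
import Groth.Agent.Lib.RHom.Five
import Groth.Agent.Lib.RHom.K0Coh
import Groth.Agent.Lib.DPerf.OneDegree
import Groth.Agent.Lib.KFlat.LpullTensor
import Groth.Agent.Lib.TensorNat17.Basic
import Groth.Agent.Lib.DPush.QCoh
import Groth.Agent.Lib.LocImm12.Noeth

/-!
# Tensor products of perfect objects with bounded coherent objects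
-/

set_option autoImplicit false
set_option backward.isDefEq.respectTransparency false
set_option backward.isDefEq.respectTransparency.types false
set_option linter.style.haveILetI false
universe u
open CategoryTheory CategoryTheory.Limits AlgebraicGeometry Pretriangulated
attribute [local instance] HasDerivedCategory.standard

namespace Groth.Agent.RelPCS8.TensorPerf

open KFlat KFlat.Sch

variable {X : Scheme.{u}}

/-- `A ⊗^L K ≅ A ⊗ K` for K-flat `A`, in either order. -/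
theorem nonempty_lt_obj (A : CochainComplex X.Modules ℤ) (hA : IsKFlat (TX X) A) [DCoh.HasLTensorCx A]
    (K : CochainComplex X.Modules ℤ) :
    Nonempty ((DCoh.LTensorCx A).obj (DCoh.toD X K) ≅ DCoh.toD X (((tcx (TX X)).obj A).obj K)) := by
  obtain ⟨K', q, hK', hq⟩ := RHom.exists_kflat_res K
  haveI := hq
  obtain ⟨e⟩ := nonempty_lTensorCxObjIso A K' hK'
  haveI : QuasiIso (((tcx (TX X)).map q).app A) := hA.quasiIso_map₁ q
  exact ⟨(DCoh.LTensorCx A).mapIso (asIso (DerivedCategory.Q.map q)).symm ≪≫ e ≪≫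
    asIso (DerivedCategory.Q.map (((tcx (TX X)).map q).app A)) ≪≫ DerivedCategory.Q.mapIso (RHom.commCx K A)⟩

theorem nonempty_lt_comm (A : CochainComplex X.Modules ℤ) (hA : IsKFlat (TX X) A) [DCoh.HasLTensorCx A]
    (K : CochainComplex X.Modules ℤ) [DCoh.HasLTensorCx K] :
    Nonempty ((DCoh.LTensorCx K).obj (DCoh.toD X A) ≅ (DCoh.LTensorCx A).obj (DCoh.toD X K)) := by
  obtain ⟨e⟩ := nonempty_lt_obj A hA K
  obtain ⟨e'⟩ := nonempty_lTensorCxObjIso K A hA
  exact ⟨e' ≪≫ e.symm⟩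

/-- The homology of `A ⊗ G[-a]` is that of `A ⊗ G`. -/
theorem nonempty_homology_single (A : CochainComplex X.Modules ℤ) (G : X.Modules) (a i : ℤ) :
    Nonempty ((((tcx (TX X)).obj A).obj (RHom.sg a G)).homology i ≅
      (((DCoh.tensorRightMod G).mapHomologicalComplex (ComplexShape.up ℤ)).obj A).homology (i - a)) :=
  ⟨(HomologicalComplex.homologyFunctor _ _ i).mapIso (RHom.singleTensorIso (TX X) a G A) ≪≫
    ((HomologicalComplex.homologyFunctor X.Modules (ComplexShape.up ℤ) 0).shiftIso (-a) i (i - a) (by omega)).app _ ≪≫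
    (HomologicalComplex.homologyFunctor _ _ (i - a)).mapIso
      ((NatIso.mapHomologicalComplex (tensorRightModIso G) (ComplexShape.up ℤ)).app A)⟩

variable [IsNoetherian X]

/-- A perfect complex has one interval of amplitude. -/
theorem exists_amplitude (A : CochainComplex X.Modules ℤ) (hA : IsAdapted A)
    (hp : DCoh.IsPerfect (DCoh.toD X A)) : ∃ a b : ℤ, ∀ x : X,
      DRing.HasTorAmplitudeIn (X.presheaf.stalk x) a b (DRing.toD (((stF x).mapHomologicalComplex _).obj A)) := by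
  classical
  have hloc : ∀ x : X, ∃ (U : X.Opens) (a b : ℤ), x ∈ U ∧ ∀ x' ∈ U,
      DRing.HasTorAmplitudeIn (X.presheaf.stalk x') a b (DRing.toD (((stF x').mapHomologicalComplex _).obj A)) := fun x => by
    obtain ⟨U, a, b, hx, -, hU⟩ := DPerf.exists_flatAmplitude_of_isPerfect hp x
    obtain ⟨E', hv, hf, ⟨e'⟩⟩ := hU
    have hT : DerSch.HasTorAmplitude (𝟙 (U : Scheme.{u})) a b ((DCoh.restrictCx U).obj A) :=
      StalkId.torAmp_stalks_of_flatAmplitude ⟨E', hv, hf, ⟨e' ≪≫ (DPerf.resFac U.ι).app A⟩⟩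
    refine ⟨U, a, b, hx, fun x' hx' => ?_⟩
    have hc : ∀ g : (U : Scheme.{u}) ⟶ X, g = U.ι → DerSch.HasTorAmplitudeAt g a b ((DCoh.restrictCx U).obj A) ⟨x', hx'⟩ := by
      rintro g rfl
      have h2 := (TorMV.torAmplitudeAt_comp_iff (𝟙 (U : Scheme.{u})) U.ι ⟨x', hx'⟩ (TorMV.bijective_stalkMap U.ι _) a b
        ((DCoh.restrictCx U).obj A)).2 (hT _)
      exact (Category.id_comp U.ι) ▸ h2
    exact StalkTor.hasTorAmplitudeIn_congr
      (DerivedCategory.Q.mapIso ((NatIso.mapHomologicalComplex (StalkId.stOverIdIso x') (ComplexShape.up ℤ)).app A))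
      ((RestrictStalk.torAmplitudeAt_restrict_iff (𝟙 X) U ⟨x', hx'⟩ a b A).1 (hc _ (Category.comp_id _)))
  choose U a b hxU hU using hloc
  obtain ⟨t, ht⟩ := (isCompact_univ (X := X)).elim_finite_subcover (fun x => (U x : Set X)) (fun x => (U x).2)
    fun x _ => Set.mem_iUnion.2 ⟨x, hxU x⟩
  obtain ⟨c, hc⟩ := (t.image a).bddBelow
  obtain ⟨d, hd⟩ := (t.image b).bddAbove
  refine ⟨c, d, fun x => ?_⟩
  obtain ⟨z, hzt, hxz⟩ := Set.mem_iUnion₂.1 (ht (Set.mem_univ x))
  exact DBaseChange.hasTorAmplitudeIn_mono (hc (Finset.mem_image_of_mem a hzt)) (hd (Finset.mem_image_of_mem b hzt))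
    (hU z x hxz)

/-- A perfect complex tensored with a coherent module. -/
theorem bd_tensor (A : CochainComplex X.Modules ℤ) (hA : IsAdapted A) (hp : DCoh.IsPerfect (DCoh.toD X A))
    (T : Set X) (G : X.Modules) (hG : Coh.IsCoh G) (hGT : CohB1.support G ⊆ T) :
    ∃ a b : ℤ, ∀ i : ℤ, (Coh.IsCoh ((((DCoh.tensorRightMod G).mapHomologicalComplex (ComplexShape.up ℤ)).obj A).homology i) ∧
      CohB1.support ((((DCoh.tensorRightMod G).mapHomologicalComplex (ComplexShape.up ℤ)).obj A).homology i) ⊆ T) ∧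
      ((i < a ∨ b < i) → IsZero ((((DCoh.tensorRightMod G).mapHomologicalComplex (ComplexShape.up ℤ)).obj A).homology i)) := by
  let L := ((DCoh.tensorRightMod G).mapHomologicalComplex (ComplexShape.up ℤ)).obj A
  obtain ⟨a, b, hab⟩ := exists_amplitude A hA hp
  have eH : ∀ (x : X) (i : ℤ), (((stF x).mapHomologicalComplex (ComplexShape.up ℤ)).obj L).ExactAt i →
      Subsingleton ((L.homology i).presheaf.stalk x) := fun x i h => by
    haveI : (stF x).PreservesHomology := ((stF x).exact_tfae.out 0 2).1 fun S hS => DPerf.shortExact_stF hS x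
    exact ModuleCat.subsingleton_of_isZero (((HomologicalComplex.exactAt_iff_isZero_homology _ i).1 h).of_iso
      ((ShortComplex.mapHomologyIso (L.sc i) (stF x)).symm))
  have e : ∀ x : X, ((stF x).mapHomologicalComplex (ComplexShape.up ℤ)).obj L ≅
      (DBaseChange.tm ((stF x).obj G)).obj (((stF x).mapHomologicalComplex (ComplexShape.up ℤ)).obj A) := fun x =>
    (NatIso.mapHomologicalComplex (StalkId.stTensorRightIso x G) (ComplexShape.up ℤ)).app A
  refine ⟨a, b, fun i => ⟨⟨?_, fun x hx => ?_⟩, fun hi => DPerf.isZero_of_stalks fun x => eH x i ?_⟩⟩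
  · exact RHom.mid_coh.iso ((DerivedCategory.homologyFunctorFactors X.Modules i).app L)
      (TorTensor.isCoh_HD_tensor G hG A hA hp i)
  · refine hGT fun hG0 => hx (eH x i ((HomologicalComplex.exactAt_iff _ i).2 (ShortComplex.exact_of_isZero_X₂ _ ?_)))
    haveI : Subsingleton ((stF x).obj G) := hG0
    exact IsZero.of_iso ((MonoidalCategory.tensorLeft _).map_isZero (ModuleCat.isZero_of_subsingleton _))
      ((StalkId.stTensorRightIso x G).app (A.X i))
  · let P := ((stF x).mapHomologicalComplex (ComplexShape.up ℤ)).obj A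
    have hP : DBaseChange.Adapted P :=
      ⟨isKFlat_stF hA.1 x, KFlat.DT.isKFlat_flip ((KFlat.Module.isKFlat_iff _).1 (isKFlat_stF hA.1 x)),
        fun n => (KFlat.Module.isFlat_iff _).2 ((KFlat.Sch.isFlat_iff _).1 (hA.2.2 n) x)⟩
    haveI := TorTensor.hasLTensor ((stF x).obj G)
    obtain ⟨E, hv, hf, ⟨u⟩⟩ := hab x
    haveI : E.IsStrictlyLE b := (CochainComplex.isStrictlyLE_iff _ _).2 fun j hj => hv j (Or.inr hj)
    obtain ⟨e₁⟩ := DBaseChange.nonempty_lTensor_iso ((stF x).obj G) P hP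
    obtain ⟨e₂⟩ := DBaseChange.nonempty_lTensor_iso ((stF x).obj G) E (DBaseChange.adapted_of_flat E b hf)
    let w := e₂.symm ≪≫ (DRing.LTensor _ ((stF x).obj G)).mapIso u ≪≫ e₁ ≪≫ DerivedCategory.Q.mapIso (e x).symm
    refine (HomologicalComplex.exactAt_iff_isZero_homology _ i).2 (IsZero.of_iso ?_
      (((DerivedCategory.homologyFunctorFactors _ i).app _).symm ≪≫
        (DerivedCategory.homologyFunctor _ i).mapIso w.symm ≪≫ (DerivedCategory.homologyFunctorFactors _ i).app _))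
    exact (HomologicalComplex.exactAt_iff_isZero_homology _ i).1 ((HomologicalComplex.exactAt_iff _ i).2
      (ShortComplex.exact_of_isZero_X₂ _ ((MonoidalCategory.tensorRight _).map_isZero (hv i hi))))

/-- Perfect ⊗ bounded coherent with support in `T` is bounded coherent with support in `T`. -/
theorem bd_lt (A : CochainComplex X.Modules ℤ) (hA : IsAdapted A) (hp : DCoh.IsPerfect (DCoh.toD X A))
    [DCoh.HasLTensorCx A] (T : Set X) {Y : DCoh.D X}
    (hY : K0Db.BdP (fun M : X.Modules => Coh.IsCoh M ∧ CohB1.support M ⊆ T) Y) :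
    K0Db.BdP (fun M : X.Modules => Coh.IsCoh M ∧ CohB1.support M ⊆ T) ((DCoh.LTensorCx A).obj Y) := by
  let P : ObjectProperty X.Modules := fun M => Coh.IsCoh M ∧ CohB1.support M ⊆ T
  have hP : K0Db.Serre P := K0Coh.serre_supported T
  let F := DCoh.LTensorCx A
  let H := fun i : ℤ => DerivedCategory.homologyFunctor X.Modules i
  have hbd : ∀ {K : DCoh.D X}, (∀ i, P ((H i).obj K)) → ∀ a b : ℤ,
      (∀ i, (i < a ∨ b < i) → IsZero ((H i).obj K)) → K0Db.BdP P K := fun h a b hz =>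
    ⟨h, a, b, (DerivedCategory.isGE_iff _ a).2 fun i hi => hz i (Or.inl hi),
      (DerivedCategory.isLE_iff _ b).2 fun i hi => hz i (Or.inr hi)⟩
  suffices h : ∀ n : ℤ, K0Db.BdP P (F.obj (Y⟦n⟧)) by
    obtain ⟨h1, a, b, ha, hb⟩ := h 0
    let e := F.mapIso ((shiftFunctorZero (DCoh.D X) ℤ).app Y)
    refine hbd (fun i => hP.iso ((H i).mapIso e) (h1 i)) a b fun i hi => IsZero.of_iso ?_ ((H i).mapIso e).symm
    rcases hi with hi | hi
    · exact DerivedCategory.isZero_of_isGE _ a i hi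
    · exact DerivedCategory.isZero_of_isLE _ b i hi
  refine K0Db.induction_bd (P := P) (fun Z => ∀ n : ℤ, K0Db.BdP P (F.obj (Z⟦n⟧))) ?_ ?_ ?_ ?_ (fun e h => hP.iso e h) Y hY
  · intro K L e h n
    obtain ⟨h1, a, b, ha, hb⟩ := h n
    let e' := F.mapIso ((shiftFunctor _ n).mapIso e)
    refine hbd (fun i => hP.iso ((H i).mapIso e') (h1 i)) a b fun i hi => IsZero.of_iso ?_ ((H i).mapIso e').symm
    rcases hi with hi | hi
    · exact DerivedCategory.isZero_of_isGE _ a i hi
    · exact DerivedCategory.isZero_of_isLE _ b i hi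
  · intro T₀ hT₀ h₁ h₃ n
    let T' := (Triangle.shiftFunctor (DCoh.D X) n).obj T₀
    have hT' : T' ∈ distTriang (DCoh.D X) := Triangle.shift_distinguished _ hT₀ n
    have g₁ : K0Db.BdP P (F.obj T'.obj₁) := h₁ n
    have g₃ : K0Db.BdP P (F.obj T'.obj₃) := h₃ n
    obtain ⟨p₁, a₁, b₁, _, _⟩ := g₁
    obtain ⟨p₃, a₃, b₃, _, _⟩ := g₃
    have g₀ : ∀ i, P ((H i).obj (F.obj (T'.obj₃⟦(-1 : ℤ)⟧))) := fun i =>
      hP.iso ((H i).mapIso (F.mapIso ((shiftFunctorAdd' (DCoh.D X) n (-1) (n - 1) (by omega)).app T₀.obj₃))) ((h₃ (n - 1)).1 i)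
    have g₄ : ∀ i, P ((H i).obj (F.obj (T'.obj₁⟦(1 : ℤ)⟧))) := fun i =>
      hP.iso ((H i).mapIso (F.mapIso ((shiftFunctorAdd' (DCoh.D X) n 1 (n + 1) rfl).app T₀.obj₁))) ((h₁ (n + 1)).1 i)
    refine hbd (fun i => ?_) (min a₁ a₃) (max b₁ b₃) fun i hi => ?_
    · obtain ⟨w₁, e₁⟩ := RHom.hExact_lt A i _ (inv_rot_of_distTriang _ hT')
      obtain ⟨w₂, e₂⟩ := RHom.hExact_lt A i _ hT'
      obtain ⟨w₃, e₃⟩ := RHom.hExact_lt A i _ (rot_of_distTriang _ hT')
      exact hP.middle _ _ _ _ w₁ w₂ w₃ e₁ e₂ e₃ (g₀ i) (p₁ i) (p₃ i) (g₄ i)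
    · obtain ⟨w₂, e₂⟩ := RHom.hExact_lt A i _ hT'
      refine e₂.isZero_of_both_zeros (IsZero.eq_of_src ?_ _ _) (IsZero.eq_of_tgt ?_ _ _)
      · rcases hi with hi | hi
        · exact DerivedCategory.isZero_of_isGE _ a₁ i (by omega)
        · exact DerivedCategory.isZero_of_isLE _ b₁ i (by omega)
      · rcases hi with hi | hi
        · exact DerivedCategory.isZero_of_isGE _ a₃ i (by omega)
        · exact DerivedCategory.isZero_of_isLE _ b₃ i (by omega)
  · intro K m h n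
    obtain ⟨h1, a, b, ha, hb⟩ := h (m + n)
    let e' := F.mapIso ((shiftFunctorAdd (DCoh.D X) m n).app K)
    refine hbd (fun i => hP.iso ((H i).mapIso e') (h1 i)) a b fun i hi => IsZero.of_iso ?_ ((H i).mapIso e').symm
    rcases hi with hi | hi
    · exact DerivedCategory.isZero_of_isGE _ a i hi
    · exact DerivedCategory.isZero_of_isLE _ b i hi
  · intro G hG n
    obtain ⟨a, b, hab⟩ := bd_tensor A hA hp T G hG.1 hG.2
    let u : ((DerivedCategory.singleFunctor X.Modules 0).obj G)⟦n⟧ ≅ DCoh.toD X (RHom.sg (-n) G) :=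
      ((DerivedCategory.singleFunctors X.Modules).shiftIso n (-n) 0 (by omega)).app G ≪≫
        (DerivedCategory.singleFunctorIsoCompQ X.Modules (-n)).app G
    obtain ⟨v⟩ := nonempty_lt_obj A hA.1 (RHom.sg (-n) G)
    have w : ∀ i, Nonempty ((H i).obj (F.obj (((DerivedCategory.singleFunctor X.Modules 0).obj G)⟦n⟧)) ≅
        (((DCoh.tensorRightMod G).mapHomologicalComplex (ComplexShape.up ℤ)).obj A).homology (i - -n)) := fun i => by
      obtain ⟨z⟩ := nonempty_homology_single A G (-n) i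
      exact ⟨(H i).mapIso (F.mapIso u ≪≫ v) ≪≫ (DerivedCategory.homologyFunctorFactors X.Modules i).app _ ≪≫ z⟩
    exact hbd (fun i => hP.iso (w i).some.symm (hab (i - -n)).1) (a - n) (b - n) fun i hi =>
      ((hab (i - -n)).2 (by omega)).of_iso (w i).some

/-- Transforms with bounded coherent kernel of a perfect object. -/
theorem rpush_lt_bd {Y : Scheme.{u}} [IsNoetherian Y] (q : X ⟶ Y) [LocallyOfFiniteType q] [DCoh.HasRpush q]
    (K : CochainComplex X.Modules ℤ) [DCoh.HasLTensorCx K] (hK : DCoh.IsCohD (DCoh.toD X K)) (k l : ℤ)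
    [(DCoh.toD X K).IsGE k] [(DCoh.toD X K).IsLE l]
    (hs : ∀ i, ClSub.IsProperOver q (CohB1.support (DCoh.HD (DCoh.toD X K) i))) (E : DCoh.D X) (hE : DCoh.IsPerfect E) :
    DCoh.IsCohD ((DCoh.Rpush q).obj ((DCoh.LTensorCx K).obj E)) ∧
      ∃ m' n' : ℤ, DerivedCategory.IsGE ((DCoh.Rpush q).obj ((DCoh.LTensorCx K).obj E)) m' ∧
        DerivedCategory.IsLE ((DCoh.Rpush q).obj ((DCoh.LTensorCx K).obj E)) n' := by
  obtain ⟨A, hA, ⟨eA⟩⟩ := exists_adapted_rep E
  have hp : DCoh.IsPerfect (DCoh.toD X A) :=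
    DPerf.isPerfect_iff_approx.2 ((DPerf.isPerfect_iff_approx.1 hE).of_iso eA.symm)
  haveI := KFlat.Sch.hasLTensorCx A
  let T : Set X := ⋃ i : ↥(Finset.Icc k l), CohB1.support (DCoh.HD (DCoh.toD X K) i.1)
  have hT : ClSub.IsProperOver q T := ClSub24.isProperOver_iUnion q _ fun i => hs i.1
  have hbd : K0Db.BdP (fun M : X.Modules => Coh.IsCoh M ∧ CohB1.support M ⊆ T) (DCoh.toD X K) := by
    refine ⟨fun i => ⟨hK i, fun x hx => ?_⟩, k, l, inferInstance, inferInstance⟩
    by_cases h : i ∈ Finset.Icc k l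
    · exact Set.mem_iUnion.2 ⟨⟨i, h⟩, hx⟩
    · exfalso
      rw [Finset.mem_Icc] at h
      have hz : IsZero (DCoh.HD (DCoh.toD X K) i) := by
        by_cases h' : i < k
        · exact DerivedCategory.isZero_of_isGE _ k i h'
        · exact DerivedCategory.isZero_of_isLE _ l i (by omega)
      exact hx (show Subsingleton _ from ModuleCat.subsingleton_of_isZero ((stF x).map_isZero hz))
  obtain ⟨hH, a, b, ha, hb⟩ := bd_lt A hA hp T hbd
  obtain ⟨c⟩ := nonempty_lt_comm A hA.1 K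
  let e : (DCoh.LTensorCx A).obj (DCoh.toD X K) ≅ (DCoh.LTensorCx K).obj E :=
    c.symm ≪≫ (DCoh.LTensorCx K).mapIso eA
  have hs' : ∀ i, ClSub.IsProperOver q (CohB1.support (DCoh.HD ((DCoh.LTensorCx A).obj (DCoh.toD X K)) i)) := fun i =>
    ClSub24.isProperOver_subset q (hH i).2 (M1.isClosed_support (hH i).1.2) hT
  have hc : DCoh.IsCohD ((DCoh.LTensorCx A).obj (DCoh.toD X K)) := fun i => (hH i).1
  haveI : DerivedCategory.IsGE ((DCoh.LTensorCx A).obj (DCoh.toD X K)) a := ha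
  have h1 := DPush9.isCohD_rpush q _ a ha hc hs'
  obtain ⟨b', hb'⟩ := DPush9.exists_isLE_rpush q _ a b ha hb hc hs'
  have h2 := DPush.isGE_rpush q _ a ha
  let e' := (DCoh.Rpush q).mapIso e
  refine ⟨fun i => RHom.mid_coh.iso ((DerivedCategory.homologyFunctor _ i).mapIso e') (h1 i), a, b',
    (DerivedCategory.isGE_iff _ a).2 fun i hi => IsZero.of_iso (DerivedCategory.isZero_of_isGE _ a i hi)
      ((DerivedCategory.homologyFunctor _ i).mapIso e').symm,
    (DerivedCategory.isLE_iff _ b').2 fun i hi => IsZero.of_iso (DerivedCategory.isZero_of_isLE _ b' i hi)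
      ((DerivedCategory.homologyFunctor _ i).mapIso e').symm⟩

end Groth.Agent.RelPCS8.TensorPerf
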