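import Mathlib
import Groth.Agent.Lib.RelPCS8.TensorPerf
import Groth.Agent.Lib.KFlat.PullbackKFlat

/-!
# Tensoring a pullback with a kernel which is flat over the source
-/

set_option autoImplicit false
set_option backward.isDefEq.respectTransparency false
set_option backward.isDefEq.respectTransparency.types false
set_option linter.style.haveILetI false
universe u
open CategoryTheory CategoryTheory.Limits AlgebraicGeometry Pretriangulated
attribute [local instance] HasDerivedCategory.standard

namespace Groth.Agent.RelPCS8.FlatKernel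

open KFlat KFlat.Sch TensorProduct

variable {X Z : Scheme.{u}} (f : Z ⟶ X) (K : Z.Modules)

section
variable {A B M : Type u} [CommRing A] [CommRing B] [Algebra A B] [AddCommGroup M] [Module A M] [Module B M]
  [IsScalarTower A B M]

theorem rTensor_baseChange_injective [Module.Flat A M] {N N' : Type u} [AddCommGroup N] [Module A N]
    [AddCommGroup N'] [Module A N'] (g : N →ₗ[A] N') (hg : Function.Injective g) :
    Function.Injective ((g.baseChange B).rTensor M) := by
  have key : ∀ z : M ⊗[B] (B ⊗[A] N),
      AlgebraTensorModule.cancelBaseChange A B B M N' ((g.baseChange B).lTensor M z) =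
        g.lTensor M (AlgebraTensorModule.cancelBaseChange A B B M N z) := fun z => by
    induction z using TensorProduct.induction_on with
    | zero => simp
    | tmul m y =>
      induction y using TensorProduct.induction_on with
      | zero => simp
      | tmul b n => simp [LinearMap.baseChange_tmul]
      | add a b ha hb => simp only [TensorProduct.tmul_add, map_add, ha, hb]
    | add a b ha hb => simp only [map_add, ha, hb]
  refine (LinearMap.lTensor_inj_iff_rTensor_inj M (g.baseChange B)).1 fun a b hab => ?_
  apply (AlgebraTensorModule.cancelBaseChange A B B M N).injective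
  apply Module.Flat.lTensor_preserves_injective_linearMap (M := M) g hg
  rw [← key, ← key, hab]

end

/-- `F ↦ f^*F ⊗ K`. -/
noncomputable abbrev G : X.Modules ⥤ Z.Modules := Scheme.Modules.pullback f ⋙ DCoh.tensorRightMod K

noncomputable def stGIso (z : Z) :
    G f K ⋙ stF z ≅ stF (f z) ⋙ ModuleCat.extendScalars (f.stalkMap z).hom ⋙ MonoidalCategory.tensorRight ((stF z).obj K) :=
  Functor.associator _ _ _ ≪≫ Functor.isoWhiskerLeft _ (StalkId.stTensorRightIso z K) ≪≫
    (Functor.associator _ _ _).symm ≪≫ Functor.isoWhiskerRight (pullStalkNatIso f z) _ ≪≫ Functor.associator _ _ _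

theorem mono_G_map (h : FlatMod.IsFlatOver f K) {M N : X.Modules} (g : M ⟶ N) [Mono g] :
    Mono ((G f K).map g) := by
  refine (KFlat.Sch.mono_iff_stalk _).2 fun z => ?_
  let φ := (f.stalkMap z).hom
  letI := φ.toAlgebra
  letI : Module (X.presheaf.stalk (f z)) ((stF z).obj K) := Module.compHom _ φ
  haveI : IsScalarTower (X.presheaf.stalk (f z)) (Z.presheaf.stalk z) ((stF z).obj K) :=
    IsScalarTower.of_algebraMap_smul fun _ _ => rfl
  haveI : Module.Flat (X.presheaf.stalk (f z)) ((stF z).obj K) := h z
  have hg : Function.Injective ((stF (f z)).map g).hom := (KFlat.Sch.mono_iff_stalk g).1 inferInstance (f z)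
  haveI : Mono ((stF (f z) ⋙ ModuleCat.extendScalars φ ⋙
      MonoidalCategory.tensorRight ((stF z).obj K)).map g) :=
    (ModuleCat.mono_iff_injective _).2
      (rTensor_baseChange_injective (B := (Z.presheaf.stalk z : Type u)) (M := ((stF z).obj K : Type u))
        ((stF (f z)).map g).hom hg)
  haveI : Mono ((G f K ⋙ stF z).map g) :=
    ((MorphismProperty.monomorphisms _).arrow_mk_iso_iff
      ((Functor.mapArrowFunctor _ _).mapIso (stGIso f K z) |>.app (Arrow.mk g))).2 (by assumption)
  exact (ModuleCat.mono_iff_injective ((G f K ⋙ stF z).map g)).1 (by assumption)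

theorem preservesHomology_G (h : FlatMod.IsFlatOver f K) : (G f K).PreservesHomology := by
  haveI : (G f K).PreservesMonomorphisms := ⟨fun g _ => mono_G_map f K h g⟩
  haveI : PreservesFiniteColimits (Scheme.Modules.pullback f) :=
    have := (Scheme.Modules.pullbackPushforwardAdjunction f).leftAdjoint_preservesColimits.{0, 0}
    inferInstance
  haveI : PreservesFiniteColimits (G f K) := inferInstance
  exact Functor.preservesHomology_of_preservesMonos_and_cokernels _

theorem support_G_subset (F : X.Modules) : CohB1.support ((G f K).obj F) ⊆ CohB1.support K := fun z hz hK => hz <| by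
  haveI : Subsingleton ((stF z).obj K) := hK
  exact ModuleCat.subsingleton_of_isZero ((show IsZero ((MonoidalCategory.tensorRight ((stF z).obj K)).obj
      ((stF z).obj ((Scheme.Modules.pullback f).obj F))) from
    (MonoidalCategory.tensorLeft _).map_isZero (ModuleCat.isZero_of_subsingleton _)).of_iso
      ((StalkId.stTensorRightIso z K).app _))

theorem isCoh_G {F : X.Modules} (hF : Coh.IsCoh F) (hK : Coh.IsCoh K) : Coh.IsCoh ((G f K).obj F) := by
  have hP := M1.isCoh_pullback f hF
  have h : Coh.IsCoh (CohB1.tensorMod ((Scheme.Modules.pullback f).obj F) K) :=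
    ⟨M2.isQCoh_tensor hP.1 hK.1, M2.isFT_tensor hP.1 hK.1 hP.2 hK.2⟩
  exact ⟨M1.isQCoh_of_isIso ((KFlat.Sch.tensorRightModIso K).app _) h.1,
    M1.isFT_of_isIso ((KFlat.Sch.tensorRightModIso K).app _) h.2⟩

/-- Cohomology of `Lf^*E ⊗^L K` for `K` flat over the source. -/
theorem nonempty_HD_iso (h : FlatMod.IsFlatOver f K) [DCoh.HasLpull f] [DCoh.HasLTensorMod K] (E : DCoh.D X) (i : ℤ) :
    Nonempty (DCoh.HD ((DCoh.LTensorMod K).obj ((DCoh.Lpull f).obj E)) i ≅ (G f K).obj (DCoh.HD E i)) := by
  obtain ⟨R, hR, ⟨eR⟩⟩ := exists_adapted_rep E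
  haveI := preservesHomology_G f K h
  let L := ((G f K).mapHomologicalComplex (ComplexShape.up ℤ)).obj R
  let e : (DCoh.LTensorMod K).obj ((DCoh.Lpull f).obj E) ≅ DCoh.toD Z L :=
    (DCoh.LTensorMod K).mapIso ((DCoh.Lpull f).mapIso eR.symm ≪≫ lpullObjIso f R hR) ≪≫
      lTensorModObjIso K _ (isAdapted_pullback f hR)
  exact ⟨(DerivedCategory.homologyFunctor _ i).mapIso e ≪≫ (DerivedCategory.homologyFunctorFactors _ i).app L ≪≫
    ShortComplex.mapHomologyIso (R.sc i) (G f K) ≪≫
    (G f K).mapIso (((DerivedCategory.homologyFunctorFactors _ i).app R).symm ≪≫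
      (DerivedCategory.homologyFunctor _ i).mapIso eR)⟩

end Groth.Agent.RelPCS8.FlatKernel
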