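import Mathlib
import Groth.Agent.Lib.RelPCS8.FlatKernel
import Groth.Agent.Lib.DBaseChange.ResTensor
import Groth.Agent.Lib.KFlat.BaseChange
import Groth.Agent.Lib.KFlat.StalkCx

/-!
# Tor amplitude of `Lf^*G ⊗^L F` relative to a composite
-/

set_option autoImplicit false
set_option backward.isDefEq.respectTransparency false
set_option backward.isDefEq.respectTransparency.types false
set_option linter.style.haveILetI false
universe u
open CategoryTheory CategoryTheory.Limits AlgebraicGeometry Pretriangulated MonoidalCategory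
attribute [local instance] HasDerivedCategory.standard

namespace Groth.Agent.RelPCS8.TensorAmp

open KFlat

section Ring

variable {A B C : Type u} [CommRing A] [CommRing B] [CommRing C] (φ : A →+* B) (ψ : B →+* C)

theorem hasLTensorCx (L : DRing.Cx B) : DRing.HasLTensorCx B L :=
  hasLeftDerivedFunctor_comp_Q (Module.cover (R := B)) ((tcx (Module.TM B)).flip.obj L) (fun K => IsKFlat (Module.TM B) K)
    (fun K => isKFlat_resObj _ K Module.isFlat_cover)
    fun {K K'} φ _ hK hK' => DBaseChange.quasiIso_whiskerRight_of_kFlat L φ ((Module.isKFlat_iff _).1 hK) ((Module.isKFlat_iff _).1 hK')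

theorem exists_iso_tensor (L : DRing.Cx B) (hL : IsKFlat (Module.TM B) L) {P E : DRing.Cx B}
    (hE : IsKFlat (Module.TM B) E) (e : DRing.toD E ≅ DRing.toD P) :
    Nonempty (DRing.toD (E ⊗ L) ≅ DRing.toD (P ⊗ L)) := by
  haveI := hasLTensorCx L
  let P' := resObj (Module.cover (R := B)) P
  let q := resπ (Module.cover (R := B)) P
  haveI : QuasiIso q := quasiIso_resπ (Module.cover (R := B)) P
  haveI : QuasiIso (q ▷ L) := hL.quasiIso_map₁ q
  obtain ⟨t⟩ := DBaseChange.nonempty_lTensorCx_iso L ((Module.isKFlat_iff _).1 hE)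
  obtain ⟨t'⟩ := DBaseChange.nonempty_lTensorCx_iso L ((Module.isKFlat_iff _).1 (isKFlat_resObj (Module.cover (R := B)) P Module.isFlat_cover))
  exact ⟨t.symm ≪≫ (DRing.LTensorCx B L).mapIso (e ≪≫ (asIso (DerivedCategory.Q.map q)).symm) ≪≫ t' ≪≫
    asIso (DerivedCategory.Q.map (q ▷ L))⟩

/-- The amplitude over `A` of `(C ⊗_B L) ⊗_C F`. -/
theorem amp_ring (L : DRing.Cx B) (hLf : IsKFlat (Module.TM B) L) {a b c d : ℤ}
    (hL : DRing.HasTorAmplitudeIn A c d (DRing.toD ((DRing.restrictCx φ).obj L))) (F : DRing.Cx C)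
    (hF : DRing.HasTorAmplitudeIn B a b (DRing.toD ((DRing.restrictCx ψ).obj F))) :
    DRing.HasTorAmplitudeIn A (a + c) (b + d) (DRing.toD ((DRing.restrictCx φ).obj ((DRing.restrictCx ψ).obj
      (((tcx (Module.TM C)).obj (((ModuleCat.extendScalars ψ).mapHomologicalComplex (ComplexShape.up ℤ)).obj L)).obj F)))) := by
  obtain ⟨E, hv, hE, ⟨e⟩⟩ := hF
  haveI := ((DMod.vanishesOutside_iff E a b).1 hv).2
  obtain ⟨t⟩ := exists_iso_tensor L hLf (DBaseChange.isKFlat_of_boundedAbove E b hE |> (Module.isKFlat_iff _).2) e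
  let u : ((DRing.restrictCx ψ).obj F) ⊗ L ≅ (DRing.restrictCx ψ).obj
      (((tcx (Module.TM C)).obj (((ModuleCat.extendScalars ψ).mapHomologicalComplex (ComplexShape.up ℤ)).obj L)).obj F) :=
    (Module.projCxIso ψ F L).symm ≪≫ (DRing.restrictCx ψ).mapIso
      (DTen.braidCx F (((ModuleCat.extendScalars ψ).mapHomologicalComplex (ComplexShape.up ℤ)).obj L))
  refine StalkTor.hasTorAmplitudeIn_congr ?_ (DBaseChange.torAmp_res_tensor φ L hL E a b hv hE)
  exact ((ModuleCat.restrictScalars.{u} φ).mapDerivedCategoryFactors.app (E ⊗ L)).symm ≪≫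
    (DRing.restrictD φ).mapIso (t ≪≫ DerivedCategory.Q.mapIso u) ≪≫
    (ModuleCat.restrictScalars.{u} φ).mapDerivedCategoryFactors.app _

end Ring

open Sch

variable {X Y Z : Scheme.{u}} (f : X ⟶ Y) (g : Y ⟶ Z)

/-- Stalks over the base, through the stalks as modules. -/
noncomputable def stalkOverCxIso (x : X) (K : CochainComplex X.Modules ℤ) :
    (DerSch.stalkCxOver f x).obj K ≅ (DRing.restrictCx (f.stalkMap x).hom).obj (((stF x).mapHomologicalComplex (ComplexShape.up ℤ)).obj K) :=
  HomologicalComplex.Hom.isoOfComponents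
    (fun i => (ModuleCat.restrictScalars.{u} (f.stalkMap x).hom).mapIso ((TorTensor.stalkFunctorIso x).app (K.X i)))
    fun i j _ => by
      exact ((ModuleCat.restrictScalars.{u} (f.stalkMap x).hom).map_comp _ _).symm.trans
        ((congrArg _ ((TorTensor.stalkFunctorIso x).hom.naturality (K.d i j)).symm).trans
          ((ModuleCat.restrictScalars.{u} (f.stalkMap x).hom).map_comp _ _))

noncomputable def pullStalkCxIso (x : X) (R : CochainComplex Y.Modules ℤ) :
    ((stF x).mapHomologicalComplex (ComplexShape.up ℤ)).obj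
        (((Scheme.Modules.pullback f).mapHomologicalComplex (ComplexShape.up ℤ)).obj R) ≅
      ((ModuleCat.extendScalars (f.stalkMap x).hom).mapHomologicalComplex (ComplexShape.up ℤ)).obj
        (((stF (f x)).mapHomologicalComplex (ComplexShape.up ℤ)).obj R) :=
  HomologicalComplex.Hom.isoOfComponents (fun i => (pullStalkNatIso f x).app (R.X i))
    fun i j _ => ((pullStalkNatIso f x).hom.naturality (R.d i j)).symm

noncomputable def stalkPullTensorIso₁ (x : X) (R : CochainComplex Y.Modules ℤ) (K : DRing.Cx (X.presheaf.stalk x)) :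
    ((tcx (Module.TM (X.presheaf.stalk x))).obj (((stF x).mapHomologicalComplex (ComplexShape.up ℤ)).obj
        (((Scheme.Modules.pullback f).mapHomologicalComplex (ComplexShape.up ℤ)).obj R))).obj K ≅
    ((tcx (Module.TM (X.presheaf.stalk x))).obj
      (((ModuleCat.extendScalars (f.stalkMap x).hom).mapHomologicalComplex (ComplexShape.up ℤ)).obj
        (((stF (f x)).mapHomologicalComplex (ComplexShape.up ℤ)).obj R))).obj K :=
  ((tcx (Module.TM (X.presheaf.stalk x))).mapIso (pullStalkCxIso f x R)).app K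

/-- The stalk of `f^*R ⊗ F`. -/
noncomputable def stalkPullTensorIso (x : X) (R : CochainComplex Y.Modules ℤ) (F : CochainComplex X.Modules ℤ) :
    ((tcx (Module.TM (X.presheaf.stalk x))).obj
      (((ModuleCat.extendScalars (f.stalkMap x).hom).mapHomologicalComplex (ComplexShape.up ℤ)).obj
        (((stF (f x)).mapHomologicalComplex (ComplexShape.up ℤ)).obj R))).obj
          (((stF x).mapHomologicalComplex (ComplexShape.up ℤ)).obj F) ≅
      ((stF x).mapHomologicalComplex (ComplexShape.up ℤ)).obj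
        (((tcx (TX X)).obj (((Scheme.Modules.pullback f).mapHomologicalComplex (ComplexShape.up ℤ)).obj R)).obj F) :=
  (stalkPullTensorIso₁ f x R (((stF x).mapHomologicalComplex (ComplexShape.up ℤ)).obj F)).symm ≪≫ (stTensorCxIso x (((Scheme.Modules.pullback f).mapHomologicalComplex (ComplexShape.up ℤ)).obj R) F).symm

theorem amp_stalk {G R : CochainComplex Y.Modules ℤ} (hR : IsKFlat (TX Y) R) (eR : DCoh.toD Y R ≅ DCoh.toD Y G)
    (F : CochainComplex X.Modules ℤ) {a b c d : ℤ} (x : X) (hF : DerSch.HasTorAmplitudeAt f a b F x)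
    (hG : DerSch.HasTorAmplitudeAt g c d G (f x)) :
    DerSch.HasTorAmplitudeAt (f ≫ g) (a + c) (b + d)
      (((tcx (TX X)).obj (((Scheme.Modules.pullback f).mapHomologicalComplex (ComplexShape.up ℤ)).obj R)).obj F) x := by
  haveI := (StalkId.preservesFiniteLimits_stalkOver g (f x)).1
  haveI := (StalkId.preservesFiniteLimits_stalkOver g (f x)).2
  have h := amp_ring (g.stalkMap (f x)).hom (f.stalkMap x).hom _ (isKFlat_stF hR (f x))
    (StalkTor.hasTorAmplitudeIn_congr (StalkId.stalkToDIso (f x) g eR.symm ≪≫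
      DerivedCategory.Q.mapIso (stalkOverCxIso g (f x) R)) hG) _
    (StalkTor.hasTorAmplitudeIn_congr (DerivedCategory.Q.mapIso (stalkOverCxIso f x F)) hF)
  exact StalkTor.hasTorAmplitudeIn_congr (DerivedCategory.Q.mapIso
    ((DRing.restrictCx (g.stalkMap (f x)).hom).mapIso
      ((DRing.restrictCx (f.stalkMap x).hom).mapIso (stalkPullTensorIso f x R F) ≪≫ (stalkOverCxIso f x _).symm) ≪≫
    ((StalkTor.stalkCxCompIso f g x).app _).symm)) h

/-- `Lf^*G ⊗^L F` relative to the composite. -/
theorem torAmplitude_lt_lpull [DCoh.HasLpull f] (F : CochainComplex X.Modules ℤ) [DCoh.HasLTensorCx F] (G : CochainComplex Y.Modules ℤ)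
    {a b c d : ℤ} (hF : DerSch.HasTorAmplitude f a b F) (hG : DerSch.HasTorAmplitude g c d G) :
    DerSch.HasTorAmplitudeD (f ≫ g) (a + c) (b + d)
      ((DCoh.LTensorCx F).obj ((DCoh.Lpull f).obj (DCoh.toD Y G))) := by
  obtain ⟨R, hR, ⟨eR⟩⟩ := exists_adapted_rep (DCoh.toD Y G)
  obtain ⟨t⟩ := nonempty_lTensorCxObjIso F _ (isKFlat_pullback f hR.1)
  intro W' hW'
  obtain ⟨e⟩ := hW'
  intro x
  haveI := (StalkId.preservesFiniteLimits_stalkOver (f ≫ g) x).1
  haveI := (StalkId.preservesFiniteLimits_stalkOver (f ≫ g) x).2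
  refine StalkTor.hasTorAmplitudeIn_congr (StalkId.stalkToDIso x (f ≫ g) ?_)
    (amp_stalk f g hR.1 eR F x (hF x) (hG (f x)))
  exact (t.symm ≪≫ (DCoh.LTensorCx F).mapIso ((lpullObjIso f R hR).symm ≪≫ (DCoh.Lpull f).mapIso eR)) ≪≫ e.symm

end Groth.Agent.RelPCS8.TensorAmp
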