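import Groth.Prelude.Def_DerSch2
import Groth.Agent.Lib.CohFound.ClosedImmPush
import Groth.Agent.Lib.DPerf.Top
import Groth.Agent.Lib.ModM1.Pull
import Groth.Agent.Lib.SerreCl8.Sub

/-!
# Charts of relative pseudo-coherence: exactness of direct image, cohomology sheaves
-/

universe u

open CategoryTheory Limits AlgebraicGeometry Opposite TopologicalSpace

attribute [local instance] HasDerivedCategory.standard

set_option backward.isDefEq.respectTransparency false

namespace Groth.Agent.RelPCS8

variable {X Y Z : Scheme.{u}} (i : Z ⟶ X) [IsClosedImmersion i]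

theorem stalkPush_bijective (M : Z.Modules) (z : Z) :
    Function.Bijective (TopCat.Presheaf.stalkPushforward AddCommGrpCat.{u} i.base M.presheaf z) := by
  have := TopCat.Presheaf.stalkPushforward.stalkPushforward_iso_of_isInducing (C := AddCommGrpCat.{u})
    (f := i.base) i.isClosedEmbedding.isInducing M.presheaf z
  exact ConcreteCategory.bijective_of_isIso _

theorem stalkPush_natural {N N' : Z.Modules} (φ : N ⟶ N') (z : Z)
    (a : ((Scheme.Modules.pushforward i).obj N).presheaf.stalk (i z)) :
    (M1.stalkAb z).map φ (TopCat.Presheaf.stalkPushforward AddCommGrpCat.{u} i.base N.presheaf z a) =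
      TopCat.Presheaf.stalkPushforward AddCommGrpCat.{u} i.base N'.presheaf z
        ((M1.stalkAb (i z)).map ((Scheme.Modules.pushforward i).map φ) a) := by
  obtain ⟨U, hU, s, rfl⟩ := ((Scheme.Modules.pushforward i).obj N).presheaf.exists_germ_eq a
  rw [M1.germ_naturality]
  erw [TopCat.Presheaf.stalkPushforward_germ_apply, TopCat.Presheaf.stalkPushforward_germ_apply]
  exact M1.germ_naturality φ (i ⁻¹ᵁ U) z hU s

/-- Direct image along a closed immersion preserves epimorphisms. -/
theorem preservesEpimorphisms_push : (Scheme.Modules.pushforward i).PreservesEpimorphisms := by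
  refine ⟨fun {N N'} φ _ => (M1.epi_iff_stalk _).2 fun x b => ?_⟩
  by_cases hx : x ∈ Set.range i
  · obtain ⟨z, rfl⟩ := hx
    obtain ⟨c, hc⟩ := (M1.epi_iff_stalk φ).1 inferInstance z
      (TopCat.Presheaf.stalkPushforward AddCommGrpCat.{u} i.base N'.presheaf z b)
    obtain ⟨a, rfl⟩ := (stalkPush_bijective i N z).2 c
    exact ⟨a, (stalkPush_bijective i N' z).1 ((stalkPush_natural i φ z a).symm.trans hc)⟩
  · exact ⟨0, (map_zero _).trans (M1.eq_zero_stalk_push i N' hx b).symm⟩

theorem preservesHomology_push : (Scheme.Modules.pushforward i).PreservesHomology := by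
  haveI := preservesEpimorphisms_push i
  haveI : PreservesFiniteLimits (Scheme.Modules.pushforward i) :=
    haveI := (Scheme.Modules.pullbackPushforwardAdjunction i).rightAdjoint_preservesLimits
    inferInstance
  exact Functor.preservesHomology_of_preservesEpis_and_kernels _

/-- A module whose direct image along a closed immersion is quasi-coherent is quasi-coherent. -/
theorem isQCoh_of_push {M : Z.Modules} (h : Coh.IsQCoh ((Scheme.Modules.pushforward i).obj M)) : Coh.IsQCoh M := by
  have := M1.isIso_unit_of_ker_smul i ((Scheme.Modules.pushforward i).obj M) h (CohFound.ker_smul_push i M)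
  have : IsIso ((Scheme.Modules.pushforward i).map ((Scheme.Modules.pullbackPushforwardAdjunction i).counit.app M)) := by
    have h := (Scheme.Modules.pullbackPushforwardAdjunction i).right_triangle_components M
    rw [← IsIso.eq_inv_comp, Category.comp_id] at h
    rw [h]; infer_instance
  have := CohFound.isIso_of_isIso_push i ((Scheme.Modules.pullbackPushforwardAdjunction i).counit.app M)
  exact M1.isQCoh_of_isIso (asIso ((Scheme.Modules.pullbackPushforwardAdjunction i).counit.app M))
    (M1.isQCoh_pullback i h)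

/-- A module with vanishing direct image along a closed immersion vanishes. -/
theorem isZero_of_push {M : Z.Modules} (h : IsZero ((Scheme.Modules.pushforward i).obj M)) : IsZero M := by
  haveI : IsIso ((Scheme.Modules.pushforward i).map (0 : M ⟶ M)) :=
    ⟨0, h.eq_of_src _ _, h.eq_of_src _ _⟩
  have := CohFound.isIso_of_isIso_push i (0 : M ⟶ M)
  exact IsZero.of_mono_eq_zero (0 : M ⟶ M) rfl

theorem notMem_support_of_isZero {M : X.Modules} (h : IsZero M) (x : X) : x ∉ CohB1.support M := fun hx => hx
  ⟨fun a b => by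
    haveI : Epi (0 : M ⟶ M) := ⟨fun _ _ _ => h.eq_of_src _ _⟩
    haveI : Mono (0 : M ⟶ M) := ⟨fun _ _ _ => h.eq_of_tgt _ _⟩
    have h0 : ∀ c, (M1.stalkAb x).map (0 : M ⟶ M) c = 0 := fun c => by
      obtain ⟨U, hU, s, rfl⟩ := M.presheaf.exists_germ_eq c
      rw [M1.germ_naturality]
      exact map_zero _
    exact (M1.mono_iff_stalk (0 : M ⟶ M)).1 inferInstance x ((h0 a).trans (h0 b).symm)⟩

section Chart

variable {U : X.Opens} {R : Type u} [CommRing R] {n : ℕ}

theorem isClosedImmersion_chartImm (hU : IsAffineOpen U) (φ : MvPolynomial (Fin n) R →+* Γ(X, U))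
    (hφ : Function.Surjective φ) : IsClosedImmersion (DerSch.chartImm U φ) := by
  haveI : IsAffine (U : Scheme.{u}) := hU
  haveI : IsClosedImmersion (Spec.map (CommRingCat.ofHom φ)) :=
    IsClosedImmersion.spec_of_surjective _ (by exact hφ)
  haveI : IsIso U.toSpecΓ := by rw [← hU.isoSpec_hom]; infer_instance
  haveI : IsClosedImmersion U.toSpecΓ := inferInstance
  exact inferInstanceAs (IsClosedImmersion (U.toSpecΓ ≫ Spec.map (CommRingCat.ofHom φ)))

variable {i' : (U : Scheme.{u}) ⟶ Y}

/-- Cohomology of the direct image of a restricted complex. -/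
noncomputable def hdPushIso (g : (U : Scheme.{u}) ⟶ Y) [IsClosedImmersion g]
    (G : CochainComplex X.Modules ℤ) (k : ℤ) :
    DCoh.HD (DCoh.toD Y ((DerSch.pushCx g).obj ((DCoh.restrictCx U).obj G))) k ≅
      (Scheme.Modules.pushforward g).obj ((G.homology k).restrict U.ι) :=
  haveI := preservesHomology_push g
  (DerivedCategory.homologyFunctorFactors Y.Modules k).app _ ≪≫
    (((DCoh.restrictCx U).obj G).sc k).mapHomologyIso (Scheme.Modules.pushforward g) ≪≫
    (Scheme.Modules.pushforward g).mapIso ((G.sc k).mapHomologyIso (Scheme.Modules.restrictFunctor U.ι))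

/-- Cohomology sheaves of any representative. -/
noncomputable def hdRepIso {K : DCoh.D X} {G : CochainComplex X.Modules ℤ} (e : DCoh.toD X G ≅ K) (k : ℤ) :
    G.homology k ≅ DCoh.HD K k :=
  ((DerivedCategory.homologyFunctorFactors X.Modules k).app G).symm ≪≫
    (DerivedCategory.homologyFunctor X.Modules k).mapIso e

/-- On a chart, cohomology sheaves are quasi-coherent above `m`. -/
theorem isQCoh_of_chartPC {Y' : Scheme.{u}} {V : Y'.Opens} {m : ℤ} {K : DCoh.D X} (hU : IsAffineOpen U)
    (φ : MvPolynomial (Fin n) Γ(Y', V) →+* Γ(X, U)) (hφ : Function.Surjective φ)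
    (h : DerSch.ChartPC m K U V φ) {k : ℤ} (hk : m < k) : Coh.IsQCoh ((DCoh.HD K k).restrict U.ι) := by
  haveI := isClosedImmersion_chartImm hU φ hφ
  let G := (DerivedCategory.Q (C := X.Modules)).objPreimage K
  let e : DCoh.toD X G ≅ K := (DerivedCategory.Q (C := X.Modules)).objObjPreimageIso K
  have h1 := M1.isQCoh_of_isIso (hdPushIso (DerSch.chartImm U φ) G k) (DPerf.isQCoh_HD (h G ⟨e⟩) hk)
  exact M1.isQCoh_of_isIso ((Scheme.Modules.restrictFunctor U.ι).mapIso (hdRepIso e k)) (isQCoh_of_push _ h1)

/-- On a chart, cohomology sheaves vanish in high degrees. -/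
theorem exists_isZero_of_chartPC {Y' : Scheme.{u}} {V : Y'.Opens} {m : ℤ} {K : DCoh.D X} (hU : IsAffineOpen U)
    (φ : MvPolynomial (Fin n) Γ(Y', V) →+* Γ(X, U)) (hφ : Function.Surjective φ)
    (h : DerSch.ChartPC m K U V φ) : ∃ b : ℤ, ∀ k, b < k → IsZero ((DCoh.HD K k).restrict U.ι) := by
  classical
  haveI := isClosedImmersion_chartImm hU φ hφ
  let G := (DerivedCategory.Q (C := X.Modules)).objPreimage K
  let e : DCoh.toD X G ≅ K := (DerivedCategory.Q (C := X.Modules)).objObjPreimageIso K
  let K' := DCoh.toD _ ((DerSch.pushCx (DerSch.chartImm U φ)).obj ((DCoh.restrictCx U).obj G))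
  choose Z j hj hx hZ using DPerf.approx_of_isPseudoCoherentD (h G ⟨e⟩)
  choose E hE α hα using hZ
  choose a b hb using fun x => (hE x).1
  obtain ⟨t, ht⟩ := CompactSpace.elim_nhds_subcover (fun x => Set.range (j x)) fun x =>
    ((j x).isOpenEmbedding.isOpen_range).mem_nhds (hx x)
  obtain ⟨B, hB⟩ : ∃ B : ℤ, ∀ x ∈ t, b x ≤ B :=
    ⟨if ht : t.Nonempty then t.sup' ht b else 0, fun x hx => by
      rw [dif_pos ⟨x, hx⟩]; exact Finset.le_sup' b hx⟩
  refine ⟨max B m, fun k hk => ?_⟩
  have hzero : IsZero (DCoh.HD K' k) := by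
    refine SerreCl8.isZero_of_support_eq_empty (Set.eq_empty_of_forall_notMem fun y hy => ?_)
    obtain ⟨x, hxt, z, hz⟩ : ∃ x ∈ t, y ∈ Set.range (j x) := by
      have : y ∈ ⋃ x ∈ t, Set.range (j x) := ht.symm ▸ Set.mem_univ y
      simpa using this
    have := DPerf.isIso_of_dcond (hα x) (i := k) (lt_of_le_of_lt (le_max_right _ _) hk)
    have h0 : IsZero (DCoh.HD (DCoh.toD _ (E x)) k) :=
      (KFlat.Sch.isZero_HD_toD_iff (E x) k).2 (HomologicalComplex.ExactAt.of_isZero
        (hb x k (Or.inr (lt_of_le_of_lt ((hB x hxt).trans (le_max_left _ _)) hk))))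
    have h1 : IsZero ((DCoh.HD K' k).restrict (j x)) :=
      h0.of_iso (asIso ((DerivedCategory.homologyFunctor _ k).map (α x)) ≪≫ DPerf.hdResIso (j x) K' k).symm
    rw [← hz, ← M1.subsingleton_stalk_restrict_iff] at hy
    exact notMem_support_of_isZero h1 z hy
  exact ((isZero_of_push _ (hzero.of_iso (hdPushIso (DerSch.chartImm U φ) G k).symm)).of_iso
    ((Scheme.Modules.restrictFunctor U.ι).mapIso (hdRepIso e k)).symm)

end Chart

end Groth.Agent.RelPCS8
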