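import Groth.Agent.Lib.RelPCS8.Push
import Groth.Agent.Lib.CohFound.RpushQCoh
import Groth.Agent.Lib.DPerf.Free
import Groth.Agent.Lib.PCoh.Criteria
import Mathlib.Algebra.Homology.DerivedCategory.TStructure

/-!
# Direct image along a closed immersion preserves and reflects pseudo-coherence
-/

universe u

open CategoryTheory Limits CategoryTheory.Pretriangulated AlgebraicGeometry Opposite TopologicalSpace

attribute [local instance] HasDerivedCategory.standard

set_option backward.isDefEq.respectTransparency false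

namespace Groth.Agent.RelPCS8

variable {X Y Z W : Scheme.{u}}

instance additive_push (i : Z ⟶ X) : (Scheme.Modules.pushforward i).Additive :=
  haveI : PreservesBinaryBiproducts (Scheme.Modules.pushforward i) :=
    haveI := (Scheme.Modules.pullbackPushforwardAdjunction i).rightAdjoint_preservesLimits
    preservesBinaryBiproducts_of_preservesBinaryProducts _
  Functor.additive_of_preservesBinaryBiproducts _

instance preservesFiniteLimits_push (i : Z ⟶ X) : PreservesFiniteLimits (Scheme.Modules.pushforward i) :=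
  haveI := (Scheme.Modules.pullbackPushforwardAdjunction i).rightAdjoint_preservesLimits
  inferInstance

instance preservesFiniteColimits_push (i : Z ⟶ X) [IsClosedImmersion i] :
    PreservesFiniteColimits (Scheme.Modules.pushforward i) := by
  haveI := preservesHomology_push i
  exact (Functor.preservesFiniteColimits_iff_forall_exact_map_and_epi _).2 fun S hS =>
    haveI := hS.epi_g
    ⟨hS.exact.map _, inferInstanceAs (Epi ((Scheme.Modules.pushforward i).map S.g))⟩

instance faithful_push (i : Z ⟶ X) [IsClosedImmersion i] : (Scheme.Modules.pushforward i).Faithful where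
  map_injective {M N φ ψ} h := by
    ext U s
    obtain ⟨V, hV, e⟩ := (i.isClosedEmbedding.isInducing.isOpen_iff).1 U.isOpen
    obtain rfl : U = i ⁻¹ᵁ ⟨V, hV⟩ := Opens.ext e.symm
    exact congrArg (fun t => Scheme.Modules.Hom.app t ⟨V, hV⟩ s) h

/-- Direct image along a closed immersion on derived categories. -/
noncomputable abbrev pushD (i : Z ⟶ X) [IsClosedImmersion i] : DCoh.D Z ⥤ DCoh.D X :=
  (Scheme.Modules.pushforward i).mapDerivedCategory

/-- Termwise direct image. -/
noncomputable abbrev pushX (i : Z ⟶ X) : CochainComplex Z.Modules ℤ ⥤ CochainComplex X.Modules ℤ :=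
  (Scheme.Modules.pushforward i).mapHomologicalComplex (ComplexShape.up ℤ)

/-- `Q` commutes with direct image. -/
noncomputable def pushFac (i : Z ⟶ X) [IsClosedImmersion i] :
    DerivedCategory.Q ⋙ pushD i ≅ pushX i ⋙ DerivedCategory.Q :=
  (Scheme.Modules.pushforward i).mapDerivedCategoryFactors

section BaseChange

variable {i : Z ⟶ X} {i' : W ⟶ Y} {u' : W ⟶ Z} {v : Y ⟶ X} [IsClosedImmersion i] [IsClosedImmersion i']
  [IsOpenImmersion u'] [IsOpenImmersion v]

/-- Restriction commutes with direct image, as functors. -/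
noncomputable def pushBCFunctor (H : IsPullback i' u' v i) :
    Scheme.Modules.pushforward i ⋙ Scheme.Modules.restrictFunctor v ≅
      Scheme.Modules.restrictFunctor u' ⋙ Scheme.Modules.pushforward i' :=
  NatIso.ofComponents (fun F => M1.pushRestrictIso H F) fun φ => CohFound.pushRestrictIso_natural H φ

/-- Restriction commutes with direct image on complexes. -/
noncomputable def pushBCX (H : IsPullback i' u' v i) :
    pushX i ⋙ DPerf.resX v ≅ DPerf.resX u' ⋙ pushX i' :=
  NatIso.mapHomologicalComplex (pushBCFunctor H) (ComplexShape.up ℤ)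

/-- Restriction commutes with direct image on derived categories. -/
noncomputable def pushBC (H : IsPullback i' u' v i) : pushD i ⋙ DPerf.resD v ≅ DPerf.resD u' ⋙ pushD i' :=
  letI : Localization.Lifting DerivedCategory.Q
      (HomologicalComplex.quasiIso Z.Modules (ComplexShape.up ℤ))
      (pushX i ⋙ DPerf.resX v ⋙ DerivedCategory.Q) (pushD i ⋙ DPerf.resD v) :=
    ⟨(Functor.associator _ _ _).symm ≪≫ Functor.isoWhiskerRight (pushFac i) _ ≪≫ Functor.associator _ _ _ ≪≫
      Functor.isoWhiskerLeft _ (DPerf.resFac v)⟩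
  letI : Localization.Lifting DerivedCategory.Q
      (HomologicalComplex.quasiIso Z.Modules (ComplexShape.up ℤ))
      (DPerf.resX u' ⋙ pushX i' ⋙ DerivedCategory.Q) (DPerf.resD u' ⋙ pushD i') :=
    ⟨(Functor.associator _ _ _).symm ≪≫ Functor.isoWhiskerRight (DPerf.resFac u') _ ≪≫
      Functor.associator _ _ _ ≪≫ Functor.isoWhiskerLeft _ (pushFac i')⟩
  Localization.liftNatIso DerivedCategory.Q (HomologicalComplex.quasiIso Z.Modules (ComplexShape.up ℤ))
    (pushX i ⋙ DPerf.resX v ⋙ DerivedCategory.Q) (DPerf.resX u' ⋙ pushX i' ⋙ DerivedCategory.Q) _ _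
    ((Functor.associator _ _ _).symm ≪≫ Functor.isoWhiskerRight (pushBCX H) _ ≪≫ Functor.associator _ _ _)

end BaseChange

/-- The pullback square of an open of the target. -/
theorem isPullback_open (i : Z ⟶ X) (V : X.Opens) :
    IsPullback (i ∣_ V) (i ⁻¹ᵁ V).ι V.ι i :=
  isPullback_morphismRestrict i V

/-- Cohomology of a direct image. -/
noncomputable def hdPushDIso (i : Z ⟶ X) [IsClosedImmersion i] (K : DCoh.D Z) (k : ℤ) :
    DCoh.HD ((pushD i).obj K) k ≅ (Scheme.Modules.pushforward i).obj (DCoh.HD K k) :=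
  haveI := preservesHomology_push i
  let F := (DerivedCategory.Q (C := Z.Modules)).objPreimage K
  let e : DCoh.toD Z F ≅ K := (DerivedCategory.Q (C := Z.Modules)).objObjPreimageIso K
  (DerivedCategory.homologyFunctor X.Modules k).mapIso ((pushD i).mapIso e.symm ≪≫ (pushFac i).app F) ≪≫
    (DerivedCategory.homologyFunctorFactors X.Modules k).app _ ≪≫
    (F.sc k).mapHomologyIso (Scheme.Modules.pushforward i) ≪≫
    (Scheme.Modules.pushforward i).mapIso
      (((DerivedCategory.homologyFunctorFactors Z.Modules k).app F).symm ≪≫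
        (DerivedCategory.homologyFunctor Z.Modules k).mapIso e)

theorem isZero_HD_push_iff (i : Z ⟶ X) [IsClosedImmersion i] (K : DCoh.D Z) (k : ℤ) :
    IsZero (DCoh.HD ((pushD i).obj K) k) ↔ IsZero (DCoh.HD K k) :=
  ⟨fun h => isZero_of_push i (h.of_iso (hdPushDIso i K k).symm),
    fun h => ((Scheme.Modules.pushforward i).map_isZero h).of_iso (hdPushDIso i K k)⟩

theorem isFT_of_push (i : Z ⟶ X) [IsClosedImmersion i] {M : Z.Modules}
    (h : CohB1.IsFT ((Scheme.Modules.pushforward i).obj M)) : CohB1.IsFT M := by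
  let adj := Scheme.Modules.pullbackPushforwardAdjunction i
  haveI : IsSplitEpi ((Scheme.Modules.pushforward i).map (adj.counit.app M)) :=
    ⟨⟨adj.unit.app _, adj.right_triangle_components M⟩⟩
  haveI : Epi (adj.counit.app M) :=
    (Scheme.Modules.pushforward i).epi_of_epi_map (inferInstance : Epi ((Scheme.Modules.pushforward i).map (adj.counit.app M)))
  exact M1.isFT_of_epi (adj.counit.app M) (M1.isFT_pullback i h)

theorem approx_of_empty {s : Set ℤ} [IsEmpty X] (K : DCoh.D X) : DPerf.Approx s K := fun x => isEmptyElim x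

/-- The coproduct of `n + 1` copies. -/
noncomputable def freeModSuccIso (X : Scheme.{u}) (n : ℕ) :
    FlatMod.freeMod X (n + 1) ≅ Coh.structureModule X ⊞ FlatMod.freeMod X n where
  hom := Sigma.desc (Fin.cases biprod.inl fun j => Sigma.ι (fun _ : Fin n => Coh.structureModule X) j ≫ biprod.inr)
  inv := biprod.desc (Sigma.ι (fun _ : Fin (n + 1) => Coh.structureModule X) 0)
    (Sigma.desc fun j => Sigma.ι (fun _ : Fin (n + 1) => Coh.structureModule X) j.succ)
  hom_inv_id := Sigma.hom_ext _ _ fun j => by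
    refine Fin.cases ?_ (fun j => ?_) j
    · rw [Sigma.ι_desc_assoc, Fin.cases_zero, biprod.inl_desc, Category.comp_id]
    · rw [Sigma.ι_desc_assoc, Fin.cases_succ, Category.assoc, biprod.inr_desc, Sigma.ι_desc, Category.comp_id]
  inv_hom_id := by
    refine biprod.hom_ext' _ _ ?_ (Sigma.hom_ext _ _ fun j => ?_)
    · rw [biprod.inl_desc_assoc, Sigma.ι_desc, Fin.cases_zero, Category.comp_id]
    · rw [biprod.inr_desc_assoc, Sigma.ι_desc_assoc, Sigma.ι_desc, Fin.cases_succ, Category.comp_id]

theorem approx_inD_biprod {s : ℤ} {A B : X.Modules} (hA : DPerf.Approx (Set.Ici s) (DCoh.inD X A))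
    (hB : DPerf.Approx (Set.Ici s) (DCoh.inD X B)) : DPerf.Approx (Set.Ici s) (DCoh.inD X (A ⊞ B)) := by
  have hS : (ShortComplex.mk (biprod.inl : A ⟶ A ⊞ B) biprod.snd biprod.inl_snd).ShortExact :=
    (ShortComplex.Splitting.ofHasBinaryBiproduct A B).shortExact
  exact DPerf.approx_Ici₂ s _ hS.singleTriangle_distinguished hA hB

theorem approx_inD_of_isZero {s : Set ℤ} {A : X.Modules} (h : IsZero A) : DPerf.Approx s (DCoh.inD X A) :=
  (DPerf.approx_inD_of_isFinLocFree (KFlat.Sch.isFinLocFree_of_isZero h)).mono_set (Set.subset_univ _)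

theorem approx_push_freeMod (i : Z ⟶ X) [IsClosedImmersion i] (m : ℤ)
    (h : DPerf.Approx (Set.Ici m) (DCoh.inD X ((Scheme.Modules.pushforward i).obj (Coh.structureModule Z)))) :
    ∀ n, DPerf.Approx (Set.Ici m) (DCoh.inD X ((Scheme.Modules.pushforward i).obj (FlatMod.freeMod Z n)))
  | 0 => approx_inD_of_isZero ((Scheme.Modules.pushforward i).map_isZero (DPerf.isZero_freeMod_zero Z))
  | n + 1 => by
      haveI := preservesBinaryBiproducts_of_preservesBinaryProducts (Scheme.Modules.pushforward i)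
      exact (approx_inD_biprod h (approx_push_freeMod i m h n)).of_iso
        ((DerivedCategory.singleFunctor X.Modules 0).mapIso
          ((Scheme.Modules.pushforward i).mapIso (freeModSuccIso Z n) ≪≫
            (Scheme.Modules.pushforward i).mapBiprod _ _).symm)

/-- The direct image of the structure sheaf is pseudo-coherent. -/
def PushOPC (i : Z ⟶ X) : Prop :=
  ∀ m : ℤ, DPerf.Approx (Set.Ici m) (DCoh.inD X ((Scheme.Modules.pushforward i).obj (Coh.structureModule Z)))

theorem pushOPC_restrict {i : Z ⟶ X} [IsClosedImmersion i] (h : PushOPC i) (V : X.Opens) : PushOPC (i ∣_ V) := fun m =>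
  ((h m).res V).of_iso
    (((Scheme.Modules.restrictFunctor V.ι).mapDerivedCategorySingleFunctor 0).app _ ≪≫
      (DerivedCategory.singleFunctor (V : Scheme.{u}).Modules 0).mapIso
        ((pushBCFunctor (isPullback_open i V)).app (Coh.structureModule Z) ≪≫
          (Scheme.Modules.pushforward (i ∣_ V)).mapIso (Scheme.Modules.restrictUnitIso (i ⁻¹ᵁ V).ι)))

/-- An object without cohomology above `b` whose top cohomology is of finite type. -/
theorem approx_of_isFT_top {K : DCoh.D X} {b : ℤ} (hK : ∀ k, b < k → IsZero (DCoh.HD K k))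
    (hFT : CohB1.IsFT (DCoh.HD K b)) : DPerf.Approx (Set.Ici b) K := by
  let t : Triangulated.TStructure (DCoh.D X) := DerivedCategory.TStructure.t
  haveI hKle : K.IsLE b := (DerivedCategory.isLE_iff K b).2 hK
  haveI : t.IsLE K b := hKle
  let T : Triangle (DCoh.D X) := (t.triangleLTGE b).obj K
  have hT : T ∈ distTriang (DCoh.D X) := t.triangleLTGE_distinguished b K
  haveI : DerivedCategory.IsLE T.obj₁ (b - 1) := (inferInstance : t.IsLE ((t.truncLT b).obj K) (b - 1))
  haveI : DerivedCategory.IsLE T.obj₃ b := (inferInstance : t.IsLE ((t.truncGE b).obj K) b)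
  haveI : DerivedCategory.IsGE T.obj₃ b := (inferInstance : t.IsGE ((t.truncGE b).obj K) b)
  obtain ⟨M, ⟨e⟩⟩ := DerivedCategory.exists_iso_singleFunctor_obj_of_isGE_of_isLE T.obj₃ b
  have hz : ∀ k, b ≤ k → IsZero (DCoh.HD T.obj₁ k) :=
    fun k hk => DerivedCategory.isZero_of_isLE T.obj₁ (b - 1) k (by omega)
  haveI : Mono ((DerivedCategory.homologyFunctor X.Modules b).map T.mor₂) :=
    (DerivedCategory.HomologySequence.mono_homologyMap_mor₂_iff _ hT b).2 ((hz b le_rfl).eq_of_src _ _)
  haveI : Epi ((DerivedCategory.homologyFunctor X.Modules b).map T.mor₂) :=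
    (DerivedCategory.HomologySequence.epi_homologyMap_mor₂_iff _ hT b (b + 1) rfl).2
      ((hz (b + 1) (by omega)).eq_of_tgt _ _)
  haveI := isIso_of_mono_of_epi ((DerivedCategory.homologyFunctor X.Modules b).map T.mor₂)
  have hM : CohB1.IsFT M := M1.isFT_of_isIso
    (asIso ((DerivedCategory.homologyFunctor X.Modules b).map T.mor₂) ≪≫
      (DerivedCategory.homologyFunctor X.Modules b).mapIso e ≪≫
      (DerivedCategory.singleFunctorCompHomologyFunctorIso X.Modules b).app M) hFT
  have h₃ : DPerf.Approx (Set.Ici b) T.obj₃ :=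
    ((DPerf.approx_inD_of_isFT hM).shift_Ici (-b) b (by omega)).of_iso
      (((DerivedCategory.singleFunctors X.Modules).shiftIso (-b) b 0 (by omega)).app M ≪≫ e.symm)
  exact DPerf.approx_Ici₂ b T hT (DPerf.approx_of_isZero_HD hz) h₃

theorem approx_pushD_of_isEmpty (i : Z ⟶ X) [IsClosedImmersion i] [IsEmpty Z] (m : ℤ) (K : DCoh.D Z) :
    DPerf.Approx (Set.Ici m) ((pushD i).obj K) :=
  DPerf.approx_of_isZero_HD fun k _ => (isZero_HD_push_iff i K k).2
    (SerreCl8.isZero_of_support_eq_empty (Set.eq_empty_of_forall_notMem fun z _ => isEmptyElim z))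

theorem exists_open_eq (i : Z ⟶ X) [IsClosedImmersion i] (U : Z.Opens) : ∃ V : X.Opens, i ⁻¹ᵁ V = U := by
  obtain ⟨V, hV, e⟩ := (i.isClosedEmbedding.isInducing.isOpen_iff).1 U.isOpen
  exact ⟨⟨V, hV⟩, Opens.ext e⟩

theorem isEmpty_compl (i : Z ⟶ X) [IsClosedImmersion i] :
    IsEmpty (i ⁻¹ᵁ ⟨(Set.range i)ᶜ, i.isClosedEmbedding.isClosed_range.isOpen_compl⟩ : Z.Opens) :=
  ⟨fun z => z.2 ⟨z.1, rfl⟩⟩

theorem approx_push_isFinLocFree {i : Z ⟶ X} [IsClosedImmersion i] (hO : PushOPC i) (m : ℤ) {P : Z.Modules}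
    (hP : FlatMod.IsFinLocFree P) :
    DPerf.Approx (Set.Ici m) (DCoh.inD X ((Scheme.Modules.pushforward i).obj P)) := by
  refine DPerf.approx_inD_of_restrict fun x => ?_
  by_cases hx : x ∈ Set.range i
  · obtain ⟨z, rfl⟩ := hx
    obtain ⟨U, n, hzU, ⟨e⟩⟩ := hP z
    obtain ⟨V, rfl⟩ := exists_open_eq i U
    exact ⟨V, hzU, (approx_push_freeMod (i ∣_ V) m (pushOPC_restrict hO V m) n).of_iso
      ((DerivedCategory.singleFunctor (V : Scheme.{u}).Modules 0).mapIso
        ((Scheme.Modules.pushforward (i ∣_ V)).mapIso e.symm ≪≫ ((pushBCFunctor (isPullback_open i V)).app P).symm))⟩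
  · let V : X.Opens := ⟨(Set.range i)ᶜ, i.isClosedEmbedding.isClosed_range.isOpen_compl⟩
    haveI := isEmpty_compl i
    exact ⟨V, hx, approx_inD_of_isZero ((((Scheme.Modules.pushforward (i ∣_ V)).map_isZero
      (SerreCl8.isZero_of_support_eq_empty (Set.eq_empty_of_forall_notMem fun z _ => isEmptyElim z))).of_iso
        ((pushBCFunctor (isPullback_open i V)).app P)))⟩

theorem approx_push_strictlyPerfect {i : Z ⟶ X} [IsClosedImmersion i] (hO : PushOPC i) (m : ℤ)
    {E : CochainComplex Z.Modules ℤ} (hE : DCoh.IsStrictlyPerfect E) :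
    DPerf.Approx (Set.Ici m) ((pushD i).obj (DCoh.toD Z E)) := by
  obtain ⟨⟨a, b, hv⟩, hf⟩ := hE
  refine Groth.Agent.PCoh.termwise_induction (fun K => DPerf.Approx (Set.Ici m) ((pushD i).obj K)) E a b
    (fun k hk => hv k (Or.inr hk))
    (fun T hT h₁ h₃ => DPerf.approx_Ici₂ m _ ((pushD i).map_distinguished T hT) h₁ h₃)
    (fun K hK hK' => DPerf.approx_of_isZero_HD fun k _ => (isZero_HD_push_iff i _ k).2
      ((KFlat.Sch.isZero_HD_toD_iff K k).2 (by
        rw [HomologicalComplex.exactAt_iff]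
        refine ShortComplex.exact_of_isZero_X₂ _ ?_
        rcases lt_or_ge k a with h | h
        · exact (hv k (Or.inl h)).of_iso (hK' k h).some
        · exact hK k h)))
    fun k M _ _ ⟨eM⟩ => ?_
  exact ((approx_push_isFinLocFree hO (m - k) (M2.isFinLocFree_of_iso eM.symm (hf k))).shift_Ici (-k) m
    (by omega)).of_iso (((DerivedCategory.singleFunctors X.Modules).shiftIso (-k) k 0 (by omega)).app _ ≪≫
      (((Scheme.Modules.pushforward i).mapDerivedCategorySingleFunctor k).app M).symm)

/-- Direct image preserves `m`-pseudo-coherence. -/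
theorem approx_push {i : Z ⟶ X} [IsClosedImmersion i] (hO : PushOPC i) (m : ℤ) {K : DCoh.D Z}
    (h : DPerf.Approx (Set.Ici m) K) : DPerf.Approx (Set.Ici m) ((pushD i).obj K) := by
  refine DPerf.Approx.of_locally fun x => ?_
  by_cases hx : x ∈ Set.range i
  · obtain ⟨z, rfl⟩ := hx
    obtain ⟨U, hzU, hU⟩ := h.exists_opens z
    obtain ⟨V, rfl⟩ := exists_open_eq i U
    obtain ⟨E, hE, α, hα⟩ := hU _ le_rfl
    refine ⟨V, hzU, ?_⟩
    obtain ⟨C, g, t, hT⟩ := distinguished_cocone_triangle α
    have hC : DPerf.Approx (Set.Ici m) ((pushD (i ∣_ V)).obj C) :=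
      DPerf.approx_of_isZero_HD fun k hk => (isZero_HD_push_iff _ C k).2
        (DPerf.isZero_homology_of_dcond hT hα hk)
    exact (DPerf.approx_Ici₂ m _ ((pushD (i ∣_ V)).map_distinguished _ hT)
      (approx_push_strictlyPerfect (pushOPC_restrict hO V) m hE) hC).of_iso
        ((pushBC (isPullback_open i V)).app K).symm
  · let V : X.Opens := ⟨(Set.range i)ᶜ, i.isClosedEmbedding.isClosed_range.isOpen_compl⟩
    haveI := isEmpty_compl i
    exact ⟨V, hx, (approx_pushD_of_isEmpty (i ∣_ V) m _).of_iso ((pushBC (isPullback_open i V)).app K).symm⟩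

theorem approx_of_push_aux : ∀ (k : ℕ) {Z X : Scheme.{u}} (i : Z ⟶ X) [IsClosedImmersion i], PushOPC i →
    ∀ (m : ℤ) (K : DCoh.D Z), (∀ j, m + k ≤ j → IsZero (DCoh.HD K j)) →
      DPerf.Approx (Set.Ici m) ((pushD i).obj K) → DPerf.Approx (Set.Ici m) K
  | 0, Z, X, i, _, _, m, K, hK, _ => DPerf.approx_of_isZero_HD fun j hj => hK j (by simpa using hj)
  | k + 1, Z, X, i, _, hO, m, K, hK, h => by
      obtain ⟨b, hb⟩ : ∃ b : ℤ, b = m + k := ⟨_, rfl⟩
      have hK' : ∀ j, b < j → IsZero (DCoh.HD K j) := fun j hj => hK j (by omega)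
      have hFT : CohB1.IsFT (DCoh.HD K b) := isFT_of_push i (M1.isFT_of_isIso (hdPushDIso i K b)
        (DPerf.finiteType_top (DPerf.isPseudoCoherentD_of_approx (h.mono_set (Set.Ici_subset_Ici.2 (by omega))))
          fun j hj => (isZero_HD_push_iff i K j).2 (hK' j hj)))
      refine DPerf.Approx.of_locally fun z => ?_
      obtain ⟨U, hzU, hU⟩ := (approx_of_isFT_top hK' hFT).exists_opens z
      obtain ⟨V, rfl⟩ := exists_open_eq i U
      obtain ⟨E, hE, α, hα⟩ := hU _ le_rfl
      refine ⟨_, hzU, ?_⟩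
      obtain ⟨C, g, t, hT⟩ := distinguished_cocone_triangle α
      have hpush : DPerf.Approx (Set.Ici m) ((pushD (i ∣_ V)).obj ((DPerf.resD (i ⁻¹ᵁ V).ι).obj K)) :=
        (h.res V).of_iso ((pushBC (isPullback_open i V)).app K)
      have hO' := pushOPC_restrict hO V
      have hC : DPerf.Approx (Set.Ici m) ((pushD (i ∣_ V)).obj C) :=
        DPerf.approx_Ici₃ m _ ((pushD (i ∣_ V)).map_distinguished _ hT)
          (approx_push_strictlyPerfect hO' (m + 1) hE) hpush
      have := approx_of_push_aux k (i ∣_ V) hO' m C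
        (fun j hj => DPerf.isZero_homology_of_dcond hT hα (show b ≤ j by omega)) hC
      exact DPerf.approx_Ici₂ m _ hT
        (DPerf.Approx.mono_set (Set.subset_univ _) fun y => ⟨_, 𝟙 _, inferInstance, ⟨y, rfl⟩, _,
          DPerf.isStrictlyPerfect_res (𝟙 _) hE, (DPerf.resFac (𝟙 _)).inv.app E,
          DPerf.dcond_of_isIso _⟩) this

/-- Locally bounded above. -/
theorem exists_bound_of_approx {m : ℤ} {K : DCoh.D X} (h : DPerf.Approx (Set.Ici m) K) (x : X) :
    ∃ (V : X.Opens) (b : ℤ), x ∈ V ∧ ∀ j, b < j → IsZero (DCoh.HD ((DPerf.resD V.ι).obj K) j) := by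
  obtain ⟨V, hxV, hV⟩ := h.exists_opens x
  obtain ⟨E, hE, α, hα⟩ := hV V le_rfl
  obtain ⟨⟨a, b, hv⟩, -⟩ := hE
  exact ⟨V, max b m, hxV, fun j hj =>
    DPerf.isZero_HD_of_dcond hα (fun k hk => hv k (Or.inr hk)) (by omega) (b := b) (by omega)⟩

/-- Direct image reflects `m`-pseudo-coherence. -/
theorem approx_of_push {i : Z ⟶ X} [IsClosedImmersion i] (hO : PushOPC i) (m : ℤ) {K : DCoh.D Z}
    (h : DPerf.Approx (Set.Ici m) ((pushD i).obj K)) : DPerf.Approx (Set.Ici m) K := by
  refine DPerf.Approx.of_locally fun z => ?_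
  obtain ⟨V, b, hzV, hb⟩ := exists_bound_of_approx h (i z)
  refine ⟨i ⁻¹ᵁ V, hzV, approx_of_push_aux (b + 1 - m).toNat (i ∣_ V) (pushOPC_restrict hO V) m _
    (fun j hj => ?_) ((h.res V).of_iso ((pushBC (isPullback_open i V)).app K))⟩
  exact (isZero_HD_push_iff (i ∣_ V) _ j).1 ((hb j (by omega)).of_iso
    ((DerivedCategory.homologyFunctor _ j).mapIso ((pushBC (isPullback_open i V)).app K)).symm)

theorem pc_push_iff {i : Z ⟶ X} [IsClosedImmersion i] (hO : PushOPC i) (m : ℤ) (K : DCoh.D Z) :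
    DCoh.IsPseudoCoherentD m K ↔ DCoh.IsPseudoCoherentD m ((pushD i).obj K) :=
  ⟨fun h => DPerf.isPseudoCoherentD_of_approx (approx_push hO m (DPerf.approx_of_isPseudoCoherentD h)),
    fun h => DPerf.isPseudoCoherentD_of_approx (approx_of_push hO m (DPerf.approx_of_isPseudoCoherentD h))⟩

end Groth.Agent.RelPCS8
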