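import Groth.Agent.Lib.RelPCS8.FlatTerms
import Groth.Agent.Lib.PCMor4.Koszul
import Groth.Agent.Lib.PCMor4.Perfect
import Groth.Agent.Lib.CI2.Ops
import Groth.Agent.Lib.CI2.Bridge
import Groth.Prelude.Def_RegImm

/-!
# Perfect dimension of Koszul regular immersions
-/

universe u

open CategoryTheory Limits AlgebraicGeometry Opposite TopologicalSpace
open Groth.Agent.CanElt (KObj kd)
open Groth.Agent.CI2 (Ex)

attribute [local instance] HasDerivedCategory.standard

set_option backward.isDefEq.respectTransparency false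

namespace Groth.Agent.RelPCS8

open PCMor4

theorem range_kd_td {G : Type u} [CommRing G] (l : List G) (h : Ex G G l) :
    ∀ (j n : ℕ), l.length ≤ n + j + 1 → DRing.HasTorDimLE G j (LinearMap.range (kd G G l n)) := by
  intro j
  induction j with
  | zero =>
    intro n hn
    haveI := CanElt.subsingleton_KObj G G l (n + 2) (by omega)
    haveI := (free_finite_KObj l (n + 1)).2
    have hinj : Function.Injective (kd G G l n) := by
      rw [injective_iff_map_eq_zero]
      intro z hz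
      obtain ⟨w, rfl⟩ := LinearMap.mem_range.2 (h n z hz)
      rw [Subsingleton.elim w 0, map_zero]
    haveI := Module.Flat.of_linearEquiv (LinearEquiv.ofInjective _ hinj).symm
    exact td_of_flat 0
  | succ j ih =>
    intro n hn
    haveI := (free_finite_KObj l (n + 1)).2
    let p := (kd G G l n).rangeRestrict
    have hp : Function.Surjective p := LinearMap.surjective_rangeRestrict _
    have hk : LinearMap.range (kd G G l (n + 1)) = LinearMap.ker p := by
      rw [LinearMap.ker_rangeRestrict]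
      ext z
      exact ⟨fun ⟨w, hw⟩ => by rw [LinearMap.mem_ker, ← hw, CanElt.kd_kd],
        fun hz => LinearMap.mem_range.2 (h n z hz)⟩
    exact td_quotient p hp (td_equiv (LinearEquiv.ofEq _ _ hk) (ih (n + 1) (by omega))) (td_of_flat _)

theorem quotient_ofList_td {G : Type u} [CommRing G] (l : List G) (h : Ex G G l) :
    DRing.HasTorDimLE G l.length (G ⧸ Ideal.ofList l) := by
  match hl : l.length with
  | 0 =>
    obtain rfl := List.length_eq_zero_iff.1 hl
    haveI : Module.Flat G (G ⧸ Ideal.ofList ([] : List G)) :=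
      Module.Flat.of_linearEquiv (Submodule.quotEquivOfEqBot _ (Ideal.ofList_nil (R := G)))
    exact td_of_flat 0
  | d + 1 =>
    let p : G →ₗ[G] G ⧸ Ideal.ofList l := Submodule.mkQ _
    let k0 := CanElt.k0 G G l
    have hk : (LinearMap.range (kd G G l 0)).map k0.toLinearMap = LinearMap.ker p := by
      rw [Submodule.ker_mkQ]
      ext x
      rw [Submodule.mem_map_equiv, CanElt.mem_range_kd_zero, LinearEquiv.apply_symm_apply]
      rw [Ideal.smul_eq_mul, ← Ideal.one_eq_top, mul_one]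
    exact td_quotient p (Submodule.mkQ_surjective _)
      (td_equiv ((k0.submoduleMap _).trans (LinearEquiv.ofEq _ _ hk)) (range_kd_td l h d 0 (by omega))) (td_of_flat _)

variable {Z X : Scheme.{u}} (i : Z ⟶ X) {U : X.Opens}

theorem app_surjective_of_restrict (hU : IsAffineOpen U) [IsClosedImmersion (i ∣_ U)] :
    Function.Surjective (i.app U).hom := by
  haveI : IsAffine (U : Scheme.{u}) := hU
  have h := (i ∣_ U).app_surjective ⊤ (isAffineOpen_top _)
  have e : U.ι ''ᵁ ⊤ = U := M1.image_ι_top U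
  have h' : Function.Surjective (i.app (U.ι ''ᵁ ⊤)).hom := by
    intro y
    obtain ⟨a, ha⟩ := h ((Z.presheaf.map (eqToHom (image_morphismRestrict_preimage i U ⊤)).op).hom y)
    rw [morphismRestrict_app] at ha
    exact ⟨a, (ConcreteCategory.bijective_of_isIso
      (Z.presheaf.map (eqToHom (image_morphismRestrict_preimage i U ⊤)).op)).1 ha⟩
  revert h'
  rw [e]
  exact id

theorem preimage_affine_of_restrict (hU : IsAffineOpen U) [IsClosedImmersion (i ∣_ U)] : IsAffineOpen (i ⁻¹ᵁ U) :=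
  haveI : IsAffine (U : Scheme.{u}) := hU
  isAffine_of_isAffineHom (i ∣_ U)

theorem chart_data_at (hU : IsAffineOpen U) [IsClosedImmersion (i ∣_ U)] (rs : List Γ(X, U))
    (hseq : LCI.IsKoszulRegularSeq Γ(X, U) rs) (hker : RingHom.ker (i.app U).hom = Ideal.ofList rs) :
    (letI := (i.app U).hom.toAlgebra; ∀ k, PCn Γ(X, U) k Γ(Z, i ⁻¹ᵁ U)) ∧
      (letI := (i.app U).hom.toAlgebra; DRing.HasTorDimLE Γ(X, U) rs.length Γ(Z, i ⁻¹ᵁ U)) := by
  letI := (i.app U).hom.toAlgebra
  have hex : Ex Γ(X, U) Γ(X, U) rs := (CI2.isKoszulRegularSeq_iff_ex rs).1 hseq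
  let e : (Γ(X, U) ⧸ Ideal.ofList rs) ≃ₗ[Γ(X, U)] Γ(Z, i ⁻¹ᵁ U) :=
    (Submodule.quotEquivOfEq _ _ (hker.symm.trans rfl)).trans
      ((Algebra.linearMap Γ(X, U) Γ(Z, i ⁻¹ᵁ U)).quotKerEquivOfSurjective (app_surjective_of_restrict i hU))
  exact ⟨fun k => pcn_equiv e ((quotient_ofList_perfect rs hex).1 k), td_equiv e (quotient_ofList_td rs hex)⟩

theorem chart_data {d : ℕ} (hi : RegImm.IsRegularImmersionOfCodim RegImm.Kind.koszul d i) (z : Z) :
    ∃ U : X.Opens, IsAffineOpen U ∧ IsAffineOpen (i ⁻¹ᵁ U) ∧ i z ∈ U ∧ Function.Surjective (i.app U).hom ∧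
      ((letI := (i.app U).hom.toAlgebra; ∀ k, PCn Γ(X, U) k Γ(Z, i ⁻¹ᵁ U)) ∧
        (letI := (i.app U).hom.toAlgebra; DRing.HasTorDimLE Γ(X, U) d Γ(Z, i ⁻¹ᵁ U))) := by
  obtain ⟨U, hzU, hc, rs, hlen, hseq, hker⟩ := hi.2 z
  haveI := hc
  obtain ⟨h1, h2⟩ := chart_data_at i U.2 rs hseq hker
  exact ⟨U, U.2, preimage_affine_of_restrict i U.2, hzU, app_surjective_of_restrict i U.2, h1, hlen ▸ h2⟩

theorem nPseudoCoherent_of_koszul {d : ℕ} (hi : RegImm.IsRegularImmersionOfCodim RegImm.Kind.koszul d i) (m : ℤ) :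
    DerSch.IsNPseudoCoherent i m := by
  haveI := hi.1
  refine rel_of_locally fun z => ?_
  obtain ⟨U, hU, hW, hzU, hs, hpc, -⟩ := chart_data i hi z
  let e := MvPolynomial.isEmptyAlgEquiv Γ(X, U) (Fin 0)
  let φ := (i.app U).hom.comp e.toRingEquiv.toRingHom
  have hφ : DerSch.IsChart i (i ⁻¹ᵁ U) U le_rfl φ := ⟨hs.comp e.surjective, RingHom.ext fun r => by
    show (i.app U).hom (e (algebraMap _ _ r)) = _
    rw [e.commutes, Scheme.Hom.app_eq_appLE]
    rfl⟩
  refine ⟨_, U, hzU, Good.of_iso (singleToInD _).symm (Good.mono (m := -((-m).toNat : ℤ)) (by omega)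
    ⟨hW, hU, le_rfl, 0, φ, hφ, ?_⟩)⟩
  refine (test_comp_bijective_iff hW (i.app U).hom hs e.toRingEquiv.toRingHom e.bijective _ _).2 ?_
  exact (test_unit_iff hW (i.app U).hom hs _).2 (hpc _)

theorem hasPerfDimLE_of_koszul {d : ℕ} (hi : RegImm.IsRegularImmersionOfCodim RegImm.Kind.koszul d i) :
    DerSch.HasPerfDimLE i d := by
  refine ⟨fun m => nPseudoCoherent_of_koszul i hi m, fun z => ?_⟩
  obtain ⟨U, hU, hW, hzU, hs, -, htd⟩ := chart_data i hi z
  let G := Γ(X, U)
  let B := Γ(Z, i ⁻¹ᵁ U)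
  let A := X.presheaf.stalk (i.base z)
  let L := Z.presheaf.stalk z
  letI : Algebra G B := (i.app U).hom.toAlgebra
  letI : Algebra G A := X.presheaf.algebra_section_stalk ⟨i z, hzU⟩
  haveI : IsLocalization.AtPrime A (hU.primeIdealOf ⟨i z, hzU⟩).asIdeal := hU.isLocalization_stalk ⟨i z, hzU⟩
  letI : Algebra B L := Z.presheaf.algebra_section_stalk ⟨z, hzU⟩
  haveI : IsLocalization.AtPrime L (hW.primeIdealOf ⟨z, hzU⟩).asIdeal := hW.isLocalization_stalk ⟨z, hzU⟩
  letI : Algebra A L := (i.stalkMap z).hom.toAlgebra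
  letI : Algebra G L := ((algebraMap B L).comp (algebraMap G B)).toAlgebra
  haveI : IsScalarTower G B L := IsScalarTower.of_algebraMap_eq fun _ => rfl
  haveI : IsScalarTower G A L := IsScalarTower.of_algebraMap_eq fun r =>
    (Scheme.Hom.germ_stalkMap_apply i U z hzU r).symm
  haveI : Module.Flat B L := IsLocalization.flat L (hW.primeIdealOf ⟨z, hzU⟩).asIdeal.primeCompl
  have hL : DRing.HasTorDimLE A d L := (td_localization_iff (hU.primeIdealOf ⟨i z, hzU⟩).asIdeal.primeCompl A L).2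
    (td_flat_over (A := G) (B := B) L htd)
  let S := (Coh.structureModule Z).presheaf.stalk z
  letI : Module A S := FlatMod.moduleStalkOver i (Coh.structureModule Z) z
  haveI : IsScalarTower A L S := ⟨fun r b s => by
    change ((i.stalkMap z).hom r * b) • s = (i.stalkMap z).hom r • b • s
    rw [mul_smul]⟩
  let E : L ≃ₗ[L] (S : Type u) :=
    LinearEquiv.ofBijective (LinearMap.toSpanSingleton _ _ _) (Cyc26.structureModule_stalk_bijective z)
  have hS : DRing.HasTorDimLE A d S := td_equiv (E.restrictScalars A) hL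
  obtain ⟨F, hF, hf, ⟨e⟩⟩ := TorBal.amplitude_of_hasTorDimLE (A := A) S d hS
  let N : ModuleCat.{u} A := (DerSch.stalkOver i z).obj (Coh.structureModule Z)
  exact ⟨F, hF, hf, ⟨e ≪≫ (DerivedCategory.singleFunctorIsoCompQ (ModuleCat.{u} A) 0).app N ≪≫
    DerivedCategory.Q.mapIso ((HomologicalComplex.singleMapHomologicalComplex (DerSch.stalkOver i z)
      (ComplexShape.up ℤ) 0).app (Coh.structureModule Z)).symm⟩⟩

theorem isPerfect_push_of_koszul [IsClosedImmersion i] (hi : RegImm.IsRegularImmersion RegImm.Kind.koszul i) :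
    DCoh.IsPerfect (DCoh.inD X ((Scheme.Modules.pushforward i).obj (Coh.structureModule Z))) := by
  let F := (Scheme.Modules.pushforward i).obj (Coh.structureModule Z)
  rw [DPerf.isPerfect_iff_approx]
  refine approx_of_cover fun x => ?_
  by_cases hx : x ∈ Set.range i
  · obtain ⟨z, rfl⟩ := hx
    obtain ⟨U, hzU, hc, rs, hseq, hker⟩ := hi.2 z
    haveI := hc
    obtain ⟨hpc, htd⟩ := chart_data_at i U.2 rs hseq hker
    letI := (i.app U.1).hom.toAlgebra
    let F' := F.restrict U.2.fromSpec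
    have hq : Coh.IsQCoh F' := M1.isQCoh_restrict (M1.isQCoh_push i (M1.isQCoh_structureModule Z)) _
    haveI : F'.IsQuasicoherent := hq
    let M : ModuleCat.{u} Γ(X, U.1) := (moduleSpecΓFunctor (R := Γ(X, U.1))).obj F'
    let e : Γ(Z, i ⁻¹ᵁ U.1) ≃ₗ[Γ(X, U.1)] M := (M1.affineSecEquiv F U.2).symm
    have hP : DRing.IsPerfectModule Γ(X, U.1) M :=
      isPerfectModule_iff.2 ⟨fun k => pcn_equiv e (hpc k), rs.length, td_equiv e htd⟩
    refine ⟨_, U.2.fromSpec, inferInstance, U.2.range_fromSpec.ge hzU, ?_⟩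
    exact (DPerf.approx_tilde_of_perfect hP).of_iso
      (((tilde.functor Γ(X, U.1)).mapDerivedCategorySingleFunctor 0).app _ ≪≫
        (DerivedCategory.singleFunctor (Spec Γ(X, U.1)).Modules 0).mapIso
          (@asIso _ _ _ _ F'.fromTildeΓ (Scheme.Modules.isIso_fromTildeΓ_of_isQuasicoherent (R := Γ(X, U.1)) F')) ≪≫
        (((Scheme.Modules.restrictFunctor U.2.fromSpec).mapDerivedCategorySingleFunctor 0).app F).symm)
  · let V : X.Opens := ⟨(Set.range i)ᶜ, i.isClosedEmbedding.isClosed_range.isOpen_compl⟩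
    haveI := isEmpty_compl i
    exact ⟨V, V.ι, inferInstance, ⟨⟨x, hx⟩, rfl⟩, (approx_inD_of_isZero
      ((((Scheme.Modules.pushforward (i ∣_ V)).map_isZero
        (SerreCl8.isZero_of_support_eq_empty (Set.eq_empty_of_forall_notMem fun z _ => isEmptyElim z))).of_iso
          ((pushBCFunctor (isPullback_open i V)).app (Coh.structureModule Z))))).of_iso
      (((Scheme.Modules.restrictFunctor V.ι).mapDerivedCategorySingleFunctor 0).app F).symm⟩

end Groth.Agent.RelPCS8
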