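import Groth.Agent.Lib.RelPCS8.Chart

/-!
# Relative pseudo-coherence: independence of charts, locality
-/

universe u

open CategoryTheory Limits CategoryTheory.Pretriangulated AlgebraicGeometry Opposite TopologicalSpace MvPolynomial

attribute [local instance] HasDerivedCategory.standard

set_option backward.isDefEq.respectTransparency false

namespace Groth.Agent.RelPCS8

variable {X Y : Scheme.{u}}

section Ring

variable {A B : Type u} [CommRing A] [CommRing B]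

theorem exists_two {n k : ℕ} (φ : MvPolynomial (Fin n) A →+* B) (φ' : MvPolynomial (Fin k) A →+* B)
    (hφ : Function.Surjective φ) (hφ' : Function.Surjective φ') (hC : φ.comp C = φ'.comp C) :
    ∃ (σ : MvPolynomial (Fin k) (MvPolynomial (Fin n) A) →+* MvPolynomial (Fin n) A)
      (σ' : MvPolynomial (Fin k) (MvPolynomial (Fin n) A) →+* MvPolynomial (Fin k) A),
      Function.Surjective σ ∧ Function.Surjective σ' ∧ PCMor4.PCR σ ∧ PCMor4.PCR σ' ∧
        φ.comp σ = φ'.comp σ' := by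
  choose g hg using fun j => hφ (φ' (X j))
  choose g' hg' using fun i => hφ' (φ (X i))
  let e := commAlgEquiv A (Fin k) (Fin n)
  let τ : MvPolynomial (Fin n) (MvPolynomial (Fin k) A) →+* MvPolynomial (Fin k) A := eval₂Hom (RingHom.id _) g'
  have hτ : Function.Surjective τ := fun q => ⟨C q, eval₂Hom_C _ _ q⟩
  refine ⟨eval₂Hom (RingHom.id _) g, τ.comp e.toRingEquiv.toRingHom,
    fun p => ⟨C p, eval₂Hom_C _ _ p⟩, hτ.comp e.surjective,
    PCMor4.pcr_eval k g, PCMor4.pcr_comp (PCMor4.pcr_of_bijective _ e.bijective) (PCMor4.pcr_eval n g'), ?_⟩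
  refine MvPolynomial.ringHom_ext (fun r => ?_) fun j => ?_
  · have h1 : (φ.comp (eval₂Hom (RingHom.id _) g)).comp C = φ := RingHom.ext fun p => by simp
    have h2 : (φ'.comp (τ.comp e.toRingEquiv.toRingHom)).comp C = φ := by
      refine MvPolynomial.ringHom_ext (fun a => ?_) fun i => ?_
      · show φ' (τ (e (C (C a)))) = _
        simp only [τ, e, commAlgEquiv_C, map_C, eval₂Hom_C, RingHom.id_apply]
        exact (RingHom.congr_fun hC a).symm
      · show φ' (τ (e (C (X i)))) = _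
        simp only [τ, e, commAlgEquiv_C, map_X, eval₂Hom_X']
        exact hg' i
    exact RingHom.congr_fun (h1.trans h2.symm) r
  · show φ (eval₂Hom (RingHom.id _) g (X j)) = φ' (τ (e (X j)))
    simp only [τ, e, eval₂Hom_X', hg, commAlgEquiv_X, eval₂Hom_C]
    rfl

/-- One more variable. -/
noncomputable def succPoly (A : Type u) [CommRing A] (n : ℕ) :
    MvPolynomial (Fin (n + 1)) A ≃ₐ[A] Polynomial (MvPolynomial (Fin n) A) :=
  finSuccEquiv A n

end Ring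

section Charts

variable (f : X ⟶ Y)

/-- A chart along which the test holds. -/
def Good (m : ℤ) (K : DCoh.D X) (U : X.Opens) (V : Y.Opens) : Prop :=
  IsAffineOpen U ∧ IsAffineOpen V ∧ ∃ (h : U ≤ f ⁻¹ᵁ V) (n : ℕ)
    (φ : MvPolynomial (Fin n) Γ(Y, V) →+* Γ(X, U)), DerSch.IsChart f U V h φ ∧ Test m K U φ

variable {f} {m : ℤ} {K : DCoh.D X} {U U' : X.Opens} {V V' : Y.Opens}

theorem test_indep (hU : IsAffineOpen U) {h : U ≤ f ⁻¹ᵁ V} {n k : ℕ}
    {φ : MvPolynomial (Fin n) Γ(Y, V) →+* Γ(X, U)} {φ' : MvPolynomial (Fin k) Γ(Y, V) →+* Γ(X, U)}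
    (hφ : DerSch.IsChart f U V h φ) (hφ' : DerSch.IsChart f U V h φ') (ht : Test m K U φ) : Test m K U φ' := by
  obtain ⟨σ, σ', hs, hs', hpc, hpc', e⟩ := exists_two φ φ' hφ.1 hφ'.1 (hφ.2.trans hφ'.2.symm)
  have := (test_comp_iff hU φ hφ.1 σ hs hpc m K).2 ht
  rw [e] at this
  exact (test_comp_iff hU φ' hφ'.1 σ' hs' hpc' m K).1 this

theorem Good.test (hg : Good f m K U V) {h : U ≤ f ⁻¹ᵁ V} {k : ℕ}
    {φ' : MvPolynomial (Fin k) Γ(Y, V) →+* Γ(X, U)} (hφ' : DerSch.IsChart f U V h φ') : Test m K U φ' := by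
  obtain ⟨hU, -, _, n, φ, hφ, ht⟩ := hg
  exact test_indep hU hφ hφ' ht

theorem Good.chartPC (hg : Good f m K U V) {h : U ≤ f ⁻¹ᵁ V} {k : ℕ}
    {φ' : MvPolynomial (Fin k) Γ(Y, V) →+* Γ(X, U)} (hφ' : DerSch.IsChart f U V h φ') :
    DerSch.ChartPC m K U V φ' :=
  (chartPC_iff_test hg.1 φ' hφ'.1 m K).2 (hg.test hφ')

theorem good_of_chartPC (hU : IsAffineOpen U) (hV : IsAffineOpen V) {h : U ≤ f ⁻¹ᵁ V} {k : ℕ}
    {φ : MvPolynomial (Fin k) Γ(Y, V) →+* Γ(X, U)} (hφ : DerSch.IsChart f U V h φ)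
    (hpc : DerSch.ChartPC m K U V φ) : Good f m K U V :=
  ⟨hU, hV, h, k, φ, hφ, (chartPC_iff_test hU φ hφ.1 m K).1 hpc⟩

/-- A chart on a basic open from the localisation. -/
theorem exists_chart_basicOpen (hU : IsAffineOpen U) {h : U ≤ f ⁻¹ᵁ V} {n : ℕ}
    {φ : MvPolynomial (Fin n) Γ(Y, V) →+* Γ(X, U)} (hφ : DerSch.IsChart f U V h φ)
    (p : MvPolynomial (Fin n) Γ(Y, V)) :
    ∃ (h' : X.basicOpen (φ p) ≤ f ⁻¹ᵁ V) (φ' : MvPolynomial (Fin (n + 1)) Γ(Y, V) →+* Γ(X, X.basicOpen (φ p))),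
      DerSch.IsChart f _ V h' φ' ∧
        ∀ (m : ℤ) (K : DCoh.D X), Test m K _ φ' ↔ Test m K _ (awayLift hU φ p) := by
  obtain ⟨π, hπ, hπC, hpc⟩ := PCMor4.pcr_polyAway (L := Localization.Away p) p
  let σ := π.comp (succPoly Γ(Y, V) n).toRingEquiv.toRingHom
  have hσ : Function.Surjective σ := hπ.comp (succPoly Γ(Y, V) n).surjective
  refine ⟨le_trans (X.basicOpen_le _) h, (awayLift hU φ p).comp σ,
    ⟨(awayLift_surjective hU φ hφ.1 p).comp hσ, RingHom.ext fun r => ?_⟩, fun m K => ?_⟩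
  · show awayLift hU φ p (π (succPoly Γ(Y, V) n (C r))) = _
    rw [show succPoly Γ(Y, V) n (C r) = Polynomial.C (C r) from (succPoly Γ(Y, V) n).commutes r,
      show π (Polynomial.C (C r)) = algebraMap _ (Localization.Away p) (C r) from RingHom.congr_fun hπC _,
      show awayLift hU φ p (algebraMap _ _ (C r)) = (X.presheaf.map (homOfLE (X.basicOpen_le (φ p))).op).hom (φ (C r))
        from RingHom.congr_fun (awayLift_comp hU φ p) _,
      show φ (C r) = (f.appLE V U h).hom r from RingHom.congr_fun hφ.2 r]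
    exact ConcreteCategory.congr_hom (Scheme.Hom.appLE_map f h (homOfLE (X.basicOpen_le (φ p))).op) r
  · exact test_comp_iff (hU.basicOpen _) _ (awayLift_surjective hU φ hφ.1 p) σ hσ
      (PCMor4.pcr_comp (PCMor4.pcr_of_bijective _ (succPoly Γ(Y, V) n).bijective) hpc) m K

theorem Good.basicOpen (hg : Good f m K U V) (b : Γ(X, U)) : Good f m K (X.basicOpen b) V := by
  obtain ⟨hU, hV, h, n, φ, hφ, ht⟩ := hg
  obtain ⟨p, rfl⟩ := hφ.1 b
  obtain ⟨h', φ', hφ', e⟩ := exists_chart_basicOpen hU hφ p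
  exact ⟨hU.basicOpen _, hV, h', n + 1, φ', hφ', (e m K).2 (test_basicOpen hU φ hφ.1 p ht)⟩

theorem good_of_basicOpens (hU : IsAffineOpen U) (hV : IsAffineOpen V) {h : U ≤ f ⁻¹ᵁ V} {n : ℕ}
    {φ : MvPolynomial (Fin n) Γ(Y, V) →+* Γ(X, U)} (hφ : DerSch.IsChart f U V h φ)
    (hc : ∀ z : X, z ∈ U → ∃ b : Γ(X, U), z ∈ X.basicOpen b ∧ Good f m K (X.basicOpen b) V) :
    Good f m K U V := by
  refine ⟨hU, hV, h, n, φ, hφ, test_of_cover hU φ hφ.1 fun z hz => ?_⟩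
  obtain ⟨b, hzb, hb⟩ := hc z hz
  obtain ⟨p, rfl⟩ := hφ.1 b
  obtain ⟨h', φ', hφ', e⟩ := exists_chart_basicOpen hU hφ p
  exact ⟨p, hzb, (e m K).1 (hb.test hφ')⟩

theorem isOpenImmersion_specMap_res (hV : IsAffineOpen V) (hV' : IsAffineOpen V') (hle : V' ≤ V) :
    IsOpenImmersion (Spec.map (Y.presheaf.map (homOfLE hle).op)) := by
  haveI : IsIso V'.toSpecΓ := by rw [← hV'.isoSpec_hom]; infer_instance
  haveI : IsIso V.toSpecΓ := by rw [← hV.isoSpec_hom]; infer_instance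
  rw [show Spec.map (Y.presheaf.map (homOfLE hle).op) = CategoryTheory.inv V'.toSpecΓ ≫ Y.homOfLE hle ≫ V.toSpecΓ by
    rw [IsIso.eq_inv_comp]; exact Scheme.Opens.toSpecΓ_SpecMap_presheaf_map _ _ hle]
  infer_instance

theorem isOpenImmersion_specMap_poly {R R' : Type u} [CommRing R] [CommRing R'] (ρ : R →+* R')
    [IsOpenImmersion (Spec.map (CommRingCat.ofHom ρ))] (n : ℕ) :
    IsOpenImmersion (Spec.map (CommRingCat.ofHom (MvPolynomial.map (σ := Fin n) ρ))) := by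
  algebraize [ρ]
  letI : Algebra (MvPolynomial (Fin n) R) (MvPolynomial (Fin n) R') := algebraMvPolynomial
  have hp := CommRingCat.isPushout_of_isPushout R R' (MvPolynomial (Fin n) R) (MvPolynomial (Fin n) R')
  exact MorphismProperty.of_isPullback (isPullback_SpecMap_of_isPushout _ _ _ _ hp)
    (inferInstanceAs (IsOpenImmersion (Spec.map (CommRingCat.ofHom ρ))))

theorem good_iff_of_le (hV : IsAffineOpen V) (hV' : IsAffineOpen V') (hle : V' ≤ V) (hUV' : U ≤ f ⁻¹ᵁ V') :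
    Good f m K U V → Good f m K U V' := by
  rintro ⟨hU, -, h, n, φ, hφ, ht⟩
  let ρ := (Y.presheaf.map (homOfLE hle).op).hom
  haveI : IsOpenImmersion (Spec.map (CommRingCat.ofHom ρ)) := isOpenImmersion_specMap_res hV hV' hle
  haveI := isOpenImmersion_specMap_poly ρ n
  let φ' := eval₂Hom (f.appLE V' U hUV').hom fun i => φ (MvPolynomial.X i)
  have hcomp : φ'.comp (MvPolynomial.map ρ) = (X.presheaf.map (homOfLE (le_refl U)).op).hom.comp φ := by
    refine MvPolynomial.ringHom_ext (fun r => ?_) fun i => ?_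
    · simp only [RingHom.comp_apply, MvPolynomial.map_C, φ', eval₂Hom_C]
      rw [show φ (C r) = (f.appLE V U h).hom r from RingHom.congr_fun hφ.2 r]
      exact (ConcreteCategory.congr_hom (Scheme.Hom.map_appLE f hUV' (homOfLE hle).op) r).trans
        (ConcreteCategory.congr_hom (Scheme.Hom.appLE_map f h (homOfLE (le_refl U)).op) r).symm
    · simp [φ']
  have hs : Function.Surjective φ' := fun b => by
    obtain ⟨p, rfl⟩ := hφ.1 b
    exact ⟨MvPolynomial.map ρ p, (RingHom.congr_fun hcomp p).trans (by simp)⟩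
  exact ⟨hU, hV', hUV', n, φ', ⟨hs, RingHom.ext fun r => eval₂Hom_C _ _ r⟩,
    test_res hU hU le_rfl φ hφ.1 φ' hs _ (imm_comm le_rfl φ φ' _ hcomp) (fun z _ => z.2) ht⟩

theorem good_of_le_of_good (hV : IsAffineOpen V) (hle : V' ≤ V) {h : U ≤ f ⁻¹ᵁ V} {n : ℕ}
    {φ : MvPolynomial (Fin n) Γ(Y, V) →+* Γ(X, U)} (hφ : DerSch.IsChart f U V h φ)
    (hg : Good f m K U V') : Good f m K U V := by
  obtain ⟨hU, hV', hUV', -⟩ := id hg
  let ρ := (Y.presheaf.map (homOfLE hle).op).hom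
  haveI : IsOpenImmersion (Spec.map (CommRingCat.ofHom ρ)) := isOpenImmersion_specMap_res hV hV' hle
  haveI := isOpenImmersion_specMap_poly ρ n
  let φ' := eval₂Hom (f.appLE V' U hUV').hom fun i => φ (MvPolynomial.X i)
  have hcomp : φ'.comp (MvPolynomial.map ρ) = (X.presheaf.map (homOfLE (le_refl U)).op).hom.comp φ := by
    refine MvPolynomial.ringHom_ext (fun r => ?_) fun i => ?_
    · simp only [RingHom.comp_apply, MvPolynomial.map_C, φ', eval₂Hom_C]
      rw [show φ (C r) = (f.appLE V U h).hom r from RingHom.congr_fun hφ.2 r]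
      exact (ConcreteCategory.congr_hom (Scheme.Hom.map_appLE f hUV' (homOfLE hle).op) r).trans
        (ConcreteCategory.congr_hom (Scheme.Hom.appLE_map f h (homOfLE (le_refl U)).op) r).symm
    · simp [φ']
  have hs : Function.Surjective φ' := fun b => by
    obtain ⟨p, rfl⟩ := hφ.1 b
    exact ⟨MvPolynomial.map ρ p, (RingHom.congr_fun hcomp p).trans (by simp)⟩
  have ht' : Test m K U φ' := hg.test (h := hUV') ⟨hs, RingHom.ext fun r => eval₂Hom_C _ _ r⟩
  refine ⟨hU, hV, h, n, φ, hφ, fun _ => approx_of_cover fun x => ?_⟩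
  by_cases hx : x ∈ Set.range (imm U φ)
  · obtain ⟨z, rfl⟩ := hx
    refine ⟨_, Spec.map (CommRingCat.ofHom (MvPolynomial.map ρ)), inferInstance, ⟨imm U φ' z, ?_⟩,
      (test_iff_res hU le_rfl φ φ' hs _ (imm_comm le_rfl φ φ' _ hcomp) (fun w _ => w.2) m K).1 ht'⟩
    rw [← Scheme.Hom.comp_apply, imm_comm le_rfl φ φ' _ hcomp]
    simp
  · let W : (Spec (CommRingCat.of (MvPolynomial (Fin n) Γ(Y, V)))).Opens :=
      ⟨(Set.range (imm U φ))ᶜ, (imm U φ).isClosedEmbedding.isClosed_range.isOpen_compl⟩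
    haveI := isEmpty_compl (imm U φ)
    exact ⟨W, W.ι, inferInstance, ⟨⟨x, hx⟩, rfl⟩,
      (approx_pushD_of_isEmpty (imm U φ ∣_ W) m _).of_iso ((pushBC (isPullback_open (imm U φ) W)).app _).symm⟩

theorem exists_chart_of_lft [LocallyOfFiniteType f] (hU : IsAffineOpen U) (hV : IsAffineOpen V)
    (h : U ≤ f ⁻¹ᵁ V) :
    ∃ (n : ℕ) (φ : MvPolynomial (Fin n) Γ(Y, V) →+* Γ(X, U)), DerSch.IsChart f U V h φ := by
  letI := (f.appLE V U h).hom.toAlgebra
  have hft : Algebra.FiniteType Γ(Y, V) Γ(X, U) := f.finiteType_appLE hV hU h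
  obtain ⟨n, ψ, hψ⟩ := Algebra.FiniteType.iff_quotient_mvPolynomial''.1 hft
  exact ⟨n, ψ.toRingHom, hψ, RingHom.ext fun r => ψ.commutes r⟩

/-- Good on one pair near every point gives good on every pair. -/
theorem good_of_locally [LocallyOfFiniteType f] (hU : IsAffineOpen U) (hV : IsAffineOpen V) (h : U ≤ f ⁻¹ᵁ V)
    (hl : ∀ x : X, x ∈ U → ∃ (U₀ : X.Opens) (V₀ : Y.Opens), x ∈ U₀ ∧ Good f m K U₀ V₀) :
    Good f m K U V := by
  obtain ⟨n, φ, hφ⟩ := exists_chart_of_lft hU hV h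
  refine good_of_basicOpens hU hV hφ fun z hz => ?_
  obtain ⟨U₀, V₀, hz₀, hg⟩ := hl z hz
  obtain ⟨hU₀, hV₀, h₀, -⟩ := id hg
  have hzV : f z ∈ V ⊓ V₀ := ⟨h hz, h₀ hz₀⟩
  obtain ⟨V'', hV'', hzV'', hle⟩ := exists_isAffineOpen_mem_and_subset hzV
  obtain ⟨b, hb, hzb⟩ := hU.exists_basicOpen_le (V := U₀ ⊓ f ⁻¹ᵁ V'') ⟨z, hz₀, hzV''⟩ hz
  obtain ⟨g, g', he, hzg⟩ := exists_basicOpen_le_affine_inter (hU.basicOpen b) hU₀ z ⟨hzb, hz₀⟩
  have h1 : Good f m K (X.basicOpen g) V₀ := by rw [he]; exact hg.basicOpen g'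
  have hgV'' : X.basicOpen g ≤ f ⁻¹ᵁ V'' := (X.basicOpen_le g).trans fun w hw => (hb hw).2
  have h2 := good_iff_of_le (U := X.basicOpen g) hV₀ hV'' (fun w hw => (hle hw).2) hgV'' h1
  obtain ⟨b', hb'⟩ := hU.basicOpen_basicOpen_is_basicOpen b g
  refine ⟨b', hb' ▸ hzg, ?_⟩
  rw [hb']
  obtain ⟨k, ψ, hψ⟩ := exists_chart_of_lft (f := f) ((hU.basicOpen b).basicOpen g) hV
    (le_trans hgV'' fun w hw => (hle hw).1)
  exact good_of_le_of_good hV (fun w hw => (hle hw).1) hψ h2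

theorem exists_good_of_rel (hR : DerSch.IsPseudoCoherentRel f m K) (x : X) :
    ∃ (U : X.Opens) (V : Y.Opens), x ∈ U ∧ Good f m K U V := by
  obtain ⟨-, 𝒱, hV, h⟩ := hR
  have hx : f.base x ∈ (⊤ : Y.Opens) := trivial
  rw [← hV, Opens.mem_iSup] at hx
  obtain ⟨V, hx⟩ := hx
  rw [Opens.mem_iSup] at hx
  obtain ⟨hVm, hx⟩ := hx
  obtain ⟨𝒰, hU, hc⟩ := h V hVm
  have hxU : x ∈ f ⁻¹ᵁ (V : Y.Opens) := hx
  rw [← hU, Opens.mem_iSup] at hxU
  obtain ⟨U, hxU⟩ := hxU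
  rw [Opens.mem_iSup] at hxU
  obtain ⟨hUm, hxU⟩ := hxU
  have hle : (U : X.Opens) ≤ f ⁻¹ᵁ (V : Y.Opens) := hU ▸ le_iSup₂_of_le U hUm le_rfl
  obtain ⟨n, φ, hφ, hpc⟩ := hc U hUm hle
  exact ⟨U, V, hxU, good_of_chartPC U.2 V.2 hφ hpc⟩

/-- Relative pseudo-coherence in terms of all affine pairs. -/
theorem rel_iff : DerSch.IsPseudoCoherentRel f m K ↔
    LocallyOfFiniteType f ∧ ∀ (U : X.Opens) (V : Y.Opens), IsAffineOpen U → IsAffineOpen V → U ≤ f ⁻¹ᵁ V →
      Good f m K U V := by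
  refine ⟨fun hR => ⟨hR.1, fun U V hU hV h => ?_⟩, fun ⟨hf, hg⟩ => ?_⟩
  · haveI := hR.1
    exact good_of_locally hU hV h fun x _ => exists_good_of_rel hR x
  · refine ⟨hf, Set.univ, eq_top_iff.2 fun y _ => ?_, fun V _ =>
      ⟨{U | (U : X.Opens) ≤ f ⁻¹ᵁ (V : Y.Opens)}, le_antisymm (iSup₂_le fun U hU => hU) fun x hx => ?_,
        fun U _ h => ?_⟩⟩
    · obtain ⟨W, hW, hyW, -⟩ := exists_isAffineOpen_mem_and_subset (x := y) (U := ⊤) trivial
      simp only [Opens.mem_iSup]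
      exact ⟨⟨W, hW⟩, Set.mem_univ _, hyW⟩
    · obtain ⟨W, hW, hxW, hWV⟩ := exists_isAffineOpen_mem_and_subset hx
      simp only [Opens.mem_iSup]
      exact ⟨⟨W, hW⟩, hWV, hxW⟩
    · haveI := hf
      obtain ⟨n, φ, hφ⟩ := exists_chart_of_lft U.2 V.2 h
      exact ⟨n, φ, hφ, (hg U V U.2 V.2 h).chartPC hφ⟩

/-- Relative pseudo-coherence from one good pair around every point. -/
theorem rel_of_locally [LocallyOfFiniteType f]
    (h : ∀ x : X, ∃ (U : X.Opens) (V : Y.Opens), x ∈ U ∧ Good f m K U V) :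
    DerSch.IsPseudoCoherentRel f m K :=
  rel_iff.2 ⟨inferInstance, fun _ _ hU hV hle => good_of_locally hU hV hle fun x _ => h x⟩

end Charts

end Groth.Agent.RelPCS8
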