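import Groth.Agent.Lib.RelPCS8.Basic
import Groth.Agent.Lib.PCMor4.Local

/-!
# The chart test on a module placed in degree zero
-/

universe u

open CategoryTheory Limits CategoryTheory.Pretriangulated AlgebraicGeometry Opposite TopologicalSpace

attribute [local instance] HasDerivedCategory.standard

set_option backward.isDefEq.respectTransparency false

namespace Groth.Agent.RelPCS8

variable {X : Scheme.{u}}

theorem approx_inD_spec_iff {A : CommRingCat.{u}} (F : (Spec A).Modules) (hF : Coh.IsQCoh F) (m : ℤ) :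
    DPerf.Approx (Set.Ici m) (DCoh.inD (Spec A) F) ↔
      DRing.IsPseudoCoherentModule A m ((moduleSpecΓFunctor (R := A)).obj F) := by
  refine ⟨fun h => ?_, pc_tilde_module F hF m⟩
  haveI : F.IsQuasicoherent := hF
  refine (DPerf.pc_tilde_iff m _).1 (DPerf.isPseudoCoherentD_of_approx (h.of_iso ?_))
  exact (DerivedCategory.singleFunctor (Spec A).Modules 0).mapIso
    (@asIso _ _ _ _ F.fromTildeΓ (Scheme.Modules.isIso_fromTildeΓ_of_isQuasicoherent (R := A) F)).symm ≪≫
    (((tilde.functor A).mapDerivedCategorySingleFunctor 0).app _).symm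

/-- The chart test for a quasi-coherent module is pseudo-coherence of its sections over the polynomial ring. -/
theorem test_module_iff {U : X.Opens} (hU : IsAffineOpen U) {P : Type u} [CommRing P] (φ : P →+* Γ(X, U))
    (hφ : Function.Surjective φ) (F : X.Modules) (hF : Coh.IsQCoh (F.restrict U.ι)) (m : ℤ) :
    Test m (DCoh.inD X F) U φ ↔
      (letI : Module P Γ(F, U) := Module.compHom Γ(F, U) φ
       DRing.IsPseudoCoherentModule P m Γ(F, U)) := by
  letI : Module P Γ(F, U) := Module.compHom Γ(F, U) φ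
  haveI := isClosedImmersion_imm hU φ hφ
  let g := imm U φ
  let G := (Scheme.Modules.pushforward g).obj (F.restrict U.ι)
  let e : (pushD g).obj ((DPerf.resD U.ι).obj (DCoh.inD X F)) ≅ DCoh.inD _ G :=
    (pushD g).mapIso (((Scheme.Modules.restrictFunctor U.ι).mapDerivedCategorySingleFunctor 0).app F) ≪≫
      ((Scheme.Modules.pushforward g).mapDerivedCategorySingleFunctor 0).app _
  let M : ModuleCat.{u} P := (moduleSpecΓFunctor (R := CommRingCat.of P)).obj G
  let r := (X.presheaf.map (homOfLE (M1.image_ι_top U).le).op).hom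
  let σ : P →+* Γ(X, U.ι ''ᵁ ⊤) :=
    (U.ι.appIso ⊤).inv.hom.comp (g.appTop.hom.comp (Scheme.ΓSpecIso (CommRingCat.of P)).inv.hom)
  have hσ : ∀ p, σ p = r (φ p) := fun p => by
    have h2 : g.appTop ((Scheme.ΓSpecIso (CommRingCat.of P)).inv p) = U.topIso.inv (φ p) := by
      show (U.toSpecΓ ≫ Spec.map (CommRingCat.ofHom φ)).appTop _ = _
      rw [Scheme.Hom.comp_appTop, ConcreteCategory.comp_apply,
        ← ConcreteCategory.comp_apply, ← ConcreteCategory.comp_apply, ← Scheme.ΓSpecIso_inv_naturality_assoc,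
        Scheme.Opens.toSpecΓ_appTop, Iso.inv_hom_id_assoc]
      rfl
    show (U.ι.appIso ⊤).inv _ = _
    rw [RingHom.comp_apply, h2]
    simp [Scheme.Opens.topIso]
    rfl
  let T : Γ(F, U) → ↑M := fun x => M1.mres F (M1.image_ι_top U).le x
  have hTb : Function.Bijective T := by
    refine Function.bijective_iff_has_inverse.2 ⟨fun y => M1.mres F (M1.image_ι_top U).ge y, fun x => ?_, fun y => ?_⟩
    · exact (M1.mres_mres F _ _ x).trans (M1.mres_id F _ x)
    · exact (M1.mres_mres F _ _ _).trans (M1.mres_id F _ y)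
  let eM : Γ(F, U) ≃ₗ[P] M := LinearEquiv.ofBijective
    { toFun := T
      map_add' := fun x y => map_add (M1.mres F (M1.image_ι_top U).le).hom x y
      map_smul' := fun p x => by
        show M1.mres F (M1.image_ι_top U).le (φ p • x) = σ p • M1.mres F (M1.image_ι_top U).le x
        rw [hσ]
        exact F.map_smul (homOfLE (M1.image_ι_top U).le) (φ p) x } hTb
  have key : Test m (DCoh.inD X F) U φ ↔ DPerf.Approx (Set.Ici m) (DCoh.inD _ G) :=
    ⟨fun h => (h inferInstance).of_iso e, fun h _ => h.of_iso e.symm⟩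
  rw [key, approx_inD_spec_iff G (M1.isQCoh_push g hF) m]
  exact ⟨fun h => DMod.pcModule_equiv eM.symm h, fun h => DMod.pcModule_equiv eM h⟩

/-- The chart test for the structure sheaf: the kernel-free form. -/
theorem test_unit_iff {U : X.Opens} (hU : IsAffineOpen U) {P : Type u} [CommRing P] (φ : P →+* Γ(X, U))
    (hφ : Function.Surjective φ) (k : ℕ) :
    Test (-(k : ℤ)) (DCoh.inD X (Coh.structureModule X)) U φ ↔
      (letI := φ.toAlgebra; PCMor4.PCn P k Γ(X, U)) := by
  rw [test_module_iff hU φ hφ _ (M1.isQCoh_restrict (M1.isQCoh_structureModule X) _)]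
  rfl

end Groth.Agent.RelPCS8
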