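import Mathlib
import Groth.Agent.Lib.RelPCS8.CompPC
import Groth.Agent.Lib.PCMor4.BaseChange
import Groth.Agent.Lib.FlatH4.PullFlat

/-!
# Base change and descent of n-pseudo-coherent morphisms
-/

set_option autoImplicit false
set_option backward.isDefEq.respectTransparency false
set_option linter.style.haveILetI false
universe u
open CategoryTheory CategoryTheory.Limits AlgebraicGeometry MvPolynomial
attribute [local instance] HasDerivedCategory.standard
attribute [local instance] MvPolynomial.algebraMvPolynomial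

namespace Groth.Agent.RelPCS8.BasePC

open PCMor4 CompPC TensorProduct

/-- Pseudo-coherence of presentations goes up along `A → A'`. -/
def Up (A A' : Type u) {B : Type u} [CommRing A] [CommRing A'] [CommRing B] [Algebra A A'] (f : A →+* B) (k : ℕ) : Prop :=
  ∀ (n : ℕ) (φ : MvPolynomial (Fin n) A →+* B), φ.comp MvPolynomial.C = f →
    letI := φ.toAlgebra
    PCn (MvPolynomial (Fin n) A) k B →
      PCn (MvPolynomial (Fin n) A') k (MvPolynomial (Fin n) A' ⊗[MvPolynomial (Fin n) A] B)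

/-- Pseudo-coherence of presentations descends along `A → A'`. -/
def Down (A A' : Type u) {B : Type u} [CommRing A] [CommRing A'] [CommRing B] [Algebra A A'] (f : A →+* B) (k : ℕ) : Prop :=
  ∀ (n : ℕ) (φ : MvPolynomial (Fin n) A →+* B), φ.comp MvPolynomial.C = f →
    letI := φ.toAlgebra
    PCn (MvPolynomial (Fin n) A') k (MvPolynomial (Fin n) A' ⊗[MvPolynomial (Fin n) A] B) →
      PCn (MvPolynomial (Fin n) A) k B

variable {X S X' S' : Scheme.{u}} {f : X ⟶ S} {f' : X' ⟶ S'} {g' : X' ⟶ X} {g : S' ⟶ S}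

theorem good_transport [LocallyOfFiniteType f] (hc : IsPullback g' f' f g)
    {U : S.Opens} {U' : S'.Opens} {W : X.Opens} {W' : X'.Opens} (hU : IsAffineOpen U) (hU' : IsAffineOpen U')
    (hW : IsAffineOpen W) (hUU' : U' ≤ g ⁻¹ᵁ U) (hWU : W ≤ f ⁻¹ᵁ U) (hW' : W' = g' ⁻¹ᵁ W ⊓ f' ⁻¹ᵁ U') (k : ℕ)
    (eX : W' ≤ g' ⁻¹ᵁ W) (eY : W' ≤ f' ⁻¹ᵁ U') :
    ((letI := (g.appLE U U' hUU').hom.toAlgebra; Up Γ(S, U) Γ(S', U') (f.appLE U W hWU).hom k) →
      Good f (-(k : ℤ)) (DCoh.inD X (Coh.structureModule X)) W U →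
      Good f' (-(k : ℤ)) (DCoh.inD X' (Coh.structureModule X')) W' U') ∧
    ((letI := (g.appLE U U' hUU').hom.toAlgebra; Down Γ(S, U) Γ(S', U') (f.appLE U W hWU).hom k) →
      Good f' (-(k : ℤ)) (DCoh.inD X' (Coh.structureModule X')) W' U' →
      Good f (-(k : ℤ)) (DCoh.inD X (Coh.structureModule X)) W U) := by
  have hWa : IsAffineOpen W' := FlatH4.isAffineOpen_of_isPullback hc hUU' hWU hW' hU hU' hW
  letI : Algebra Γ(S, U) Γ(S', U') := (g.appLE U U' hUU').hom.toAlgebra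
  letI : Algebra Γ(S, U) Γ(X, W) := (f.appLE U W hWU).hom.toAlgebra
  letI : Algebra Γ(S', U') Γ(X', W') := (f'.appLE U' W' eY).hom.toAlgebra
  letI : Algebra Γ(X, W) Γ(X', W') := (g'.appLE W W' eX).hom.toAlgebra
  letI : Algebra Γ(S, U) Γ(X', W') :=
    ((algebraMap Γ(X, W) Γ(X', W')).comp (algebraMap Γ(S, U) Γ(X, W))).toAlgebra
  haveI : IsScalarTower Γ(S, U) Γ(X, W) Γ(X', W') := IsScalarTower.of_algebraMap_eq fun _ => rfl
  have hT : IsScalarTower Γ(S, U) Γ(S', U') Γ(X', W') := IsScalarTower.of_algebraMap_eq fun r => by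
    show (f.appLE U W hWU ≫ g'.appLE W W' eX) r = (g.appLE U U' hUU' ≫ f'.appLE U' W' eY) r
    rw [Scheme.Hom.appLE_comp_appLE, Scheme.Hom.appLE_comp_appLE]
    simp only [hc.w]
  haveI := hT
  have hP := FlatH4.algebra_isPushout_sections hc hUU' hWU hW' hU hU' hW rfl rfl rfl rfl
  haveI := hP
  obtain ⟨n, φ, hφ⟩ := exists_chart_of_lft (f := f) hW hU hWU
  have hφ' : DerSch.IsChart f' W' U' eY (bcPres (A' := Γ(S', U')) (B' := Γ(X', W')) φ) :=
    ⟨bcPres_surjective φ hφ.1 hφ.2, RingHom.ext fun a => by simp [bcPres]; rfl⟩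
  letI := φ.toAlgebra
  letI := (bcPres (A' := Γ(S', U')) (B' := Γ(X', W')) φ).toAlgebra
  obtain ⟨e⟩ := exists_bc (A' := Γ(S', U')) (B' := Γ(X', W')) φ hφ.2
  refine ⟨fun H h => ?_, fun H h => ?_⟩
  · refine good_of_chartPC hWa hU' hφ' ((chartPC_iff_test hWa _ hφ'.1 _ _).2 ((test_unit_iff hWa _ hφ'.1 k).2 ?_))
    exact pcn_equiv e (H n φ hφ.2 ((test_unit_iff hW φ hφ.1 k).1 (h.test hφ)))
  · refine good_of_chartPC hW hU hφ ((chartPC_iff_test hW _ hφ.1 _ _).2 ((test_unit_iff hW _ hφ.1 k).2 ?_))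
    exact H n φ hφ.2 (pcn_equiv e.symm ((test_unit_iff hWa _ hφ'.1 k).1 (h.test hφ')))

theorem up_of_flat {A A' B : Type u} [CommRing A] [CommRing A'] [CommRing B] [Algebra A A'] [Module.Flat A A']
    (f : A →+* B) (k : ℕ) : Up A A' f k := by
  intro n φ _
  haveI : Module.Flat (MvPolynomial (Fin n) A) (MvPolynomial (Fin n) A') :=
    Module.Flat.of_linearEquiv
      (Algebra.IsPushout.equiv A (MvPolynomial (Fin n) A) A' (MvPolynomial (Fin n) A')).symm.toLinearEquiv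
  letI := φ.toAlgebra
  exact pcn_baseChange k B

theorem down_of_faithfullyFlat {A A' B : Type u} [CommRing A] [CommRing A'] [CommRing B] [Algebra A A']
    [Module.FaithfullyFlat A A'] (f : A →+* B) (k : ℕ) : Down A A' f k := by
  intro n φ _
  haveI : Module.FaithfullyFlat (MvPolynomial (Fin n) A) (MvPolynomial (Fin n) A') :=
    Module.FaithfullyFlat.of_linearEquiv _ _
      (Algebra.IsPushout.equiv A (MvPolynomial (Fin n) A) A' (MvPolynomial (Fin n) A')).symm.toLinearEquiv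
  letI := φ.toAlgebra
  exact pcn_of_faithfullyFlat k B

/-- Tor-independence in the form used: source and target flat over a base. -/
theorem up_of_flat_over {R R' A A' B : Type u} [CommRing R] [CommRing R'] [CommRing A] [CommRing A']
    [CommRing B] [Algebra R R'] [Algebra R A] [Algebra R A'] [Algebra R' A'] [Algebra A A']
    [IsScalarTower R A A'] [IsScalarTower R R' A'] [Algebra.IsPushout R R' A A'] [Module.Flat R A]
    (f : A →+* B) (k : ℕ) (hB : (f.comp (algebraMap R A)).Flat) : Up A A' f k := by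
  intro n φ hC
  letI := φ.toAlgebra
  letI : Module R B := (f.comp (algebraMap R A)).toAlgebra.toModule
  haveI : Module.Flat R B := hB
  haveI : IsScalarTower R (MvPolynomial (Fin n) A) B := ⟨fun r p x => by
    show φ (r • p) * x = f (algebraMap R A r) * (φ p * x)
    rw [Algebra.smul_def, map_mul, ← mul_assoc]
    congr 2
    show φ (C (algebraMap R A r)) = _
    rw [← hC]; rfl⟩
  haveI : Algebra.IsPushout A A' (MvPolynomial (Fin n) A) (MvPolynomial (Fin n) A') := inferInstance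
  haveI : Algebra.IsPushout R A R' A' := Algebra.IsPushout.symm inferInstance
  haveI : Algebra.IsPushout A (MvPolynomial (Fin n) A) A' (MvPolynomial (Fin n) A') := inferInstance
  haveI : IsScalarTower R' A' (MvPolynomial (Fin n) A') := inferInstance
  haveI : IsScalarTower R R' (MvPolynomial (Fin n) A') := inferInstance
  haveI : IsScalarTower R (MvPolynomial (Fin n) A) (MvPolynomial (Fin n) A') :=
    IsScalarTower.of_algebraMap_eq fun r => by
      simp [IsScalarTower.algebraMap_apply R A (MvPolynomial (Fin n) A),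
        IsScalarTower.algebraMap_apply R A (MvPolynomial (Fin n) A')]
  haveI : Algebra.IsPushout R (MvPolynomial (Fin n) A) R' (MvPolynomial (Fin n) A') :=
    (Algebra.IsPushout.comp_iff (R := R) (S := A) (R' := R') (S' := A')).2 inferInstance
  haveI : Algebra.IsPushout R R' (MvPolynomial (Fin n) A) (MvPolynomial (Fin n) A') := Algebra.IsPushout.symm inferInstance
  haveI : Module.Flat R (MvPolynomial (Fin n) A) := Module.Flat.trans R A _
  exact pcn_baseChange_of_flat (A := R) (A' := R') k B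

/-- Flat base change. -/
theorem nPseudoCoherent_baseChange [LocallyOfFiniteType f] [Flat g] (hc : IsPullback g' f' f g) {n : ℤ}
    (hf : DerSch.IsNPseudoCoherent f n) : DerSch.IsNPseudoCoherent f' n := by
  haveI : LocallyOfFiniteType f' := MorphismProperty.of_isPullback hc ‹_›
  rw [nPseudoCoherent_iff] at hf ⊢
  refine rel_of_locally fun x' => ?_
  have hyy : g (f' x') = f (g' x') := by rw [← Scheme.Hom.comp_apply, ← hc.w]; rfl
  obtain ⟨U, hU, hyU, -⟩ :=
    exists_isAffineOpen_mem_and_subset (X := S) (x := f (g' x')) (U := ⊤) trivial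
  obtain ⟨U', hU', hyU', hUU'⟩ :=
    exists_isAffineOpen_mem_and_subset (X := S') (x := f' x') (U := g ⁻¹ᵁ U)
      (show g (f' x') ∈ U by rw [hyy]; exact hyU)
  obtain ⟨W, hW, hxW, hWU⟩ :=
    exists_isAffineOpen_mem_and_subset (X := X) (x := g' x') (U := f ⁻¹ᵁ U) hyU
  refine ⟨g' ⁻¹ᵁ W ⊓ f' ⁻¹ᵁ U', U', ⟨hxW, hyU'⟩, ?_⟩
  by_cases hpos : 0 < n
  · exact good_unit_of_pos f' (FlatH4.isAffineOpen_of_isPullback hc hUU' hWU rfl hU hU' hW) hU' inf_le_right hpos
  obtain ⟨k, rfl⟩ : ∃ k : ℕ, n = -(k : ℤ) := ⟨(-n).toNat, by omega⟩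
  exact (good_transport hc hU hU' hW hUU' hWU rfl k inf_le_left inf_le_right).1
    (@up_of_flat _ _ _ _ _ _ (g.appLE U U' hUU').hom.toAlgebra (Scheme.Hom.flat_appLE g hU hU' hUU') _ k) ((rel_iff.1 hf).2 W U hW hU hWU)

/-- fpqc descent. -/
theorem nPseudoCoherent_descent [LocallyOfFiniteType f] [Flat g] [Surjective g] [QuasiCompact g]
    (hc : IsPullback g' f' f g) {n : ℤ} (hf' : DerSch.IsNPseudoCoherent f' n) :
    DerSch.IsNPseudoCoherent f n := by
  haveI : LocallyOfFiniteType f' := MorphismProperty.of_isPullback hc ‹_›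
  rw [nPseudoCoherent_iff]
  refine rel_of_locally fun x => ?_
  obtain ⟨U, V, hxU, hU, hV, hUV⟩ := exists_affine_pair f x
  refine ⟨U, V, hxU, ?_⟩
  by_cases hpos : 0 < n
  · exact good_unit_of_pos f hU hV hUV hpos
  obtain ⟨k, rfl⟩ : ∃ k : ℕ, n = -(k : ℤ) := ⟨(-n).toNat, by omega⟩
  haveI : CompactSpace (g ⁻¹ᵁ V).toScheme :=
    isCompact_iff_compactSpace.1 (QuasiCompact.isCompact_preimage (f := g) _ V.2 hV.isCompact)
  let 𝒰 := (g ⁻¹ᵁ V).toScheme.affineCover.finiteSubcover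
  let S'' : Scheme.{u} := ∐ fun j => 𝒰.X j
  let p : S'' ⟶ (g ⁻¹ᵁ V).toScheme := Sigma.desc 𝒰.f
  let m : S'' ⟶ S' := p ≫ (g ⁻¹ᵁ V).ι
  haveI := HasRingHomProperty.instIsZariskiLocalAtSource (P := @Flat.{u}) (Q := RingHom.Flat)
  haveI : Flat p := IsZariskiLocalAtSource.sigmaDesc (P := @Flat.{u}) fun j => inferInstance
  have hp : Function.Surjective p := fun z => by
    obtain ⟨y, hy⟩ := 𝒰.covers z
    exact ⟨Sigma.ι (fun j => 𝒰.X j) _ y, by rw [← Scheme.Hom.comp_apply]; simpa [p] using hy⟩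
  haveI : Flat m := inferInstanceAs (Flat (p ≫ _))
  let f'' := pullback.snd f' m
  have hc' : IsPullback (pullback.fst f' m ≫ g') f'' f (m ≫ g) :=
    (IsPullback.of_hasPullback f' m).paste_horiz hc
  have hf'' : DerSch.IsNPseudoCoherent f'' (-(k : ℤ)) :=
    nPseudoCoherent_baseChange (IsPullback.of_hasPullback f' m) hf'
  haveI : LocallyOfFiniteType f'' := MorphismProperty.of_isPullback hc' ‹_›
  rw [nPseudoCoherent_iff] at hf''
  have hle : (⊤ : S''.Opens) ≤ (m ≫ g) ⁻¹ᵁ V := fun z _ => by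
    show g ((g ⁻¹ᵁ V).ι (p z)) ∈ V
    exact (p z).2
  let g'' := pullback.fst f' m ≫ g'
  have hT : IsAffineOpen (⊤ : S''.Opens) := isAffineOpen_top S''
  have hW' : IsAffineOpen (g'' ⁻¹ᵁ U ⊓ f'' ⁻¹ᵁ ⊤) :=
    FlatH4.isAffineOpen_of_isPullback hc' hle hUV rfl hV hT hU
  letI : Algebra Γ(S, V) Γ(S'', ⊤) := ((m ≫ g).appLE V ⊤ hle).hom.toAlgebra
  haveI : Module.Flat Γ(S, V) Γ(S'', ⊤) := Scheme.Hom.flat_appLE (m ≫ g) hV hT hle
  have hff : Module.FaithfullyFlat Γ(S, V) Γ(S'', ⊤) := Module.FaithfullyFlat.of_comap_surjective fun z => by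
    have hzV : hV.fromSpec z ∈ V := by rw [← SetLike.mem_coe, ← hV.range_fromSpec]; exact Set.mem_range_self z
    obtain ⟨y, hy⟩ := g.surjective (hV.fromSpec z)
    obtain ⟨w, hw⟩ := hp ⟨y, by show g y ∈ V; rw [hy]; exact hzV⟩
    refine ⟨hT.primeIdealOf ⟨w, trivial⟩, ?_⟩
    have h1 := IsAffineOpen.comap_primeIdealOf_appLE (f := m ≫ g) V hV ⊤ hT hle (x := w) trivial
    refine h1.trans ?_
    apply hV.fromSpec.isOpenEmbedding.injective
    rw [hV.fromSpec_primeIdealOf]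
    show g ((g ⁻¹ᵁ V).ι (p w)) = _
    rw [hw]
    exact hy
  exact (good_transport hc' hV hT hU hle hUV rfl k inf_le_left inf_le_right).2
    (down_of_faithfullyFlat _ k) ((rel_iff.1 hf'').2 _ ⊤ hW' hT inf_le_right)

/-- Base change of a morphism between flat schemes over a base. -/
theorem nPseudoCoherent_baseChange_over {B B' : Scheme.{u}} {q : S ⟶ B} {q' : S' ⟶ B'} {β : B' ⟶ B}
    [LocallyOfFiniteType f] [Flat q] [Flat (f ≫ q)] (hc : IsPullback g' f' f g) (hY : IsPullback g q' q β) {n : ℤ}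
    (hf : DerSch.IsNPseudoCoherent f n) : DerSch.IsNPseudoCoherent f' n := by
  haveI : LocallyOfFiniteType f' := MorphismProperty.of_isPullback hc ‹_›
  rw [nPseudoCoherent_iff] at hf ⊢
  refine rel_of_locally fun x' => ?_
  obtain ⟨R, hR, hyR, -⟩ :=
    exists_isAffineOpen_mem_and_subset (X := B) (x := q (g (f' x'))) (U := ⊤) trivial
  obtain ⟨R', hR', hyR', hRR'⟩ :=
    exists_isAffineOpen_mem_and_subset (X := B') (x := q' (f' x')) (U := β ⁻¹ᵁ R)
      (show β (q' (f' x')) ∈ R by rwa [← Scheme.Hom.comp_apply q' β, ← hY.w])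
  obtain ⟨U, hU, hyU, hUR⟩ :=
    exists_isAffineOpen_mem_and_subset (X := S) (x := g (f' x')) (U := q ⁻¹ᵁ R) hyR
  let U' := g ⁻¹ᵁ U ⊓ q' ⁻¹ᵁ R'
  have hU' : IsAffineOpen U' := FlatH4.isAffineOpen_of_isPullback hY hRR' hUR rfl hR hR' hU
  have hUU' : U' ≤ g ⁻¹ᵁ U := inf_le_left
  have hU'R : U' ≤ q' ⁻¹ᵁ R' := inf_le_right
  obtain ⟨W, hW, hxW, hWU⟩ :=
    exists_isAffineOpen_mem_and_subset (X := X) (x := g' x') (U := f ⁻¹ᵁ U)
      (show f (g' x') ∈ U by rwa [← Scheme.Hom.comp_apply g' f, hc.w])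
  refine ⟨g' ⁻¹ᵁ W ⊓ f' ⁻¹ᵁ U', U', ⟨hxW, hyU, hyR'⟩, ?_⟩
  by_cases hpos : 0 < n
  · exact good_unit_of_pos f' (FlatH4.isAffineOpen_of_isPullback hc hUU' hWU rfl hU hU' hW) hU' inf_le_right hpos
  obtain ⟨k, rfl⟩ : ∃ k : ℕ, n = -(k : ℤ) := ⟨(-n).toNat, by omega⟩
  letI : Algebra Γ(B, R) Γ(B', R') := (β.appLE R R' hRR').hom.toAlgebra
  letI : Algebra Γ(B, R) Γ(S, U) := (q.appLE R U hUR).hom.toAlgebra
  letI : Algebra Γ(B', R') Γ(S', U') := (q'.appLE R' U' hU'R).hom.toAlgebra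
  letI : Algebra Γ(S, U) Γ(S', U') := (g.appLE U U' hUU').hom.toAlgebra
  letI : Algebra Γ(B, R) Γ(S', U') := ((algebraMap Γ(S, U) Γ(S', U')).comp (algebraMap Γ(B, R) Γ(S, U))).toAlgebra
  haveI : IsScalarTower Γ(B, R) Γ(S, U) Γ(S', U') := IsScalarTower.of_algebraMap_eq fun _ => rfl
  haveI : IsScalarTower Γ(B, R) Γ(B', R') Γ(S', U') := IsScalarTower.of_algebraMap_eq fun r => by
    show (q.appLE R U hUR ≫ g.appLE U U' hUU') r = (β.appLE R R' hRR' ≫ q'.appLE R' U' hU'R) r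
    rw [Scheme.Hom.appLE_comp_appLE, Scheme.Hom.appLE_comp_appLE]
    simp only [hY.w]
  haveI := FlatH4.algebra_isPushout_sections hY hRR' hUR (UY := U') rfl hR hR' hU rfl rfl rfl rfl
  haveI : Module.Flat Γ(B, R) Γ(S, U) := Scheme.Hom.flat_appLE q hR hU hUR
  have hflat : ((f.appLE U W hWU).hom.comp (algebraMap Γ(B, R) Γ(S, U))).Flat := by
    show (q.appLE R U hUR ≫ f.appLE U W hWU).hom.Flat
    rw [Scheme.Hom.appLE_comp_appLE]
    exact Scheme.Hom.flat_appLE (f ≫ q) hR hW _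
  exact (good_transport hc hU hU' hW hUU' hWU rfl k inf_le_left inf_le_right).1
    (up_of_flat_over (R := Γ(B, R)) (R' := Γ(B', R')) _ k hflat) ((rel_iff.1 hf).2 W U hW hU hWU)

end Groth.Agent.RelPCS8.BasePC
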