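import Groth.Agent.Lib.RelPCS8.Local

/-!
# Relative pseudo-coherence: isomorphisms, triangles, summands, open immersions
-/

universe u

open CategoryTheory Limits CategoryTheory.Pretriangulated AlgebraicGeometry Opposite TopologicalSpace MvPolynomial

attribute [local instance] HasDerivedCategory.standard

set_option backward.isDefEq.respectTransparency false

namespace Groth.Agent.RelPCS8

variable {X Y : Scheme.{u}} {f : X ⟶ Y} {m : ℤ} {U : X.Opens} {V : Y.Opens}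

theorem Good.of_iso {K L : DCoh.D X} (e : K ≅ L) (h : Good f m K U V) : Good f m L U V := by
  obtain ⟨hU, hV, hle, n, φ, hφ, ht⟩ := h
  exact ⟨hU, hV, hle, n, φ, hφ, fun _ => (ht inferInstance).of_iso ((pushD (imm U φ)).mapIso ((DPerf.resD U.ι).mapIso e))⟩

theorem Good.mono {K : DCoh.D X} {m' : ℤ} (hm : m ≤ m') (h : Good f m K U V) : Good f m' K U V := by
  obtain ⟨hU, hV, hle, n, φ, hφ, ht⟩ := h
  exact ⟨hU, hV, hle, n, φ, hφ, fun _ => (ht inferInstance).mono_set (Set.Ici_subset_Ici.2 hm)⟩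

theorem good_obj₃ (T : Triangle (DCoh.D X)) (hT : T ∈ distTriang (DCoh.D X))
    (h₁ : Good f (m + 1) T.obj₁ U V) (h₂ : Good f m T.obj₂ U V) : Good f m T.obj₃ U V := by
  obtain ⟨hU, hV, hle, n, φ, hφ, ht⟩ := h₂
  have := h₁.test hφ
  exact ⟨hU, hV, hle, n, φ, hφ, fun _ => DPerf.approx_Ici₃ m _
    ((pushD (imm U φ)).map_distinguished _ ((DPerf.resD U.ι).map_distinguished _ hT)) (this inferInstance) (ht inferInstance)⟩

theorem good_obj₂ (T : Triangle (DCoh.D X)) (hT : T ∈ distTriang (DCoh.D X))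
    (h₁ : Good f m T.obj₁ U V) (h₃ : Good f m T.obj₃ U V) : Good f m T.obj₂ U V := by
  obtain ⟨hU, hV, hle, n, φ, hφ, ht⟩ := h₁
  have := h₃.test hφ
  exact ⟨hU, hV, hle, n, φ, hφ, fun _ => DPerf.approx_Ici₂ m _
    ((pushD (imm U φ)).map_distinguished _ ((DPerf.resD U.ι).map_distinguished _ hT)) (ht inferInstance) (this inferInstance)⟩

theorem good_obj₁ (T : Triangle (DCoh.D X)) (hT : T ∈ distTriang (DCoh.D X))
    (h₂ : Good f (m + 1) T.obj₂ U V) (h₃ : Good f m T.obj₃ U V) : Good f (m + 1) T.obj₁ U V := by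
  obtain ⟨hU, hV, hle, n, φ, hφ, ht⟩ := h₂
  have := h₃.test hφ
  exact ⟨hU, hV, hle, n, φ, hφ, fun _ => DPerf.approx_Ici₁ m _
    ((pushD (imm U φ)).map_distinguished _ ((DPerf.resD U.ι).map_distinguished _ hT)) (ht inferInstance) (this inferInstance)⟩

theorem rel_of_good_iff {K L : DCoh.D X} (hK : DerSch.IsPseudoCoherentRel f m K) {m' : ℤ}
    (h : ∀ U V, Good f m K U V → Good f m' L U V) : DerSch.IsPseudoCoherentRel f m' L :=
  rel_iff.2 ⟨hK.1, fun U V hU hV hle => h U V ((rel_iff.1 hK).2 U V hU hV hle)⟩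

theorem rel_of_iso {K L : DCoh.D X} (e : K ≅ L) (h : DerSch.IsPseudoCoherentRel f m K) :
    DerSch.IsPseudoCoherentRel f m L :=
  rel_of_good_iff h fun _ _ hg => hg.of_iso e

theorem rel_biprod {E K : DCoh.D X} [HasBinaryBiproduct E K]
    (h : DerSch.IsPseudoCoherentRel f m (E ⊞ K)) :
    DerSch.IsPseudoCoherentRel f m E ∧ DerSch.IsPseudoCoherentRel f m K := by
  have key : ∀ U V, Good f m (E ⊞ K) U V → Good f m E U V ∧ Good f m K U V := by
    rintro U V ⟨hU, hV, hle, n, φ, hφ, ht⟩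
    haveI := isClosedImmersion_imm hU φ hφ.1
    let Φ := DPerf.resD U.ι ⋙ pushD (imm U φ)
    haveI := preservesBinaryBiproducts_of_preservesBinaryCoproducts Φ
    haveI : HasBinaryBiproduct (Φ.obj E) (Φ.obj K) := HasBinaryBiproduct.mk
      { bicone := _, isBilimit := isBinaryBilimitOfPreserves Φ (BinaryBiproduct.isBilimit E K) }
    obtain ⟨h1, h2⟩ := DPerf.isPseudoCoherentD_biprod
      (DPerf.isPseudoCoherentD_of_approx ((ht inferInstance).of_iso (Φ.mapBiprod E K)))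
    exact ⟨⟨hU, hV, hle, n, φ, hφ, fun _ => DPerf.approx_of_isPseudoCoherentD h1⟩,
      ⟨hU, hV, hle, n, φ, hφ, fun _ => DPerf.approx_of_isPseudoCoherentD h2⟩⟩
  exact ⟨rel_of_good_iff h fun U V hg => (key U V hg).1, rel_of_good_iff h fun U V hg => (key U V hg).2⟩

section OpenImm

variable {X' : Scheme.{u}} (j : X' ⟶ X) [IsOpenImmersion j]

theorem approx_res_id_iff {s : Set ℤ} {K : DCoh.D X} :
    DPerf.Approx s ((DPerf.resD (𝟙 X)).obj K) ↔ DPerf.Approx s K :=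
  ⟨fun h => approx_of_cover fun x => ⟨X, 𝟙 X, inferInstance, ⟨x, rfl⟩, h⟩, fun h => approx_res h (𝟙 X)⟩

/-- Charts of an open subscheme. -/
theorem test_image_iff (W : X'.Opens) (hW : IsAffineOpen W) {P : Type u} [CommRing P]
    (φ : P →+* Γ(X, j ''ᵁ W)) (hφ : Function.Surjective φ) (K : DCoh.D X) :
    Test m ((DPerf.resD j).obj K) W ((j.appIso W).hom.hom.comp φ) ↔ Test m K (j ''ᵁ W) φ := by
  let φ' := (j.appIso W).hom.hom.comp φ
  have hφ' : Function.Surjective φ' := (ConcreteCategory.bijective_of_isIso (j.appIso W).hom).2.comp hφ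
  haveI := isClosedImmersion_imm hW φ' hφ'
  haveI := isClosedImmersion_imm (hW.image_of_isOpenImmersion j) φ hφ
  let e := j.resLE (j ''ᵁ W) W (j.preimage_image_eq W).ge
  have he : e = (j.isoImage W).hom := by
    rw [← cancel_mono (j ''ᵁ W).ι, Scheme.Hom.resLE_comp_ι, Scheme.Hom.isoImage_hom_ι]
  haveI : IsIso e := by rw [he]; infer_instance
  have hc : imm W φ' = e ≫ imm (j ''ᵁ W) φ := by
    rw [imm_comp]
    simp only [imm, CommRingCat.ofHom_hom, e]
    rw [Scheme.Hom.appIso_hom', ← Scheme.Opens.toSpecΓ_SpecMap_appLE_assoc]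
    simp
  have H : IsPullback (imm W φ') e (𝟙 _) (imm (j ''ᵁ W) φ) :=
    IsPullback.of_vert_isIso ⟨by rw [Category.comp_id, hc]⟩
  let E : (pushD (imm W φ')).obj ((DPerf.resD W.ι).obj ((DPerf.resD j).obj K)) ≅
      (DPerf.resD (𝟙 _)).obj ((pushD (imm (j ''ᵁ W) φ)).obj ((DPerf.resD (j ''ᵁ W).ι).obj K)) :=
    (pushD (imm W φ')).mapIso ((DPerf.resDComp j W.ι).app K ≪≫
      (resDCongr (j := W.ι ≫ j) (j' := e ≫ (j ''ᵁ W).ι) (Scheme.Hom.resLE_comp_ι _ _).symm).app K ≪≫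
      ((DPerf.resDComp (j ''ᵁ W).ι e).app K).symm) ≪≫ ((pushBC H).app _).symm
  exact ⟨fun h _ => approx_res_id_iff.1 ((h inferInstance).of_iso E),
    fun h _ => (approx_res_id_iff.2 (h inferInstance)).of_iso E.symm⟩

theorem good_image {K : DCoh.D X} {W : X'.Opens} (hW : IsAffineOpen W)
    (h : Good f m K (j ''ᵁ W) V) : Good (j ≫ f) m ((DPerf.resD j).obj K) W V := by
  obtain ⟨-, hV, hle, n, φ, hφ, ht⟩ := h
  have hle' : W ≤ (j ≫ f) ⁻¹ᵁ V := fun w hw => hle ⟨w, hw, rfl⟩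
  refine ⟨hW, hV, hle', n, (j.appIso W).hom.hom.comp φ,
    ⟨(ConcreteCategory.bijective_of_isIso (j.appIso W).hom).2.comp hφ.1, ?_⟩,
    (test_image_iff j W hW φ hφ.1 K).2 ht⟩
  rw [RingHom.comp_assoc, hφ.2, ← CommRingCat.hom_comp, Scheme.Hom.appIso_hom',
    Scheme.Hom.appLE_comp_appLE]

theorem good_of_image {K : DCoh.D X} {W : X'.Opens}
    (h : Good (j ≫ f) m ((DPerf.resD j).obj K) W V) : Good f m K (j ''ᵁ W) V := by
  obtain ⟨hW, hV, hle, n, φ, hφ, ht⟩ := h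
  have hle' : j ''ᵁ W ≤ f ⁻¹ᵁ V := by
    rintro _ ⟨w, hw, rfl⟩
    exact hle hw
  let ψ := (j.appIso W).inv.hom.comp φ
  have hψ : Function.Surjective ψ := (ConcreteCategory.bijective_of_isIso (j.appIso W).inv).2.comp hφ.1
  have hψe : (j.appIso W).hom.hom.comp ψ = φ := by
    rw [← RingHom.comp_assoc, ← CommRingCat.hom_comp, Iso.inv_hom_id, CommRingCat.hom_id, RingHom.id_comp]
  refine ⟨hW.image_of_isOpenImmersion j, hV, hle', n, ψ, ⟨hψ, ?_⟩,
    (test_image_iff j W hW ψ hψ K).1 (hψe ▸ ht)⟩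
  rw [RingHom.comp_assoc, hφ.2, ← CommRingCat.hom_comp]
  congr 1
  rw [Iso.comp_inv_eq, Scheme.Hom.appIso_hom', Scheme.Hom.appLE_comp_appLE]

end OpenImm

end Groth.Agent.RelPCS8
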